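import Cfsg.Agent.H62.Order504

/-!
# Simple groups of order `4080`
-/

set_option autoImplicit false
set_option linter.unusedSectionVars false

namespace H62

open Subgroup

variable {G : Type*} [Group G] [Finite G]

theorem card_sylow_prime_eq {p : ℕ} [Fact p.Prime] {m : ℕ} (h : Nat.card G = p * m) (hm : ¬ p ∣ m)
    (P : Sylow p G) : Nat.card (P : Subgroup G) = p := by
  rw [card_sylow_coe (a := 1) (m := m) (by rw [pow_one]; exact h) hm P, pow_one]

/-- The normaliser and centraliser data of a Sylow subgroup of prime order. -/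
theorem sylow_prime_data [IsSimpleGroup G] {p : ℕ} [Fact p.Prime] {m : ℕ}
    (hG : ¬ IsMulCommutative G) (h : Nat.card G = p * m) (hm : ¬ p ∣ m) (P : Sylow p G) :
    ∃ c e, Nat.card (centralizer ((P : Subgroup G) : Set G)) = c ∧ e ∣ p - 1 ∧ 1 < e ∧ p ∣ c ∧
      e * c = Nat.card (normalizer ((P : Subgroup G) : Set G)) ∧
      e * c * Nat.card (Sylow p G) = Nat.card G ∧ Nat.card (Sylow p G) % p = 1 := by
  obtain ⟨c, e, hc, he, hd, he1, hpc⟩ :=
    H65.centralizer_sylow_card P (card_sylow_prime_eq h hm P) hG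
  exact ⟨c, e, hc, hd, he1, hpc, he, by rw [he]; exact card_normalizer_mul P, card_sylow_mod⟩

/-- A simple group of order `4080` is `PSL(2, 16)`. -/
theorem iso_PSL_of_card_4080 [IsSimpleGroup G] (h : Nat.card G = 4080)
    {F : Type*} [Field F] [Fintype F] (hF : Fintype.card F = 16) :
    Nonempty (G ≃* Matrix.ProjectiveSpecialLinearGroup (Fin 2) F) := by
  classical
  haveI : Fact (Nat.Prime 17) := ⟨by norm_num⟩
  haveI : Fact (Nat.Prime 3) := ⟨Nat.prime_three⟩
  haveI : Fact (Nat.Prime 5) := ⟨by norm_num⟩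
  haveI : Fact (Nat.Prime 2) := ⟨Nat.prime_two⟩
  have hG : ¬ IsMulCommutative G := not_comm_of_not_prime (by rw [h]; norm_num)
  have hn17 : Nat.card (Sylow 17 G) = 120 := by
    have hn := sylow_number (p := 17) (a := 1) (m := 240) hG (h.trans (by norm_num)) (by norm_num)
      (by norm_num) 1 (by rw [h]; decide)
    rw [show (Nat.divisors 240).filter (fun d => d % 17 = 1 ∧ 1 < d) = {120} by decide +kernel,
      Finset.mem_singleton] at hn
    exact hn
  have hall : ∀ P : Sylow 17 G, Nat.card (P : Subgroup G) = 17 ∧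
      centralizer ((P : Subgroup G) : Set G) = (P : Subgroup G) ∧
      Nat.card (normalizer ((P : Subgroup G) : Set G)) = 2 * 17 := by
    intro P
    have hm : ¬ 17 ∣ 240 := by norm_num
    obtain ⟨c, e, hc, -, he1, ⟨k, rfl⟩, heN, hn, -⟩ :=
      sylow_prime_data hG (p := 17) (m := 240) (h.trans (by norm_num)) hm P
    rw [hn17, h] at hn
    have he : e = 2 ∧ k = 1 := by
      have h1 : e * k = 2 := by nlinarith
      have := Nat.le_of_dvd (by norm_num) (Dvd.intro k h1)
      interval_cases e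
      omega
    obtain ⟨rfl, rfl⟩ := he
    have hP := card_sylow_prime_eq (p := 17) (m := 240) (h.trans (by norm_num)) hm P
    haveI := isCyclic_of_prime_card hP
    refine ⟨hP, (eq_of_le_of_card_ge (fun y hy => mem_centralizer_iff.2 fun x hx => ?_)
      (by rw [hc, hP])).symm, by rw [← heN]⟩
    have := IsCyclic.isMulCommutative (α := (P : Subgroup G))
    exact congrArg Subtype.val (this.is_comm.comm ⟨x, hx⟩ ⟨y, hy⟩)
  obtain ⟨P⟩ := (inferInstance : Nonempty (Sylow 17 G))
  obtain ⟨hP, hC, hN⟩ := hall P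
  obtain ⟨X, hX, D, c, A, hXD, hqc, hA, hAX, -, heq, hc, -⟩ := dihedral_cases (q := 16) (s := 4)
    (m := 255) hG h hP hC hN (by norm_num) (by norm_num) (by norm_num) (by norm_num)
  rw [show dihedralCands 4080 17 16 = {16} by decide +kernel, Finset.mem_singleton] at hX
  subst hX
  obtain rfl : D = 15 := by rcases hXD with ⟨h1, h2⟩ | ⟨h1, h2⟩ <;> omega
  obtain ⟨t, ht⟩ := exists_prime_orderOf_dvd_card' (G := G) 2 (by rw [h]; norm_num)
  have hc16 : c = 16 := by
    obtain ⟨k, rfl⟩ := hqc
    obtain ⟨h1, h2⟩ := abs_le.1 hA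
    have h3 : ((16 : ℤ) - A) ^ 2 = ((16 * k : ℕ) : ℤ) ^ 2 := by
      push_cast at heq ⊢
      linarith
    have h4 : (16 : ℤ) - A = 16 * k := by
      rcases sq_eq_sq_iff_eq_or_eq_neg.1 h3 with h4 | h4 <;> push_cast at h4 <;> omega
    have : k = 1 ∨ k = 2 := by push_cast at *; omega
    rcases this with rfl | rfl
    · rfl
    · exfalso
      have hd := Subgroup.card_subgroup_dvd_card (centralizer ({t} : Set G))
      rw [hc t ht, h] at hd
      norm_num at hd
  subst hc16
  -- centralisers of elements of order three or five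
  have hC15 : ∀ x : G, x ≠ 1 → x ^ 15 = 1 → Nat.card (centralizer ({x} : Set G)) ∣ 15 := by
    intro x hx1 hx15
    have hd := Subgroup.card_subgroup_dvd_card (centralizer ({x} : Set G))
    rw [h] at hd
    have h17 : ¬ 17 ∣ Nat.card (centralizer ({x} : Set G)) := fun h17 => by
      obtain ⟨⟨y, hyx⟩, hy⟩ := exists_prime_orderOf_dvd_card' 17 h17
      rw [Subgroup.orderOf_mk] at hy
      have hxy : x ∈ centralizer ({y} : Set G) :=
        mem_centralizer_singleton_iff.2 (mem_centralizer_singleton_iff.1 hyx).symm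
      rw [centralizer_singleton_eq_zpowers (fun Q => (hall Q).1) (fun Q => (hall Q).2.1) hy] at hxy
      have h1 := pow_card_eq_one' (x := (⟨x, hxy⟩ : zpowers y))
      rw [Nat.card_zpowers, hy] at h1
      exact hx1 (eq_one_of_pow_coprime (by norm_num : Nat.Coprime 15 17) hx15
        (congrArg Subtype.val h1))
    have h2 : ¬ 2 ∣ Nat.card (centralizer ({x} : Set G)) := fun h2 => by
      obtain ⟨⟨y, hyx⟩, hy⟩ := exists_prime_orderOf_dvd_card' 2 h2
      rw [Subgroup.orderOf_mk] at hy
      have hxy : x ∈ centralizer ({y} : Set G) :=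
        mem_centralizer_singleton_iff.2 (mem_centralizer_singleton_iff.1 hyx).symm
      have h1 := pow_card_eq_one' (x := (⟨x, hxy⟩ : centralizer ({y} : Set G)))
      rw [hc y hy] at h1
      exact hx1 (eq_one_of_pow_coprime (by norm_num : Nat.Coprime 15 16) hx15
        (congrArg Subtype.val h1))
    have hcop : Nat.Coprime (Nat.card (centralizer ({x} : Set G))) (16 * 17) :=
      Nat.Coprime.mul_right ((Nat.prime_two.coprime_iff_not_dvd.2 h2).symm.pow_right 4)
        ((Nat.Prime.coprime_iff_not_dvd (by norm_num)).2 h17).symm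
    exact hcop.dvd_of_dvd_mul_left (n := 15) (by norm_num at hd ⊢; exact hd)
  have hgen : ∀ {p : ℕ} [Fact p.Prime] (Q : Sylow p G), Nat.card (Q : Subgroup G) = p → p ∣ 15 →
      ∃ x : G, orderOf x = p ∧
        Nat.card (centralizer ((Q : Subgroup G) : Set G)) ∣ 15 := by
    intro p hp Q hQ hp15
    obtain ⟨x, hxQ, hx1, hxo⟩ := H65.exists_sylow_generator Q hQ
    refine ⟨x, hxo, (card_dvd_of_le (fun y hy => ?_)).trans (hC15 x hx1 ?_)⟩
    · exact mem_centralizer_singleton_iff.2 (mem_centralizer_iff.1 hy x hxQ).symm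
    · exact orderOf_dvd_iff_pow_eq_one.1 (hxo ▸ hp15)
  have hn3 : ∀ Q : Sylow 3 G, Nat.card (Sylow 3 G) = 136 ∧
      Nat.card (centralizer ((Q : Subgroup G) : Set G)) = 15 := by
    intro Q
    obtain ⟨k, e, hk, hed, he1, h3k, -, hn, hmod⟩ :=
      sylow_prime_data hG (p := 3) (m := 1360) (h.trans (by norm_num)) (by norm_num) Q
    obtain ⟨x, -, hd⟩ := hgen Q
      (card_sylow_prime_eq (p := 3) (m := 1360) (h.trans (by norm_num)) (by norm_num) Q) (by norm_num)
    rw [hk] at hd ⊢
    rw [h] at hn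
    obtain ⟨j, rfl⟩ := h3k
    have hj : j ∣ 5 := (Nat.mul_dvd_mul_iff_left (by norm_num : 0 < 3)).1 hd
    have he : e = 2 := by
      have := Nat.le_of_dvd (by norm_num) hed
      omega
    subst he
    rcases (Nat.dvd_prime (by norm_num : Nat.Prime 5)).1 hj with rfl | rfl <;> omega
  have hn5 : Nat.card (Sylow 5 G) = 136 := by
    obtain ⟨Q⟩ := (inferInstance : Nonempty (Sylow 5 G))
    obtain ⟨k, e, hk, hed, he1, h5k, -, hn, hmod⟩ :=
      sylow_prime_data hG (p := 5) (m := 816) (h.trans (by norm_num)) (by norm_num) Q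
    obtain ⟨x, -, hd⟩ := hgen Q
      (card_sylow_prime_eq (p := 5) (m := 816) (h.trans (by norm_num)) (by norm_num) Q) (by norm_num)
    rw [hk] at hd
    rw [h] at hn
    obtain ⟨j, rfl⟩ := h5k
    have hj : j ∣ 3 := (Nat.mul_dvd_mul_iff_left (by norm_num : 0 < 5)).1 hd
    have := Nat.le_of_dvd (by norm_num) hed
    rcases (Nat.dvd_prime Nat.prime_three).1 hj with rfl | rfl <;> interval_cases e <;> omega
  obtain ⟨Q3⟩ := (inferInstance : Nonempty (Sylow 3 G))
  obtain ⟨Q5⟩ := (inferInstance : Nonempty (Sylow 5 G))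
  have hQ3 := card_sylow_prime_eq (p := 3) (m := 1360) (h.trans (by norm_num)) (by norm_num) Q3
  have hQ5 := card_sylow_prime_eq (p := 5) (m := 816) (h.trans (by norm_num)) (by norm_num) Q5
  have hcount3 := card_orderOf_eq_prime Q3 hQ3
  rw [(hn3 Q3).1] at hcount3
  have hcount5 := card_orderOf_eq_prime Q5 hQ5
  rw [hn5] at hcount5
  -- elements of order fifteen
  have hpair : ∀ x : {x : G // orderOf x = 3}, 4 ≤ Nat.card {y : G // orderOf y = 5 ∧ Commute x.1 y} := by
    rintro ⟨x, hx⟩
    obtain ⟨Q, hQ⟩ := (IsPGroup.of_card (n := 1) (by rw [Nat.card_zpowers, hx, pow_one]) :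
      IsPGroup 3 (zpowers x)).exists_le_sylow
    obtain ⟨y, hy⟩ := exists_prime_orderOf_dvd_card' (G := centralizer ((Q : Subgroup G) : Set G)) 5
      (by rw [(hn3 Q).2]; norm_num)
    have hxy : Commute x (y : G) := mem_centralizer_iff.1 y.2 x (hQ (mem_zpowers x))
    have hy' : orderOf (y : G) = 5 := by rw [Subgroup.orderOf_coe, hy]
    have hinj : Function.Injective (fun i : Fin 4 =>
        (⟨(y : G) ^ ((i : ℕ) + 1), by
          refine ⟨?_, hxy.pow_right _⟩
          refine orderOf_eq_prime ?_ (pow_ne_one_of_lt_orderOf (by omega) (by rw [hy']; omega))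
          rw [← pow_mul, mul_comm, pow_mul, ← hy', pow_orderOf_eq_one, one_pow]⟩ : {y : G // orderOf y = 5 ∧ Commute x y})) := by
      intro i j hij
      have h1 : (y : G) ^ ((i : ℕ) + 1) = (y : G) ^ ((j : ℕ) + 1) := congrArg Subtype.val hij
      rw [pow_inj_mod, hy'] at h1
      exact Fin.ext (by omega)
    simpa using Nat.card_le_card_of_injective _ hinj
  let g3 : {x : G // orderOf x = 3} ⊕ {y : G // orderOf y = 5} ⊕
      (Σ x : {x : G // orderOf x = 3}, {y : G // orderOf y = 5 ∧ Commute x.1 y}) →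
      {g : G // g ≠ 1 ∧ g ^ 15 = 1} :=
    Sum.elim (fun x => ⟨x.1, fun h1 => by have := x.2; rw [h1, orderOf_one] at this; omega,
        orderOf_dvd_iff_pow_eq_one.1 (by rw [x.2]; norm_num)⟩)
      (Sum.elim (fun y => ⟨y.1, fun h1 => by have := y.2; rw [h1, orderOf_one] at this; omega,
        orderOf_dvd_iff_pow_eq_one.1 (by rw [y.2]; norm_num)⟩)
      (fun xy => ⟨xy.1.1 * xy.2.1, by
        have ho : orderOf (xy.1.1 * xy.2.1) = 15 := by
          rw [xy.2.2.2.orderOf_mul_eq_mul_orderOf_of_coprime (by rw [xy.1.2, xy.2.2.1]; norm_num),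
            xy.1.2, xy.2.2.1]
        exact ⟨fun h1 => by rw [h1, orderOf_one] at ho; omega,
          orderOf_dvd_iff_pow_eq_one.1 ho.dvd⟩⟩))
  have hg3 : Function.Injective g3 := by
    have ho : ∀ (x : G) (y : G), orderOf x = 3 → orderOf y = 5 → Commute x y →
        orderOf (x * y) = 15 := fun x y hx hy hc => by
      rw [hc.orderOf_mul_eq_mul_orderOf_of_coprime (by rw [hx, hy]; norm_num), hx, hy]
    rintro (a | a | ⟨a, a'⟩) (b | b | ⟨b, b'⟩) hab <;>
      have hv := congrArg Subtype.val hab <;> simp only [g3, Sum.elim_inl, Sum.elim_inr] at hv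
    · exact congrArg Sum.inl (Subtype.ext hv)
    · exact absurd (congrArg orderOf hv) (by rw [a.2, b.2]; norm_num)
    · exact absurd (congrArg orderOf hv) (by rw [a.2, ho _ _ b.2 b'.2.1 b'.2.2]; norm_num)
    · exact absurd (congrArg orderOf hv) (by rw [a.2, b.2]; norm_num)
    · exact congrArg (fun z => Sum.inr (Sum.inl z)) (Subtype.ext hv)
    · exact absurd (congrArg orderOf hv) (by rw [a.2, ho _ _ b.2 b'.2.1 b'.2.2]; norm_num)
    · exact absurd (congrArg orderOf hv) (by rw [b.2, ho _ _ a.2 a'.2.1 a'.2.2]; norm_num)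
    · exact absurd (congrArg orderOf hv) (by rw [b.2, ho _ _ a.2 a'.2.1 a'.2.2]; norm_num)
    · have e1 := congrArg (fun z : G => z ^ 10) hv
      simp only [a'.2.2.mul_pow, b'.2.2.mul_pow] at e1
      have p1 : ∀ {z : G} {k : ℕ}, orderOf z = k → ∀ j, z ^ j = z ^ (j % k) := fun hz j => by
        rw [← hz, pow_mod_orderOf]
      rw [p1 a.2, p1 b.2, p1 a'.2.1, p1 b'.2.1] at e1
      norm_num at e1
      have hab' : a = b := Subtype.ext e1
      subst hab'
      have hab2 : a' = b' := Subtype.ext (mul_left_cancel hv)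
      rw [hab2]
  have h15 : 1904 ≤ Nat.card {g : G // g ≠ 1 ∧ g ^ 15 = 1} := by
    refine le_trans ?_ (Nat.card_le_card_of_injective g3 hg3)
    rw [Nat.card_sum, Nat.card_sum, hcount3, hcount5]
    have : Fintype {x : G // orderOf x = 3} := Fintype.ofFinite _
    rw [Nat.card_sigma]
    have := Finset.card_nsmul_le_sum Finset.univ
      (fun x : {x : G // orderOf x = 3} => Nat.card {y : G // orderOf y = 5 ∧ Commute x.1 y}) 4
      (fun x _ => hpair x)
    rw [Finset.card_univ, ← Nat.card_eq_fintype_card, hcount3, smul_eq_mul] at this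
    omega
  have hcov := cover_of_count (G := G) (k₁ := 2) (k₂ := 15) (k₃ := 17) (by norm_num) (by norm_num)
    (by norm_num) (card_involutions_ge h ht (hc t ht)) h15 (card_prime_pow_eq_one_ge P hP)
    (by rw [h, hn17])
  refine iso_PSL_of_centralizers (s := 4) (m := 255) h (by norm_num) (by norm_num) (by norm_num)
    (by norm_num) (by norm_num) hc (fun g hg => ?_) hF
  rcases hcov g with h1 | h1 | h1
  · exact h1
  · rw [eq_one_of_pow_coprime (by norm_num : Nat.Coprime 16 15) hg h1, one_pow]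
  · rw [eq_one_of_pow_coprime (by norm_num : Nat.Coprime 16 17) hg h1, one_pow]

end H62
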