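import Mathlib
import Cfsg.Agent.H27.ClassNumber
import Cfsg.Agent.H46.Perm

/-!
# The class number of a permutation group of degree `d` is at most `5 ^ (d - 1)`
-/

set_option autoImplicit false

namespace H62

open Equiv MulAction
open scoped Pointwise

theorem classes_le_of_surjective {G H : Type*} [Group G] [Group H] [Finite G] (φ : G →* H)
    (hφ : Function.Surjective φ) : Nat.card (ConjClasses H) ≤ Nat.card (ConjClasses G) :=
  Nat.card_le_card_of_surjective _ (ConjClasses.map_surjective hφ)

theorem classes_le_kernel_mul_range {G H : Type*} [Group G] [Finite G] [Group H] (φ : G →* H) :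
    Nat.card (ConjClasses G) ≤ Nat.card (ConjClasses φ.ker) * Nat.card (ConjClasses φ.range) := by
  classical
  haveI := Fintype.ofFinite G
  refine (H27.class_number_le_normal_mul_quotient φ.ker).trans (Nat.mul_le_mul_left _ ?_)
  haveI : Finite φ.range := Finite.of_surjective _ φ.rangeRestrict_surjective
  exact classes_le_of_surjective (QuotientGroup.quotientKerEquivRange φ).symm.toMonoidHom
    (QuotientGroup.quotientKerEquivRange φ).symm.surjective

/-- The bound for a group acting on a family of sets. -/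
theorem classes_le_of_family {ι : Type} (B : ι → Type) [∀ i, Finite (B i)] (c : ι → ℕ)
    (hB : ∀ i, ∀ H : Subgroup (Perm (B i)), Nat.card (ConjClasses H) ≤ c i) (s : Finset ι) :
    ∀ (N : Type) [Group N] [Finite N] (ψ : ∀ i, N →* Perm (B i)),
      (∀ x, (∀ i ∈ s, ψ i x = 1) → x = 1) → Nat.card (ConjClasses N) ≤ ∏ i ∈ s, c i := by
  classical
  induction s using Finset.induction_on with
  | empty =>
    intro N _ _ ψ h
    haveI : Subsingleton N := ⟨fun a b => by rw [h a (by simp), h b (by simp)]⟩
    haveI : Subsingleton (ConjClasses N) := ⟨fun a b => by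
      obtain ⟨a, rfl⟩ := ConjClasses.exists_rep a
      obtain ⟨b, rfl⟩ := ConjClasses.exists_rep b
      rw [Subsingleton.elim a b]⟩
    rw [Finset.prod_empty]
    exact le_of_eq (Nat.card_unique)
  | insert a s has ih =>
    intro N _ _ ψ h
    rw [Finset.prod_insert has]
    refine (classes_le_kernel_mul_range (ψ a)).trans ?_
    rw [mul_comm (c a)]
    refine Nat.mul_le_mul (ih _ (fun i => (ψ i).comp (ψ a).ker.subtype) fun x hx => Subtype.ext ?_) (hB a _)
    refine h x fun i hi => ?_
    rcases Finset.mem_insert.1 hi with rfl | hi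
    · exact x.2
    · exact hx i hi

theorem classes_perm_le (α : Type) [Fintype α] [DecidableEq α] :
    Nat.card (ConjClasses (Perm α)) ≤ 2 ^ (Fintype.card α - 1) := by
  have h1 : Nat.card (ConjClasses (Perm α)) ≤ Nat.card (Fintype.card α).Partition := by
    refine Nat.card_le_card_of_injective
      (fun C => Quotient.lift (fun σ : Perm α => σ.partition)
        (fun a b h => Perm.partition_eq_of_isConj.1 h) C) ?_
    intro C D h
    obtain ⟨a, rfl⟩ := ConjClasses.exists_rep C
    obtain ⟨b, rfl⟩ := ConjClasses.exists_rep D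
    exact ConjClasses.mk_eq_mk_iff_isConj.2 (Perm.partition_eq_of_isConj.2 h)
  refine h1.trans ((Nat.card_le_card_of_surjective _ Nat.Partition.ofComposition_surj).trans ?_)
  rw [Nat.card_eq_fintype_card, composition_card]

theorem classes_le_of_block {α : Type} [Fintype α] {d : ℕ} (hd : Fintype.card α = d)
    (ih : ∀ m < d, ∀ (β : Type) [Fintype β], Fintype.card β = m →
      ∀ H : Subgroup (Perm β), Nat.card (ConjClasses H) ≤ 5 ^ (m - 1))
    (G : Subgroup (Perm α)) {B : Set α} (hB2 : B.Nontrivial) (hBu : B ≠ Set.univ)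
    (hB : ∀ g : G, ∀ a b : α, a ∈ B → b ∈ B → g • a ∈ B → g • b ∈ B) :
    Nat.card (ConjClasses G) ≤ 5 ^ (d - 1) := by
  classical
  let f : α → Set G := fun x => {g | g • x ∈ B}
  let C : Type := Set.range f
  let f' : α → C := Set.rangeFactorization f
  haveI : Fintype C := Fintype.ofFinite C
  have hstep : ∀ (g : G) (x : α), {k : G | k * g ∈ f x} = f (g • x) := fun g x => by
    ext k; simp [f, mul_smul]
  have hmem : ∀ (g : G) (c : C), {k : G | k * g ∈ (c : Set G)} ∈ Set.range f := by
    rintro g ⟨_, x, rfl⟩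
    exact ⟨g • x, (hstep g x).symm⟩
  let π : G →* Perm C :=
    MonoidHom.mk' (fun g =>
      { toFun := fun c => ⟨_, hmem g c⟩
        invFun := fun c => ⟨_, hmem g⁻¹ c⟩
        left_inv := fun c => Subtype.ext (Set.ext fun k => by simp [mul_assoc])
        right_inv := fun c => Subtype.ext (Set.ext fun k => by simp [mul_assoc]) })
      (fun g h => Equiv.ext fun c => Subtype.ext (Set.ext fun k => by simp [mul_assoc]))
  have hπ : ∀ (g : G) (x : α), π g (f' x) = f' (g • x) := fun g x => Subtype.ext (hstep g x)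
  have hfix : ∀ (n : π.ker) (c : C) (x : α),
      f' ((((n : G) : Perm α)) x) = c ↔ f' x = c := by
    intro n c x
    have h := hπ (n : G) x
    rw [show π (n : G) = 1 from n.2, Perm.one_apply] at h
    rw [h]
    rfl
  let ψ : ∀ c : C, π.ker →* Perm {x // f' x = c} := fun c =>
    MonoidHom.mk' (fun n => ((n : G) : Perm α).subtypePerm (hfix n c))
      (fun n m => Equiv.ext fun x => Subtype.ext rfl)
  obtain ⟨a, ha, b, hb, hab⟩ := hB2
  obtain ⟨y, hy⟩ := (Set.ne_univ_iff_exists_notMem B).1 hBu
  have hab' : f' a = f' b := Subtype.ext (Set.ext fun g => ⟨hB g a b ha hb, hB g b a hb ha⟩)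
  have hsurj : Function.Surjective f' := Set.rangeFactorization_surjective
  have hay : f' a ≠ f' y := fun e => by
    have : (1 : G) ∈ f a ↔ (1 : G) ∈ f y := Iff.of_eq (by rw [show f a = f y from congrArg Subtype.val e])
    simp [f, ha, hy] at this
  have hm1 : 2 ≤ Fintype.card C := Fintype.one_lt_card_iff.2 ⟨_, _, hay⟩
  have hm2 : Fintype.card C < d := hd ▸ Fintype.card_lt_of_surjective_not_injective f' hsurj
    (fun hi => hab (hi hab'))
  have hsum : ∑ c : C, Fintype.card {x // f' x = c} = d := by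
    rw [← Fintype.card_sigma, Fintype.card_congr (Equiv.sigmaFiberEquiv f'), hd]
  have hpos : ∀ c : C, 1 ≤ Fintype.card {x // f' x = c} := fun c =>
    Fintype.card_pos_iff.2 (let ⟨x, h⟩ := hsurj c; ⟨⟨x, h⟩⟩)
  have hlt : ∀ c : C, Fintype.card {x // f' x = c} < d := by
    intro c
    rw [← hd]
    rcases eq_or_ne (f' a) c with h | h
    · exact Fintype.card_subtype_lt (x := y) (fun e => hay (h.trans e.symm))
    · exact Fintype.card_subtype_lt (x := a) h
  have hker : Nat.card (ConjClasses π.ker) ≤ ∏ c : C, 5 ^ (Fintype.card {x // f' x = c} - 1) :=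
    classes_le_of_family (fun c => {x // f' x = c}) _
      (fun c H => ih _ (hlt c) _ rfl H) Finset.univ _ ψ fun n hn =>
        Subtype.ext (Subtype.ext (Equiv.ext fun x =>
          congrArg Subtype.val (Equiv.ext_iff.1 (hn (f' x) (Finset.mem_univ _)) ⟨x, rfl⟩)))
  refine (classes_le_kernel_mul_range π).trans ?_
  refine (Nat.mul_le_mul hker (ih _ hm2 C rfl π.range)).trans (le_of_eq ?_)
  rw [Finset.prod_pow_eq_pow_sum, ← pow_add]
  congr 1
  have : ∑ c : C, (Fintype.card {x // f' x = c} - 1) + Fintype.card C = d := by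
    rw [Fintype.card_eq_sum_ones (α := C), ← Finset.sum_add_distrib, ← hsum]
    exact Finset.sum_congr rfl fun c _ => Nat.sub_add_cancel (hpos c)
  omega

theorem exists_block_of_not_preprimitive {G α : Type} [Group G] [MulAction G α] [Fintype α]
    (h3 : 3 ≤ Fintype.card α) (h : ¬ IsPreprimitive G α) :
    ∃ B : Set α, B.Nontrivial ∧ B ≠ Set.univ ∧
      ∀ g : G, ∀ a b : α, a ∈ B → b ∈ B → g • a ∈ B → g • b ∈ B := by
  classical
  by_cases ht : IsPretransitive G α
  · obtain ⟨B, hB, hBt⟩ : ∃ B : Set α, IsBlock G B ∧ ¬ IsTrivialBlock B := by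
      by_contra hno
      simp only [not_exists, not_and, not_not] at hno
      exact h { isTrivialBlock_of_isBlock := fun {B} hB => hno B hB }
    simp only [IsTrivialBlock, not_or, Set.not_subsingleton_iff] at hBt
    refine ⟨B, hBt.1, hBt.2, fun g a b ha hb hga => ?_⟩
    have : g • B = B := by
      by_contra hne
      exact Set.disjoint_left.1 (hB.disjoint_smul_of_ne hne) (Set.smul_mem_smul_set ha) hga
    exact this ▸ Set.smul_mem_smul_set hb
  · obtain ⟨x, y, hxy⟩ : ∃ x y : α, y ∉ orbit G x := by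
      by_contra hno
      simp only [not_exists, not_not] at hno
      exact ht ⟨fun x y => mem_orbit_iff.1 (hno x y)⟩
    have hinv : ∀ (g : G) (a : α), a ∈ orbit G x → g • a ∈ orbit G x := fun g a ha =>
      mem_orbit_of_mem_orbit g ha
    have hinv' : ∀ (g : G) (a : α), a ∉ orbit G x → g • a ∉ orbit G x := fun g a ha he =>
      ha (by simpa using hinv g⁻¹ _ he)
    by_cases h2 : (orbit G x).Nontrivial
    · exact ⟨orbit G x, h2, fun e => hxy (e ▸ Set.mem_univ y), fun g a b _ hb _ => hinv g b hb⟩
    · refine ⟨(orbit G x)ᶜ, ?_, fun e => ?_, fun g a b _ hb _ => hinv' g b hb⟩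
      · have h1 : ∀ z ∈ orbit G x, z = x := fun z hz => (Set.not_nontrivial_iff.1 h2) hz (mem_orbit_self x)
        obtain ⟨z, -, hz⟩ := Finset.exists_mem_notMem_of_card_lt_card (s := ({x, y} : Finset α))
          (t := Finset.univ) (lt_of_le_of_lt Finset.card_le_two (by rw [Finset.card_univ]; omega))
        simp only [Finset.mem_insert, Finset.mem_singleton, not_or] at hz
        exact ⟨y, hxy, z, fun hm => hz.1 (h1 z hm), fun e => hz.2 e.symm⟩
      · exact (e ▸ Set.mem_univ x : x ∈ (orbit G x)ᶜ) (mem_orbit_self x)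

theorem classes_le_of_alternating_le {α : Type} [Fintype α] [DecidableEq α] {d : ℕ}
    (hd : Fintype.card α = d) (h2 : 2 ≤ d) (G : Subgroup (Perm α)) (hA : alternatingGroup α ≤ G) :
    Nat.card (ConjClasses G) ≤ 5 ^ (d - 1) := by
  have hidx : G.index ≤ 2 := by
    haveI : Nontrivial α := Fintype.one_lt_card_iff_nontrivial.1 (by omega)
    refine (Nat.le_of_dvd ?_ (Subgroup.index_dvd_of_le hA)).trans ?_
    · exact Nat.pos_of_ne_zero Subgroup.index_ne_zero_of_finite
    · rw [alternatingGroup.index_eq_two]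
  refine ((H27.class_number_bounds G).1.trans (Nat.mul_le_mul hidx (classes_perm_le α))).trans ?_
  rw [hd, show d - 1 = d - 2 + 1 by omega, pow_succ, pow_succ]
  have := Nat.pow_le_pow_left (show 2 ≤ 5 by norm_num) (d - 2)
  omega

theorem classes_le_of_primitive {α : Type} [Fintype α] [DecidableEq α] {d : ℕ}
    (hd : Fintype.card α = d)
    (ih : ∀ m < d, ∀ (β : Type) [Fintype β], Fintype.card β = m →
      ∀ H : Subgroup (Perm β), Nat.card (ConjClasses H) ≤ 5 ^ (m - 1))
    (h2 : 2 ≤ d) (G : Subgroup (Perm α)) [IsPreprimitive G α] (hA : ¬ alternatingGroup α ≤ G) :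
    Nat.card (ConjClasses G) ≤ 5 ^ (d - 1) := by
  classical
  obtain ⟨Γ, hΓ, hfree⟩ := H46.exists_large_trivial_meet G hA
  let Δ : Finset α := Γᶜ
  have ht : 2 * Δ.card ≤ d := by
    show 2 * (Γᶜ : Finset α).card ≤ d
    rw [Finset.card_compl, hd]; omega
  let Y : Subgroup G := stabilizer G Δ
  have hidx : Y.index ≤ 2 ^ d := by
    rw [index_stabilizer]
    refine (Set.ncard_le_card _).trans ?_
    rw [Nat.card_eq_fintype_card, Fintype.card_finset, hd]
  have hY : ∀ (n : Y) (x : α), ((n : G) : Perm α) x ∈ Δ ↔ x ∈ Δ := by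
    intro n x
    have h := n.2
    rw [mem_stabilizer_iff] at h
    constructor
    · intro hx
      rw [← h] at hx
      obtain ⟨z, hz, e⟩ := Finset.mem_smul_finset.1 hx
      rwa [← ((n : G) : Perm α).injective e]
    · intro hx
      rw [← h]
      exact Finset.mem_smul_finset.2 ⟨x, hx, rfl⟩
  let ψ : Y →* Perm {x // x ∈ Δ} :=
    MonoidHom.mk' (fun n => ((n : G) : Perm α).subtypePerm (hY n))
      (fun n m => Equiv.ext fun x => Subtype.ext rfl)
  have hψ : Function.Injective ψ := by
    rw [injective_iff_map_eq_one]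
    intro n hn
    refine Subtype.ext (Subtype.ext (hfree _ (n : G).2 fun x hx => ?_))
    by_contra hxΓ
    have hxΔ : x ∈ Δ := Finset.mem_compl.2 hxΓ
    exact Perm.mem_support.1 hx (congrArg Subtype.val (Equiv.ext_iff.1 hn ⟨x, hxΔ⟩))
  have hYk : Nat.card (ConjClasses Y) ≤ 5 ^ (Δ.card - 1) := by
    have e := MonoidHom.ofInjective hψ
    refine (classes_le_of_surjective (G := ψ.range) e.symm.toMonoidHom e.symm.surjective).trans ?_
    exact ih _ (by omega) _ (Fintype.card_coe Δ) ψ.range
  refine ((H27.class_number_bounds Y).2.1.trans (Nat.mul_le_mul hidx hYk)).trans ?_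
  rcases Nat.eq_zero_or_pos Δ.card with h0 | h0
  · rw [h0, Nat.zero_sub, pow_zero, mul_one]
    calc 2 ^ d ≤ 2 ^ (2 * (d - 1)) := Nat.pow_le_pow_right two_pos (by omega)
      _ = 4 ^ (d - 1) := by rw [pow_mul, show (2 : ℕ) ^ 2 = 4 by norm_num]
      _ ≤ 5 ^ (d - 1) := Nat.pow_le_pow_left (by norm_num) _
  · calc 2 ^ d * 5 ^ (Δ.card - 1) ≤ 5 ^ (d - Δ.card) * 5 ^ (Δ.card - 1) := by
          refine Nat.mul_le_mul_right _ ?_
          calc 2 ^ d ≤ 2 ^ (2 * (d - Δ.card)) := Nat.pow_le_pow_right two_pos (by omega)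
            _ = 4 ^ (d - Δ.card) := by rw [pow_mul, show (2 : ℕ) ^ 2 = 4 by norm_num]
            _ ≤ 5 ^ (d - Δ.card) := Nat.pow_le_pow_left (by norm_num) _
      _ = 5 ^ (d - 1) := by rw [← pow_add]; congr 1; omega

/-- A permutation group of degree `d` has at most `5 ^ (d - 1)` conjugacy classes. -/
theorem classes_le_five_pow : ∀ (d : ℕ) (α : Type) [Fintype α], Fintype.card α = d →
    ∀ G : Subgroup (Perm α), Nat.card (ConjClasses G) ≤ 5 ^ (d - 1) := by
  intro d
  induction d using Nat.strong_induction_on with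
  | _ d ih =>
  intro α _ hd G
  classical
  rcases Nat.lt_or_ge d 3 with hd3 | hd3
  · refine (Nat.card_le_card_of_surjective _ (ConjClasses.mk_surjective)).trans ?_
    refine (Subgroup.card_le_card_group G).trans ?_
    rw [Nat.card_perm, Nat.card_eq_fintype_card, hd]
    interval_cases d <;> decide
  by_cases hp : IsPreprimitive G α
  · by_cases hA : alternatingGroup α ≤ G
    · exact classes_le_of_alternating_le hd (by omega) G hA
    · exact classes_le_of_primitive hd ih (by omega) G hA
  · obtain ⟨B, h1, h2, h3⟩ := exists_block_of_not_preprimitive (G := G) (by omega) hp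
    exact classes_le_of_block hd ih G h1 h2 h3

end H62
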