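import Cfsg.Agent.H62.DihedralChar

/-!
# Candidates for the character degrees in the `N = 2p` situation
-/

set_option autoImplicit false
set_option linter.unusedSectionVars false

namespace H62

universe u

/-- The possible pairs of degrees, given the order `n`, the prime `p` and the order `q` of a Sylow
2-subgroup. -/
def dihedralCands (n p q : ℕ) : Finset ℕ :=
  n.divisors.filter (fun X => 1 < X ∧
    (((X + 1) % p = 0 ∧ (X - 1) ∣ n ∧ p * q * q * (X - 1) ≤ 4 * n * X) ∨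
      ((X - 1) % p = 0 ∧ (X + 1) ∣ n ∧ p * q * q * (X + 1) ≤ 4 * n * X)))

theorem dihedral_cases {G : Type u} [Group G] [Finite G] [IsSimpleGroup G] {p n q s m : ℕ}
    [hp : Fact p.Prime] {P : Sylow p G} (hG : ¬ IsMulCommutative G) (hn : Nat.card G = n)
    (hP : Nat.card (P : Subgroup G) = p)
    (hC : Subgroup.centralizer ((P : Subgroup G) : Set G) = (P : Subgroup G))
    (hN : Nat.card (Subgroup.normalizer ((P : Subgroup G) : Set G)) = 2 * p) (hp5 : 5 ≤ p)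
    (hq : n = 2 ^ s * m) (hm : ¬ 2 ∣ m) (hqs : q = 2 ^ s) :
    ∃ X ∈ dihedralCands n p q, ∃ (D c : ℕ) (A : ℤ),
      (X = D + 1 ∧ p ∣ X + 1 ∨ D = X + 1 ∧ p ∣ X - 1) ∧ q ∣ c ∧ |A| ≤ (X : ℤ) ∧ A ≠ (X : ℤ) ∧
      (4 : ℤ) ∣ (X : ℤ) - A ∧ (n : ℤ) * ((X : ℤ) - A) ^ 2 = (p : ℤ) * (c : ℤ) ^ 2 * X * D ∧
      (∀ t : G, orderOf t = 2 → Nat.card (Subgroup.centralizer ({t} : Set G)) = c) ∧
      ∀ t z : G, orderOf t = 2 → orderOf z = 2 → IsConj t z := by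
  have := Fintype.ofFinite G
  obtain ⟨X, D, c, A, hXD, hX1, hXn, hDn, hA, hAX, h4, heq, hc, hconj⟩ :=
    dihedral_data hG hP hC hN hp5
  rw [hn] at hXn hDn heq
  haveI : Fact (Nat.Prime 2) := ⟨Nat.prime_two⟩
  have h2G : 2 ∣ Nat.card G :=
    (dvd_mul_right 2 p).trans (hN ▸ Subgroup.card_subgroup_dvd_card _)
  obtain ⟨t, S, ht, hS⟩ := exists_involution_sylow_le h2G
  have hqc : q ∣ c := by
    rw [← hc t ht, hqs, ← card_sylow_coe (hn.trans hq) hm S]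
    exact Subgroup.card_dvd_of_le hS
  have hbound : p * q * q * D ≤ 4 * n * X := by
    have hc0 : 0 < c := hc t ht ▸ Nat.card_pos
    have hqc' : (q : ℤ) ≤ c := by exact_mod_cast Nat.le_of_dvd hc0 hqc
    have h1 : ((X : ℤ) - A) ^ 2 ≤ 4 * (X : ℤ) ^ 2 := by
      obtain ⟨h5, h6⟩ := abs_le.1 hA
      nlinarith
    have h2 : (p : ℤ) * q ^ 2 * X * D ≤ (p : ℤ) * c ^ 2 * X * D := by gcongr
    have h3 : (p : ℤ) * q ^ 2 * X * D ≤ (n : ℤ) * (4 * (X : ℤ) ^ 2) :=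
      h2.trans (heq ▸ mul_le_mul_of_nonneg_left h1 (Int.natCast_nonneg n))
    have h4' : ((p * q * q * D : ℕ) : ℤ) * X ≤ ((4 * n * X : ℕ) : ℤ) * X := by
      push_cast; linarith
    exact_mod_cast le_of_mul_le_mul_right h4' (by omega)
  refine ⟨X, ?_, D, c, A, hXD, hqc, hA, hAX, h4, heq, hc, hconj⟩
  have hn0 : n ≠ 0 := hn ▸ Nat.card_pos.ne'
  rw [dihedralCands, Finset.mem_filter, Nat.mem_divisors]
  refine ⟨⟨hXn, hn0⟩, hX1, ?_⟩
  rcases hXD with ⟨h, hd⟩ | ⟨h, hd⟩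
  · have hD : X - 1 = D := by omega
    exact Or.inl ⟨Nat.mod_eq_zero_of_dvd hd, hD ▸ hDn, hD ▸ hbound⟩
  · exact Or.inr ⟨Nat.mod_eq_zero_of_dvd hd, h ▸ hDn, h ▸ hbound⟩

end H62
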