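/-
Degrees in the principal block at a Sylow subgroup of prime order, as a test on the group order.
-/
import Cfsg.Agent.H20.PrincipalPrime
import Cfsg.Agent.H62.Order5472
import Cfsg.Agent.H32.ExactSieve

set_option autoImplicit false
set_option linter.unusedSectionVars false
set_option linter.style.haveILetI false
set_option maxHeartbeats 800000

open Cfsg

namespace H62
namespace SmallRange

universe u

/-- A multiset of roots of unity whose power sums are `p`-periodic off the multiples of `p`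
either consists of `p`-th roots of unity or has at least `p` members. -/
theorem le_card_of_periodic {d N p : ℕ} (hp : p.Prime) (hN : 0 < N) (hpN : p ∣ N)
    (μ : Fin d → ℂ) (hμ : ∀ i, μ i ^ N = 1)
    (hper : ∀ n : ℕ, ¬ p ∣ n → ∑ i, μ i ^ (n + p) = ∑ i, μ i ^ n) {i₀ : Fin d}
    (hi₀ : μ i₀ ^ p ≠ 1) : p ≤ d := by
  classical
  set v := μ i₀ with hv
  set cnt : ℂ → ℕ := fun w => (Finset.univ.filter fun i => μ i = w).card with hcnt
  have key : ∀ w : ℂ, w ^ N = 1 →
      ∑ n ∈ Finset.range N, (∑ i, μ i ^ n * (μ i ^ p - 1)) * w⁻¹ ^ n =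
        (N : ℂ) * (cnt w : ℂ) * (w ^ p - 1) := by
    intro w hw
    have hw0 : w ≠ 0 := fun h => by rw [h, zero_pow hN.ne'] at hw; exact zero_ne_one hw
    simp only [Finset.sum_mul]
    rw [Finset.sum_comm]
    have h1 : ∀ i, ∑ n ∈ Finset.range N, μ i ^ n * (μ i ^ p - 1) * w⁻¹ ^ n =
        if μ i = w then (N : ℂ) * (w ^ p - 1) else 0 := by
      intro i
      have e : ∀ n, μ i ^ n * (μ i ^ p - 1) * w⁻¹ ^ n = (μ i * w⁻¹) ^ n * (μ i ^ p - 1) :=
        fun n => by rw [mul_pow]; ring
      simp only [e, ← Finset.sum_mul]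
      by_cases h : μ i = w
      · rw [if_pos h, h, mul_inv_cancel₀ hw0]
        simp
      · rw [if_neg h]
        have hne : μ i * w⁻¹ ≠ 1 := fun h' => h (by
          rw [mul_inv_eq_one₀ hw0] at h'; exact h')
        rw [geom_sum_eq hne, mul_pow, inv_pow, hμ, hw]
        simp
    simp only [h1]
    rw [← Finset.sum_filter, Finset.sum_const, nsmul_eq_mul, hcnt]
    ring
  have hprim := Complex.isPrimitiveRoot_exp p hp.ne_zero
  set ω := Complex.exp (2 * Real.pi * Complex.I / p) with hω
  have hωp : ω ^ p = 1 := hprim.pow_eq_one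
  have hfind : ∀ j < p, ∃ i, μ i = ω ^ j * v := by
    intro j _
    set w := ω ^ j * v with hwdef
    have hωj : (ω ^ j) ^ p = 1 := by rw [← pow_mul, mul_comm, pow_mul, hωp, one_pow]
    have hwN : w ^ N = 1 := by
      obtain ⟨r, hr⟩ := hpN
      rw [hwdef, mul_pow, hv, hμ, mul_one, hr, pow_mul, hωj, one_pow]
    have hwp : w ^ p = v ^ p := by rw [hwdef, mul_pow, hωj, one_mul]
    have hsum : ∑ n ∈ Finset.range N, (∑ i, μ i ^ n * (μ i ^ p - 1)) * w⁻¹ ^ n =
        ∑ n ∈ Finset.range N, (∑ i, μ i ^ n * (μ i ^ p - 1)) * v⁻¹ ^ n := by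
      refine Finset.sum_congr rfl fun n _ => ?_
      by_cases hn : p ∣ n
      · obtain ⟨r, rfl⟩ := hn
        congr 1
        rw [pow_mul, pow_mul, inv_pow w, inv_pow v, hwp]
      · have h0 : ∑ i, μ i ^ n * (μ i ^ p - 1) = 0 := by
          simp only [mul_sub, mul_one, Finset.sum_sub_distrib, ← pow_add]
          rw [hper n hn, sub_self]
        rw [h0, zero_mul, zero_mul]
    rw [key w hwN, key v (hμ i₀), hwp] at hsum
    have h2 := mul_right_cancel₀ (sub_ne_zero.2 hi₀) hsum
    have h3 := mul_left_cancel₀ (Nat.cast_ne_zero.2 hN.ne' : (N : ℂ) ≠ 0) h2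
    have h4 : cnt w = cnt v := by exact_mod_cast h3
    have h5 : 0 < cnt v := Finset.card_pos.2 ⟨i₀, by simp [hv]⟩
    rw [← h4] at h5
    obtain ⟨i, hi⟩ := Finset.card_pos.1 h5
    exact ⟨i, (Finset.mem_filter.1 hi).2⟩
  choose f hf using hfind
  have hv0 : v ≠ 0 := fun h => by
    have := hμ i₀
    rw [← hv, h, zero_pow hN.ne'] at this
    exact zero_ne_one this
  have hinj : Function.Injective (fun j : Fin p => f j j.2) := by
    intro a b hab
    have h1 := (hf a a.2).symm.trans ((congrArg μ hab).trans (hf b b.2))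
    exact Fin.ext (hprim.pow_inj a.2 b.2 (mul_right_cancel₀ hv0 h1))
  simpa using Fintype.card_le_of_injective _ hinj

variable {G : Type u} [Group G] [Fintype G] {p : ℕ} [hp : Fact p.Prime] {P : Sylow p G}

/-- In a simple group a nontrivial character of the principal block has degree at least `p` unless
the Sylow subgroup of order `p` is self-centralising. -/
theorem le_degree_of_principal [IsSimpleGroup G] (hP : Nat.card (P : Subgroup G) = p) {M : Ideal AlgInt}
    [M.IsPrime] (hM : IsPModular p M) {χ : IrrCharacter G} (hχ : χ ∈ principalBlock M G)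
    (hχ1 : χ ≠ H12.oneIrr G) {y : G}
    (hy : y ∈ Subgroup.centralizer ((P : Subgroup G) : Set G)) (hy1 : y ≠ 1)
    (hyp : ¬ p ∣ orderOf y) : p ≤ H12.degree (χ : G → ℂ) := by
  classical
  obtain ⟨x, hx, hx1⟩ := (P : Subgroup G).bot_or_exists_ne_one.resolve_left fun h =>
    hp.out.one_lt.ne' (by rw [← hP, h, Subgroup.card_bot])
  have hxord : orderOf x = p := orderOf_eq_prime (pow_card_of_mem hP hx) hx1
  obtain ⟨n, ρ, hirr, hval⟩ := χ.2
  set g := x * y with hg
  obtain ⟨μ, hμ, hpow, -⟩ := H12.exists_char_eigenvalues ρ g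
  have hxy : Commute x y := hy x hx
  have hpg : p ∣ orderOf g := by
    have hcop : (orderOf x).Coprime (orderOf y) := by
      rw [hxord]; exact hp.out.coprime_iff_not_dvd.2 hyp
    rw [hg, hxy.orderOf_mul_eq_mul_orderOf_of_coprime hcop, hxord]
    exact dvd_mul_right p _
  have hdeg : H12.degree (χ : G → ℂ) = Module.finrank ℂ (Fin n → ℂ) := by
    rw [← hval, H12.degree_character]
  have hshift : ∀ k : ℕ, ¬ p ∣ k → (χ : G → ℂ) (g ^ k) = (χ : G → ℂ) (x ^ k) := by
    intro k hk
    rw [hg, hxy.mul_pow]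
    refine H20.PrimeSylow.apply_shift_frame hP hM hχ ((P : Subgroup G).pow_mem hx k) (fun h => hk ?_)
      (pow_mem hy k) (fun h => hyp (h.trans (orderOf_pow_dvd k)))
    rw [← hxord]; exact orderOf_dvd_of_pow_eq_one h
  by_cases hall : ∀ i, μ i ^ p = 1
  · exfalso
    have hgp : (χ : G → ℂ) (g ^ p) = (H12.degree (χ : G → ℂ) : ℂ) := by
      rw [← hval, hpow, H12.degree_character]
      simp [hall]
    refine hχ1 (irr_eq_one_of_apply_eq_degree χ (fun h => hy1 ?_) hgp)
    rw [hg, hxy.mul_pow, pow_card_of_mem hP hx, one_mul] at h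
    exact orderOf_eq_one_iff.1 ((Nat.dvd_prime hp.out).1 (orderOf_dvd_of_pow_eq_one h) |>.resolve_right
      fun h' => hyp (h' ▸ dvd_refl _))
  · push Not at hall
    obtain ⟨i₀, hi₀⟩ := hall
    rw [hdeg]
    refine le_card_of_periodic hp.out (orderOf_pos g) hpg μ hμ (fun k hk => ?_) hi₀
    have hk' : ¬ p ∣ k + p := fun h => hk ((Nat.dvd_add_left dvd_rfl).1 h)
    rw [← hpow, ← hpow, hval, hshift _ hk', hshift _ hk, pow_add, pow_card_of_mem hP hx, mul_one]

/-- The possible degrees of nontrivial principal-block characters. -/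
def degCands (D : List ℕ) (n p c : ℕ) : List ℤ :=
  (D.filter fun d => (2 < d) && (n % d == 0) && (d * d < n) && ((c == p) || (p ≤ d))).map fun d : ℕ =>
    (d : ℤ)

/-- The possible values `± degree` congruent to `r` modulo `p`, with the sign of a nonexceptional
character. -/
def signedX (D : List ℕ) (n p c : ℕ) : List ℤ :=
  ((degCands D n p c).filter fun d => (d - 1) % (p : ℤ) == 0) ++
    ((degCands D n p c).filter fun d => (d + 1) % (p : ℤ) == 0).map Neg.neg

/-- The possible values `± degree` of an exceptional character. -/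
def signedY (D : List ℕ) (n p c e : ℕ) : List ℤ :=
  ((degCands D n p c).filter fun d => (d - (e : ℤ)) % (p : ℤ) == 0) ++
    ((degCands D n p c).filter fun d => (d + (e : ℤ)) % (p : ℤ) == 0).map Neg.neg

/-- Sums of `j` members of a list. -/
def sumsOf (L : List ℤ) : ℕ → List ℤ
  | 0 => [0]
  | j + 1 => (sumsOf L j).flatMap fun s => L.map fun x => x + s

theorem mem_sumsOf {ι : Type*} [DecidableEq ι] (L : List ℤ) (f : ι → ℤ) (T : Finset ι)
    (hT : ∀ i ∈ T, f i ∈ L) : ∑ i ∈ T, f i ∈ sumsOf L T.card := by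
  induction T using Finset.induction_on with
  | empty => simp [sumsOf]
  | @insert a T ha ih =>
    rw [Finset.sum_insert ha, Finset.card_insert_of_notMem ha, sumsOf, List.mem_flatMap]
    exact ⟨_, ih fun i hi => hT i (Finset.mem_insert_of_mem hi),
      List.mem_map.2 ⟨f a, hT a (Finset.mem_insert_self a T), rfl⟩⟩

/-- No degrees for the principal block: for the order `n`, the prime `p`, the Sylow number `k` and
the centraliser order `c`. -/
def blockDead (D : List ℕ) (n : ℕ) (t : H32.ExactSieve.Cand) : Bool :=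
  match t with
  | (p, k, c) => decide (2 ≤ n / k / c ∧ n / k / c + 1 < p) &&
    (sumsOf (signedX D n p c) (n / k / c - 1)).all fun s => !(signedY D n p c (n / k / c)).contains (1 + s)

theorem false_of_blockDead {G : Type u} [Group G] [Finite G] [IsSimpleGroup G]
    (hG : ¬ IsMulCommutative G) (heven : Even (Nat.card G)) {D : List ℕ}
    (hD : ∀ d, d ∣ Nat.card G → d ∈ D) {p k c : ℕ} (hf : H32.ExactSieve.Facts G p k c)
    (h : blockDead D (Nat.card G) (p, k, c) = true) : False := by
  classical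
  haveI := Fintype.ofFinite G
  haveI : Fact p.Prime := ⟨hf.prime⟩
  obtain ⟨P⟩ := (inferInstance : Nonempty (Sylow p G))
  have hP := hf.card_P P
  simp only [blockDead, Bool.and_eq_true, decide_eq_true_eq, List.all_eq_true] at h
  obtain ⟨⟨he2, hep⟩, hsum⟩ := h
  set C := Subgroup.centralizer ((P : Subgroup G) : Set G) with hC
  set N := Subgroup.normalizer ((P : Subgroup G) : Set G) with hN
  have hk := card_normalizer_mul P
  rw [hf.card_sylow, ← hN] at hk
  have hcC : Nat.card C = c := hf.card_C P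
  have hc0 : 0 < c := hcC ▸ Nat.card_pos
  have hk0 : 0 < k := hf.card_sylow ▸ Nat.card_pos
  have hrel : C.relIndex N = Nat.card G / k / c := by
    have hCN : C ≤ N := Subgroup.centralizer_le_normalizer _
    have h1 := Subgroup.card_mul_index (C.subgroupOf N)
    rw [Nat.card_congr (Subgroup.subgroupOfEquivOfLe hCN).toEquiv, hcC] at h1
    rw [← hk, Nat.mul_div_cancel _ hk0, ← h1, Nat.mul_div_cancel_left _ hc0]
    rfl
  obtain ⟨M, hM⟩ := H20.exists_isPModular (p := p) hf.prime
  haveI := H20.isPrime_of_modular hM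
  obtain ⟨d0⟩ := H20.PrimeSylow.exists_primeData (P := P) hP hM
  have he : Nat.card (H20.autG (P : Subgroup G)) = Nat.card G / k / c := by
    rw [H20.card_autG]; exact hrel
  have he0 : 0 < Nat.card (H20.autG (P : Subgroup G)) := Nat.card_pos
  generalize Nat.card (H20.autG (P : Subgroup G)) = e at he he0 d0
  rw [← he] at hep hsum he2
  obtain ⟨x, hx, hx1⟩ := (P : Subgroup G).bot_or_exists_ne_one.resolve_left fun h =>
    hf.prime.one_lt.ne' (by rw [← hP, h, Subgroup.card_bot])
  have hdX : ∀ χ ∈ d0.X, (H12.degree (χ : G → ℂ) : ℤ) ≡ d0.εX χ [ZMOD p] := fun χ hχ =>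
    H20.PrimeSylow.degree_modEq hM χ hx (by rw [d0.valX χ hχ x hx hx1, sub_self]; exact H20.memIdeal_zero)
  set one := H12.oneIrr G with hone
  have hone1 : (one : G → ℂ) x = 1 := by rw [hone, H12.oneIrr_apply]
  have honed : H12.degree (one : G → ℂ) = 1 := by
    have : (one : G → ℂ) 1 = (H12.degree (one : G → ℂ) : ℂ) := H12.irr_apply_one one
    rw [hone, H12.oneIrr_apply] at this
    exact_mod_cast this.symm
  have hdY1 : ∀ θ ∈ d0.Y, θ ≠ one := by
    intro θ hθ heq
    have h1 := d0.degY θ hθ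
    rw [heq, honed, Int.modEq_iff_dvd] at h1
    obtain ⟨z, hz⟩ := h1
    have hz1 : -2 < z ∧ z < 2 := by
      have hp2 : (2 : ℤ) ≤ p := by exact_mod_cast hf.prime.two_le
      have hep' : (e : ℤ) + 1 < p := by exact_mod_cast hep
      rcases d0.ε_eq with h' | h' <;> rw [h'] at hz <;> push_cast at hz ⊢ <;>
        constructor <;> nlinarith
    obtain ⟨hz2, hz3⟩ := hz1
    rcases d0.ε_eq with h' | h' <;> rw [h'] at hz <;> interval_cases z <;> push_cast at hz <;> omega
  have hmem : one ∈ d0.X := by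
    have : one ∈ principalBlock M G := H20.mem_blockOf_self (M := M) (H12.oneIrr G)
    rw [d0.union] at this
    exact this.resolve_right fun h => hdY1 one h rfl
  have hεone : d0.εX one = 1 := by
    have := d0.valX one hmem x hx hx1
    rw [hone1] at this
    exact_mod_cast this.symm
  have hcand : ∀ χ ∈ principalBlock M G, χ ≠ one →
      ((H12.degree (χ : G → ℂ) : ℕ) : ℤ) ∈ degCands D (Nat.card G) p c := by
    intro χ hχ hne
    obtain ⟨hd2, hdn, hdsq⟩ := degree_bounds hG heven hne
    simp only [degCands, List.mem_map, List.mem_filter, Bool.and_eq_true, decide_eq_true_eq,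
      beq_iff_eq, Bool.or_eq_true]
    refine ⟨_, ⟨hD _ hdn, ⟨⟨⟨hd2, Nat.mod_eq_zero_of_dvd hdn⟩, hdsq⟩, ?_⟩⟩, rfl⟩
    by_cases hcp : c = p
    · exact Or.inl hcp
    refine Or.inr ?_
    obtain ⟨m, hm⟩ : p ∣ Nat.card C := hP ▸
      Subgroup.card_dvd_of_le (H32.ExactSieve.le_centralizer_self P hP)
    have hnd : ¬ p ∣ m := by
      intro hpm
      have hdd : p * p ∣ Nat.card G := (hm ▸ mul_dvd_mul_left p hpm).trans (C.card_subgroup_dvd_card)
      rw [← pow_two] at hdd
      obtain ⟨Q, hQ⟩ := Sylow.exists_subgroup_card_pow_prime p hdd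
      obtain ⟨R, hR⟩ := (IsPGroup.of_card hQ).exists_le_sylow
      have h2 := Subgroup.card_dvd_of_le hR
      rw [hQ, hf.card_P R, pow_two] at h2
      exact hf.prime.one_lt.ne' (Nat.eq_one_of_mul_eq_one_right
        (Nat.eq_of_mul_eq_mul_left hf.prime.pos (by
          rw [mul_one]; exact le_antisymm (Nat.le_of_dvd hf.prime.pos h2) (Nat.le_mul_self p))))
    have hm1 : m ≠ 1 := fun h1 => hcp (by rw [← hcC, hm, h1, mul_one])
    obtain ⟨r, hr, hrd⟩ := Nat.exists_prime_and_dvd hm1
    haveI : Fact r.Prime := ⟨hr⟩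
    obtain ⟨y, hy⟩ := exists_prime_orderOf_dvd_card' (G := C) r (hm ▸ hrd.mul_left p)
    have hyr : orderOf (y : G) = r := by rw [Subgroup.orderOf_coe, hy]
    refine le_degree_of_principal hP hM hχ hne y.2 (fun h1 => hr.ne_one (by
      rw [← hyr, h1, orderOf_one])) ?_
    rw [hyr]
    intro hpr
    exact hnd ((Nat.prime_dvd_prime_iff_eq hf.prime hr).1 hpr ▸ hrd)
  have hT : ∀ χ ∈ d0.X.toFinset.erase one,
      d0.εX χ * (H12.degree (χ : G → ℂ) : ℤ) ∈ signedX D (Nat.card G) p c := by
    intro χ hχ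
    have hX := Set.mem_toFinset.1 (Finset.mem_of_mem_erase hχ)
    have hd := hcand χ (d0.union ▸ Or.inl hX) (Finset.ne_of_mem_erase hχ)
    have hmod := hdX χ hX
    simp only [signedX, List.mem_append, List.mem_filter, List.mem_map, beq_iff_eq]
    rcases d0.εX_eq χ hX with h' | h' <;> rw [h'] at hmod ⊢
    · exact Or.inl ⟨by simpa using hd, by simpa using Int.modEq_zero_iff_dvd.1 (by simpa using Int.ModEq.sub_right (1 : ℤ) hmod : _ ≡ 0 [ZMOD _])⟩
    · exact Or.inr ⟨_, ⟨hd, by simpa using Int.modEq_zero_iff_dvd.1 (by simpa using Int.ModEq.add_right (1 : ℤ) hmod : _ ≡ 0 [ZMOD _])⟩, by ring⟩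
  obtain ⟨θ, hθ⟩ : d0.Y.Nonempty := by
    have hY := d0.card_Y
    refine Set.nonempty_iff_ne_empty.2 fun h0 => ?_
    rw [h0] at hY
    simp only [Nat.card_of_isEmpty] at hY
    rcases (Nat.div_eq_zero_iff.1 hY.symm) with h1 | h1 <;> omega
  have hY : d0.ε * (H12.degree (θ : G → ℂ) : ℤ) ∈ signedY D (Nat.card G) p c e := by
    have hd := hcand θ (d0.union ▸ Or.inr hθ) (hdY1 θ hθ)
    have hmod := d0.degY θ hθ
    simp only [signedY, List.mem_append, List.mem_filter, List.mem_map, beq_iff_eq]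
    rcases d0.ε_eq with h' | h' <;> rw [h'] at hmod ⊢
    · exact Or.inl ⟨by simpa using hd, by simpa using Int.modEq_zero_iff_dvd.1 (by simpa using Int.ModEq.sub_right (e : ℤ) hmod : _ ≡ 0 [ZMOD _])⟩
    · exact Or.inr ⟨_, ⟨hd, by simpa using Int.modEq_zero_iff_dvd.1 (by simpa using Int.ModEq.add_right (e : ℤ) hmod : _ ≡ 0 [ZMOD _])⟩, by ring⟩
  have hcard : (d0.X.toFinset.erase one).card = e - 1 := by
    rw [Finset.card_erase_of_mem (Set.mem_toFinset.2 hmem), ← Nat.card_eq_card_toFinset, d0.card_X]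
  have hrel1 := d0.rel θ hθ 1 (by rw [orderOf_one]; exact hf.prime.not_dvd_one)
  rw [finsum_mem_eq_toFinset_sum, ← Finset.add_sum_erase _ _ (Set.mem_toFinset.2 hmem), hεone,
    H12.irr_apply_one, H12.irr_apply_one, honed] at hrel1
  simp only [H12.irr_apply_one] at hrel1
  have hrel2 : d0.ε * (H12.degree (θ : G → ℂ) : ℤ) =
      1 + ∑ χ ∈ d0.X.toFinset.erase one, d0.εX χ * (H12.degree (χ : G → ℂ) : ℤ) := by
    have h3 : ((d0.ε * (H12.degree (θ : G → ℂ) : ℤ) : ℤ) : ℂ) =
        ((1 + ∑ χ ∈ d0.X.toFinset.erase one, d0.εX χ * (H12.degree (χ : G → ℂ) : ℤ) : ℤ) : ℂ) := by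
      push_cast
      linear_combination hrel1
    exact_mod_cast h3
  have hbad := hsum _ (hcard ▸ mem_sumsOf _ _ _ hT)
  rw [← hrel2] at hbad
  rw [Bool.not_eq_true'] at hbad
  exact Bool.false_ne_true (hbad.symm.trans (List.contains_iff_mem.2 hY))

end SmallRange
end H62
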