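/-
Restrictions on centralisers from the action on cosets.
-/
import Cfsg.Agent.H70.Order5040Tools
import Cfsg.Agent.H32.ExactSieve
import Cfsg.Agent.H65.CyclicSylow

set_option autoImplicit false
set_option linter.unusedSectionVars false

namespace H62
namespace SmallRange

open Subgroup

variable {G : Type*} [Group G] [Finite G] [IsSimpleGroup G]

/-- The cosets moved by an element of prime order commuting with an element of order `p`. -/
theorem moved_modEq (H : Subgroup G) {p q : ℕ} [Fact p.Prime] [Fact q.Prime] {x y : G}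
    (hy : y ^ q = 1) (hy1 : y ≠ 1) (hH : H ≠ ⊤) (hx : x ^ p = 1) (hxy : Commute x y) :
    Nat.card (MulAction.fixedBy (G ⧸ H) y) < H.index ∧
      H.index % q = Nat.card (MulAction.fixedBy (G ⧸ H) y) % q ∧
      Nat.card (MulAction.fixedBy (G ⧸ H) y) % p =
        Nat.card {c : G ⧸ H // y • c = c ∧ x • c = c} % p := by
  refine ⟨?_, H70.fixedBy_modEq_index H hy, H70.fixedBy_modEq_both H hx hxy⟩
  obtain ⟨z, hz⟩ := H65.exists_not_fixed hH hy1
  exact H70.card_lt_of_not_surjective (fun c : MulAction.fixedBy (G ⧸ H) y => (c : G ⧸ H))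
    Subtype.val_injective fun hs => by
      obtain ⟨⟨w, hw⟩, rfl⟩ := hs z
      exact hz hw

/-- An element of order `p` fixes no coset of a subgroup of order prime to `p`. -/
theorem fixed_none (H : Subgroup G) {p : ℕ} (hp : p.Prime) {x : G} (hx : orderOf x = p)
    (hH : ¬ p ∣ Nat.card H) (c : G ⧸ H) : x • c ≠ c := by
  induction c using QuotientGroup.induction_on with
  | H g =>
    intro h
    rw [MulAction.Quotient.smul_mk, QuotientGroup.eq] at h
    apply hH
    have h1 : g⁻¹ * x * g ∈ H := by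
      have := inv_mem h
      simpa [smul_eq_mul, mul_assoc] using this
    have h2 := orderOf_dvd_natCard (⟨_, h1⟩ : H)
    rw [orderOf_mk] at h2
    have h3 : orderOf (g⁻¹ * x * g) = p := by
      rw [← hx]
      simpa using orderOf_injective (MulAut.conj g⁻¹).toMonoidHom (MulAut.conj g⁻¹).injective x
    rwa [h3] at h2

/-- `|C(P)|` has no prime factor exceeding the number of `P`-orbits of length `p` on the Sylow
subgroups. -/
theorem false_of_orbit (hG : ¬ IsMulCommutative G) {p k c : ℕ}
    (hf : H32.ExactSieve.Facts G p k c) (hpd : p ∣ Nat.card G) {q : ℕ} (hq : q.Prime) (hqp : q ≠ p)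
    (hqc : q ∣ c) (hk : k < p * q) : False := by
  haveI := Fact.mk hf.prime
  haveI := Fact.mk hq
  obtain ⟨P⟩ := (inferInstance : Nonempty (Sylow p G))
  have hP := hf.card_P P
  obtain ⟨x, hx, hxo⟩ := H70.exists_mem_orderOf (P : Subgroup G) p hf.prime (by rw [hP])
  obtain ⟨y, hy, hyo⟩ := H70.exists_mem_orderOf (centralizer ((P : Subgroup G) : Set G)) q hq
    (by rwa [hf.card_C P])
  have hxy : Commute x y := hy x hx
  set H := normalizer ((P : Subgroup G) : Set G) with hH
  have hHi : H.index = k := by rw [← hf.card_sylow]; exact P.card_eq_index_normalizer.symm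
  obtain ⟨hlt, hmq, hmp⟩ := moved_modEq H (p := p) (q := q) (hyo ▸ pow_orderOf_eq_one y)
    (H70.ne_one_of_orderOf_prime hq hyo) (normalizer_sylow_ne_top hG hpd P)
    (hxo ▸ pow_orderOf_eq_one x) hxy
  have hone : Nat.card {c : G ⧸ H // y • c = c ∧ x • c = c} = 1 := by
    have hfx := card_fixedBy_normalizer_eq_one P hP x hxo
    refine le_antisymm ?_ ?_
    · rw [← hfx]
      exact Nat.card_le_card_of_injective
        (fun c => (⟨c.1, c.2.2⟩ : MulAction.fixedBy (G ⧸ H) x))
        fun a b h => Subtype.ext (congrArg (fun z => z.1) h)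
    · haveI : Nonempty {c : G ⧸ H // y • c = c ∧ x • c = c} := by
        refine ⟨⟨((1 : G) : G ⧸ H), ?_, ?_⟩⟩ <;>
          rw [MulAction.Quotient.smul_mk, QuotientGroup.eq, smul_eq_mul, mul_one, mul_one, inv_mem_iff]
        · exact centralizer_le_normalizer _ hy
        · exact le_normalizer hx
      exact Nat.card_pos
  rw [hone] at hmp
  have hk1 : k % p = 1 := by rw [← hf.card_sylow]; exact card_sylow_mod
  rw [Nat.mod_eq_of_lt hf.prime.one_lt] at hmp
  set F := Nat.card (MulAction.fixedBy (G ⧸ H) y)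
  rw [hHi] at hlt hmq
  have h1 : p ∣ k - F := (Nat.modEq_iff_dvd' hlt.le).1 (show F % p = k % p by rw [hmp, hk1])
  have h2 : q ∣ k - F := (Nat.modEq_iff_dvd' hlt.le).1 hmq.symm
  have h3 := Nat.le_of_dvd (by omega) (((Nat.coprime_primes hf.prime hq).2 hqp.symm).mul_dvd_of_dvd_of_dvd h1 h2)
  omega

/-- No involution commutes with an element of order `p` fixing no coset unless four times `p` is at
most the index. -/
theorem false_of_involution (hG : ¬ IsMulCommutative G) (H : Subgroup G) (hH : H ≠ ⊤) {p : ℕ}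
    (hp : p.Prime) (hp2 : p ≠ 2) (hpH : ¬ p ∣ Nat.card H) (hpi : p ∣ H.index) (hi : H.index < 4 * p)
    {x u : G} (hx : orderOf x = p) (hu : orderOf u = 2) (hxu : Commute x u) : False := by
  haveI := Fact.mk hp
  haveI := Fact.mk Nat.prime_two
  obtain ⟨hlt, -, hmp⟩ := moved_modEq H (p := p) (q := 2) (hu ▸ pow_orderOf_eq_one u)
    (fun h => by rw [h, orderOf_one] at hu; omega) hH (hx ▸ pow_orderOf_eq_one x) hxu
  have h4 := (H65.involution_fixedBy hG H hH hu).2
  haveI : IsEmpty {c : G ⧸ H // u • c = c ∧ x • c = c} :=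
    ⟨fun c => fixed_none H hp hx hpH c.1 c.2.2⟩
  rw [Nat.card_of_isEmpty (α := {c : G ⧸ H // u • c = c ∧ x • c = c}), Nat.zero_mod] at hmp
  set F := Nat.card (MulAction.fixedBy (G ⧸ H) u)
  have h1 : p ∣ H.index - F := Nat.dvd_sub hpi (Nat.dvd_of_mod_eq_zero hmp)
  have h2 : 4 ∣ H.index - F := Nat.dvd_of_mod_eq_zero h4
  have hcop : Nat.Coprime p 4 :=
    Nat.Coprime.pow_right 2 ((Nat.coprime_primes hp Nat.prime_two).2 hp2)
  have h3 := Nat.le_of_dvd (by omega) (hcop.mul_dvd_of_dvd_of_dvd h1 h2)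
  omega

/-- With a Sylow 2-subgroup of order four, no element induces an automorphism of order four. -/
theorem false_of_index_four (hG : ¬ IsMulCommutative G) (hn : Nat.card G % 8 = 4) {p k c : ℕ}
    (hf : H32.ExactSieve.Facts G p k c) (he : 4 ∣ Nat.card G / k / c) : False := by
  haveI := Fact.mk hf.prime
  haveI := Fact.mk Nat.prime_two
  obtain ⟨P⟩ := (inferInstance : Nonempty (Sylow p G))
  have hP := hf.card_P P
  set N := normalizer ((P : Subgroup G) : Set G) with hN
  set C := centralizer ((P : Subgroup G) : Set G) with hC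
  have hk := card_normalizer_mul P
  rw [hf.card_sylow, ← hN] at hk
  have hk0 : 0 < k := hf.card_sylow ▸ Nat.card_pos
  obtain ⟨r, hr⟩ : c ∣ Nat.card N := hf.card_C P ▸ card_dvd_of_le (centralizer_le_normalizer _)
  have hc0 : 0 < c := hf.card_C P ▸ Nat.card_pos
  have hre : Nat.card G / k / c = r := by
    rw [← hk, Nat.mul_div_cancel _ hk0, hr, Nat.mul_div_cancel_left _ hc0]
  rw [hre] at he
  obtain ⟨g, -, hg, -⟩ := H70.exists_normalizer_generator P hP (r := r)
    (by rw [hf.card_C P, mul_comm, ← hr, hN])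
  have h4 : 4 ∣ orderOf g := he.trans hg
  set w := g ^ (orderOf g / 4)
  have hw : orderOf w = 4 := orderOf_pow_orderOf_div (orderOf_pos g).ne' h4
  obtain ⟨T, hT⟩ := (IsPGroup.of_card (p := 2) (n := 2)
    (by rw [Nat.card_zpowers, hw]; norm_num) : IsPGroup 2 (zpowers w)).exists_le_sylow
  have hTc : Nat.card (T : Subgroup G) = 4 := by
    obtain ⟨m, hm⟩ : 4 ∣ Nat.card G := Nat.dvd_of_mod_eq_zero (by omega)
    rw [card_sylow_coe (a := 2) (m := m) (by rw [hm]; norm_num) (by omega) T]; norm_num
  have heq : zpowers w = (T : Subgroup G) :=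
    eq_of_le_of_card_ge hT (by rw [hTc, Nat.card_zpowers, hw])
  obtain ⟨K, hK⟩ := H65.exists_index_two_of_cyclic_sylow
    (even_iff_two_dvd.2 (Nat.dvd_of_mod_eq_zero (by omega))) T
    (heq ▸ inferInstance)
  rcases (Subgroup.normal_of_index_eq_two hK).eq_bot_or_eq_top with h1 | h1
  · rw [h1, index_bot] at hK
    omega
  · rw [h1, index_top] at hK
    omega

end SmallRange
end H62
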