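/-
The consistent candidates left by the sieve at the primes dividing the order exactly once.
-/
import Cfsg.Agent.H32.ExactSieve

set_option autoImplicit false

namespace H62
namespace SmallRange

open H32.ExactSieve

/-- The consistent assignments. -/
def sols (D : List ℕ) (n : ℕ) : List ℕ → List Cand → List (List Cand)
  | [], acc => [acc]
  | p :: ps, acc => (opts D n p).flatMap fun h =>
      if acc.all (fun t => okPair D n h t && okPair D n t h) && okCount n h acc then
        sols D n ps (h :: acc)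
      else []

/-- The actual data form one of the consistent assignments. -/
theorem exists_sol {G : Type*} [Group G] [Finite G] [IsSimpleGroup G] (hG : ¬ IsMulCommutative G)
    (D : List ℕ) (hD : ∀ d, d ∣ Nat.card G → d ∈ D) (ps : List ℕ) (hps : ps.Nodup)
    (hpr : ∀ p ∈ ps, p.Prime ∧ p ≠ 2 ∧ p ∣ Nat.card G ∧ Nat.card G % (p * p) ≠ 0) :
    ∃ acc ∈ sols D (Nat.card G) ps [], ∀ t ∈ acc, Facts G t.1 t.2.1 t.2.2 := by
  classical
  have hex : ∀ p : ℕ, ∃ kc : ℕ × ℕ, p ∈ ps → Facts G p kc.1 kc.2 := by
    intro p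
    by_cases hp : p ∈ ps
    · have := Fact.mk (hpr p hp).1
      obtain ⟨k, c, hkc⟩ := exists_facts (G := G) (p := p) (hpr p hp).2.2.2 (hpr p hp).2.2.1
      exact ⟨(k, c), fun _ => hkc⟩
    · exact ⟨(0, 0), fun h => absurd h hp⟩
  choose kc hkc using hex
  let t : ℕ → Cand := fun p => (p, (kc p).1, (kc p).2)
  suffices H : ∀ (l qs : List ℕ), (l ++ qs).Nodup → (∀ p ∈ l ++ qs, p ∈ ps) →
      ∃ qs' : List ℕ, (∀ p ∈ qs', p ∈ ps) ∧ qs'.map t ∈ sols D (Nat.card G) l (qs.map t) by
    obtain ⟨qs', hsub, hmem⟩ := H ps [] (by simpa using hps) (by simp)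
    refine ⟨_, by simpa using hmem, fun s hs => ?_⟩
    obtain ⟨p, hp, rfl⟩ := List.mem_map.mp hs
    exact hkc p (hsub p hp)
  intro l
  induction l with
  | nil => exact fun qs _ hsub => ⟨qs, fun p hp => hsub p (by simpa using hp), by simp [sols]⟩
  | cons p l ih =>
    intro qs hnd hsub
    have hp : p ∈ ps := hsub p (by simp)
    have := Fact.mk (hpr p hp).1
    obtain ⟨hp1, hp2, hp3, hp4⟩ := hpr p hp
    have hok := okOne_of_facts hG hp2 hp3 hp4 (hkc p hp)
    have hmem : t p ∈ opts D (Nat.card G) p := by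
      simp only [opts, List.mem_flatMap, List.mem_map, List.mem_filter, t]
      have hok' := hok
      simp only [okOne, Bool.and_eq_true, Bool.or_eq_true, beq_iff_eq] at hok'
      obtain ⟨⟨⟨⟨⟨⟨⟨a1, a2⟩, a3⟩, a4⟩, a5⟩, -⟩, -⟩, -⟩ := hok'
      have hk : (kc p).1 ∣ Nat.card G :=
        (Nat.dvd_of_mod_eq_zero a2).trans (Nat.div_dvd_of_dvd hp3)
      exact ⟨(kc p).1, ⟨hD _ hk, by simp [a1, a2, a3]⟩, (kc p).2,
        ⟨hD _ ((Nat.dvd_of_mod_eq_zero a5).trans (Nat.div_dvd_of_dvd hk)), hok⟩, rfl⟩
    have hpq : ∀ q ∈ qs, q ≠ p := by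
      intro q hq he
      subst he
      simp at hnd
      exact hnd.1.2 hq
    have hndqs : (p :: qs).Nodup := by
      simp [List.nodup_append] at hnd ⊢
      exact ⟨fun hq => hpq p hq rfl, hnd.2.2.1⟩
    have c1 : (qs.map t).all (fun s => okPair D (Nat.card G) (t p) s &&
        okPair D (Nat.card G) s (t p)) = true := by
      rw [List.all_eq_true]
      intro s hs
      obtain ⟨q, hq, rfl⟩ := List.mem_map.mp hs
      have hq' : q ∈ ps := hsub q (by simp [hq])
      have := Fact.mk (hpr q hq').1
      rw [Bool.and_eq_true]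
      exact ⟨okPair_of_facts D hD (hpq q hq).symm (hkc p hp) (hkc q hq'),
        okPair_of_facts D hD (hpq q hq) (hkc q hq') (hkc p hp)⟩
    have c2 : okCount (Nat.card G) (t p) (qs.map t) = true := by
      rw [okCount, List.all_eq_true]
      intro S hS
      rw [List.mem_sublists, List.sublist_map_iff] at hS
      obtain ⟨S', hS', rfl⟩ := hS
      by_cases hind : indep (t p :: S'.map t) = true
      swap
      · simp [Bool.eq_false_iff.mpr hind]
      have hw := weight_lt (G := G) (fun r => (kc r).1) (fun r => (kc r).2) (p :: S')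
        ((hS'.cons₂ p).nodup hndqs)
        (fun r hr => hkc r (by
          rcases List.mem_cons.mp hr with rfl | hr
          · exact hp
          · exact hsub r (by simp [hS'.subset hr]))) (by simpa [t] using hind)
      simp only [Bool.or_eq_true, decide_eq_true_eq]
      exact Or.inr (by simpa [t] using hw)
    obtain ⟨qs', hsub', hmem'⟩ := ih (p :: qs) (List.nodup_middle.mpr (by simpa using hnd))
      (fun r hr => hsub r (by simp only [List.mem_append, List.mem_cons] at hr ⊢; tauto))
    refine ⟨qs', hsub', ?_⟩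
    rw [sols, List.mem_flatMap]
    exact ⟨t p, hmem, by rw [if_pos (by rw [c1, c2]; rfl)]; simpa using hmem'⟩

end SmallRange
end H62
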