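/-
The orders excluded by the centralisers of Sylow subgroups of prime order.
-/
import Cfsg.Agent.H62.SmallRangeBlock
import Cfsg.Agent.H62.SmallRangeOrbit
import Cfsg.Agent.H62.SmallRangeSolutions
import Cfsg.Agent.H62.SelfCentralNumber
import Cfsg.Agent.H65.SmallSimple

set_option autoImplicit false

namespace H62
namespace SmallRange

open H32.ExactSieve

/-- A candidate excluded by one of the three tests. -/
def badCand (D qs : List ℕ) (n : ℕ) (t : Cand) : Bool :=
  blockDead D n t ||
    (qs.any fun q => (q != t.1) && (t.2.2 % q == 0) && decide (t.2.1 < t.1 * q)) ||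
    ((n % 8 == 4) && ((n / t.2.1 / t.2.2) % 4 == 0))

/-- Every consistent assignment has an excluded candidate. -/
def deadOrder (D ps qs : List ℕ) (n : ℕ) : Bool :=
  (sols D n ps []).all fun acc => acc.any (badCand D qs n)

theorem prime_list {l : List ℕ} (h : l.all H65.trialPrime = true) : ∀ p ∈ l, p.Prime :=
  fun p hp => H65.trialPrime_spec (List.all_eq_true.1 h p hp)

theorem false_of_deadOrder {G : Type*} [Group G] [Finite G] [IsSimpleGroup G] {n : ℕ}
    (hn : Nat.card G = n) (hprime : ¬ n.Prime) (heven : n % 2 = 0) (fs ps qs : List ℕ)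
    (hfs : fs.all H65.trialPrime = true) (hprod : fs.prod = n) (hps : ps.Nodup)
    (hpr : ps.all (fun p => H65.trialPrime p && (p != 2) && (n % p == 0) && (n % (p * p) != 0)) = true)
    (hqs : qs.all H65.trialPrime = true) (h : deadOrder (divList fs) ps qs n = true) : False := by
  have hG : ¬ IsMulCommutative G := not_comm_of_not_prime (hn ▸ hprime)
  have hD : ∀ d, d ∣ Nat.card G → d ∈ divList fs := fun d hd =>
    mem_divList fs (prime_list hfs) d (by rw [hprod, ← hn]; exact hd)
  obtain ⟨acc, hacc, hfacts⟩ := exists_sol hG (divList fs) hD ps hps (fun p hp => by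
    have := List.all_eq_true.1 hpr p hp
    simp only [Bool.and_eq_true, bne_iff_ne, beq_iff_eq] at this
    obtain ⟨⟨⟨a1, a2⟩, a3⟩, a4⟩ := this
    exact ⟨H65.trialPrime_spec a1, a2, hn ▸ Nat.dvd_of_mod_eq_zero a3, hn ▸ a4⟩)
  rw [deadOrder, List.all_eq_true] at h
  obtain ⟨⟨p, k, c⟩, ht, hb⟩ := List.any_eq_true.1 (h acc (hn ▸ hacc))
  have hf := hfacts _ ht
  simp only [badCand, Bool.or_eq_true, Bool.and_eq_true, beq_iff_eq, List.any_eq_true,
    decide_eq_true_eq, bne_iff_ne] at hb
  rcases hb with (hb | ⟨q, hq, ⟨hqp, hqc⟩, hk⟩) | ⟨h8, h4⟩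
  · exact false_of_blockDead hG (hn ▸ Nat.even_iff.2 heven) hD hf (hn ▸ hb)
  · haveI := Fact.mk hf.prime
    refine false_of_orbit hG hf ?_ (prime_list hqs q hq) hqp (Nat.dvd_of_mod_eq_zero hqc) hk
    obtain ⟨P⟩ := (inferInstance : Nonempty (Sylow p G))
    exact hf.card_P P ▸ Subgroup.card_subgroup_dvd_card _
  · exact false_of_index_four hG (hn ▸ h8) hf (hn ▸ Nat.dvd_of_mod_eq_zero h4)

variable {G : Type*} [Group G] [Finite G] [IsSimpleGroup G]

theorem card_ne_3696 : Nat.card G ≠ 3696 := fun h => false_of_deadOrder h (by norm_num) rfl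
  [2, 2, 2, 2, 3, 7, 11] [11, 7, 3] [] (by decide) (by decide) (by decide) (by decide) (by decide)
  (by decide +kernel)

theorem card_ne_4620 : Nat.card G ≠ 4620 := fun h => false_of_deadOrder h (by norm_num) rfl
  [2, 2, 3, 5, 7, 11] [11, 7, 5, 3] [] (by decide) (by decide) (by decide) (by decide) (by decide)
  (by decide +kernel)

theorem card_ne_5236 : Nat.card G ≠ 5236 := fun h => false_of_deadOrder h (by norm_num) rfl
  [2, 2, 7, 11, 17] [17, 11, 7] [] (by decide) (by decide) (by decide) (by decide) (by decide)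
  (by decide +kernel)

theorem card_ne_5852 : Nat.card G ≠ 5852 := fun h => false_of_deadOrder h (by norm_num) rfl
  [2, 2, 7, 11, 19] [19, 11, 7] [] (by decide) (by decide) (by decide) (by decide) (by decide)
  (by decide +kernel)

theorem card_ne_4160 : Nat.card G ≠ 4160 := fun h => false_of_deadOrder h (by norm_num) rfl
  [2, 2, 2, 2, 2, 2, 5, 13] [13, 5] [2] (by decide) (by decide) (by decide) (by decide) (by decide)
  (by decide +kernel)

theorem card_ne_4400 : Nat.card G ≠ 4400 := fun h => false_of_deadOrder h (by norm_num) rfl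
  [2, 2, 2, 2, 5, 5, 11] [11] [2, 5] (by decide) (by decide) (by decide) (by decide) (by decide)
  (by decide +kernel)

theorem card_ne_4928 : Nat.card G ≠ 4928 := fun h => false_of_deadOrder h (by norm_num) rfl
  [2, 2, 2, 2, 2, 2, 7, 11] [11, 7] [2] (by decide) (by decide) (by decide) (by decide) (by decide)
  (by decide +kernel)

theorem card_ne_5200 : Nat.card G ≠ 5200 := fun h => false_of_deadOrder h (by norm_num) rfl
  [2, 2, 2, 2, 5, 5, 13] [13] [2, 5] (by decide) (by decide) (by decide) (by decide) (by decide)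
  (by decide +kernel)

theorem card_ne_3780 : Nat.card G ≠ 3780 := fun h => false_of_deadOrder h (by norm_num) rfl
  [2, 2, 3, 3, 3, 5, 7] [7, 5] [2, 3] (by decide) (by decide) (by decide) (by decide) (by decide)
  (by decide +kernel)

theorem card_ne_3960 : Nat.card G ≠ 3960 := fun h => false_of_deadOrder h (by norm_num) rfl
  [2, 2, 2, 3, 3, 5, 11] [11, 5] [] (by decide) (by decide) (by decide) (by decide) (by decide)
  (by decide +kernel)

theorem card_ne_4212 : Nat.card G ≠ 4212 := fun h => false_of_deadOrder h (by norm_num) rfl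
  [2, 2, 3, 3, 3, 3, 13] [13] [3] (by decide) (by decide) (by decide) (by decide) (by decide)
  (by decide +kernel)

theorem card_ne_4680 : Nat.card G ≠ 4680 := fun h => false_of_deadOrder h (by norm_num) rfl
  [2, 2, 2, 3, 3, 5, 13] [13, 5] [] (by decide) (by decide) (by decide) (by decide) (by decide)
  (by decide +kernel)

theorem card_ne_4760 : Nat.card G ≠ 4760 := fun h => false_of_deadOrder h (by norm_num) rfl
  [2, 2, 2, 5, 7, 17] [17, 7, 5] [2] (by decide) (by decide) (by decide) (by decide) (by decide)
  (by decide +kernel)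

theorem card_ne_4960 : Nat.card G ≠ 4960 := fun h => false_of_deadOrder h (by norm_num) rfl
  [2, 2, 2, 2, 2, 5, 31] [31, 5] [2] (by decide) (by decide) (by decide) (by decide) (by decide)
  (by decide +kernel)

theorem card_ne_5104 : Nat.card G ≠ 5104 := fun h => false_of_deadOrder h (by norm_num) rfl
  [2, 2, 2, 2, 11, 29] [29, 11] [] (by decide) (by decide) (by decide) (by decide) (by decide)
  (by decide +kernel)

theorem card_ne_5148 : Nat.card G ≠ 5148 := fun h => false_of_deadOrder h (by norm_num) rfl
  [2, 2, 3, 3, 11, 13] [13, 11] [2, 3] (by decide) (by decide) (by decide) (by decide) (by decide)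
  (by decide +kernel)

theorem card_ne_5460 : Nat.card G ≠ 5460 := fun h => false_of_deadOrder h (by norm_num) rfl
  [2, 2, 3, 5, 7, 13] [13, 7, 5, 3] [] (by decide) (by decide) (by decide) (by decide) (by decide)
  (by decide +kernel)

theorem card_ne_5600 : Nat.card G ≠ 5600 := fun h => false_of_deadOrder h (by norm_num) rfl
  [2, 2, 2, 2, 2, 5, 5, 7] [7] [2] (by decide) (by decide) (by decide) (by decide) (by decide)
  (by decide +kernel)

theorem card_ne_5724 : Nat.card G ≠ 5724 := fun h => false_of_deadOrder h (by norm_num) rfl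
  [2, 2, 3, 3, 3, 53] [53] [] (by decide) (by decide) (by decide) (by decide) (by decide)
  (by decide +kernel)

theorem card_ne_5940 : Nat.card G ≠ 5940 := fun h => false_of_deadOrder h (by norm_num) rfl
  [2, 2, 3, 3, 3, 5, 11] [11, 5] [2, 3] (by decide) (by decide) (by decide) (by decide) (by decide)
  (by decide +kernel)

theorem card_ne_6160 : Nat.card G ≠ 6160 := fun h => false_of_deadOrder h (by norm_num) rfl
  [2, 2, 2, 2, 5, 7, 11] [11, 7, 5] [7] (by decide) (by decide) (by decide) (by decide) (by decide)
  (by decide +kernel)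

/-- Three prime divisors with no possible normaliser of the smallest exponent one. -/
theorem false_of_threePrimes {n p q r a b : ℕ} (hn : Nat.card G = n) (hp : p.Prime) (hq : q.Prime)
    (hr : r.Prime) (hpq : p ≠ q) (hpr : p ≠ r) (hqr : q ≠ r) (he : n = p ^ a * q ^ b * r)
    (hnp : ¬ n.Prime) (h : selfCentralIndices n r = ∅) : False := by
  haveI := Fact.mk hr
  obtain ⟨P⟩ := (inferInstance : Nonempty (Sylow r G))
  obtain ⟨-, -, e, he', -⟩ := normalizer_threePrimes (a := a) (b := b) hp hq hpq hpr hqr
    (hn.trans he) (he ▸ hnp) P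
  rw [← he, h] at he'
  simp at he'

theorem card_ne_4536 : Nat.card G ≠ 4536 := fun h => false_of_threePrimes (p := 2) (q := 3) (r := 7)
  (a := 3) (b := 4) h Nat.prime_two Nat.prime_three (by norm_num) (by norm_num) (by norm_num)
  (by norm_num) (by norm_num) (by norm_num) (by decide +kernel)

theorem card_ne_4800 : Nat.card G ≠ 4800 := fun h => false_of_threePrimes (p := 2) (q := 5) (r := 3)
  (a := 6) (b := 2) h Nat.prime_two Nat.prime_five Nat.prime_three (by norm_num) (by norm_num)
  (by norm_num) (by norm_num) (by norm_num) (by decide +kernel)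

theorem card_ne_5376 : Nat.card G ≠ 5376 := fun h => false_of_threePrimes (p := 2) (q := 7) (r := 3)
  (a := 8) (b := 1) h Nat.prime_two (by norm_num) Nat.prime_three (by norm_num) (by norm_num)
  (by norm_num) (by norm_num) (by norm_num) (by decide +kernel)

end SmallRange
end H62
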