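import Cfsg.Agent.H62.SelfCentralNumber
import Cfsg.Agent.H62.InvertCount
import Cfsg.Agent.H62.Order5472
import Cfsg.Agent.H65.Order720

/-!
# No simple group has order `4320`
-/

set_option autoImplicit false
set_option linter.unusedSectionVars false

open Cfsg
open scoped ComplexConjugate

namespace H62

/-- Degree and sign of a character not vanishing at an element of order five. -/
def opts4320 : List (ℤ × ℤ) :=
  [(4, -1), (6, 1), (9, -1), (16, 1), (24, -1), (36, 1), (54, -1)]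

/-- Values at an involution congruent to the degree `d` modulo four. -/
def vals4 (d : ℤ) : List ℤ := (List.range (d.toNat / 2 + 1)).map (fun i : ℕ => d - 4 * (i : ℤ))

/-- No class algebra constant is possible for this value tuple. -/
def dead4320 (q₁ q₂ q₃ q₄ : ℤ × ℤ) (v₁ v₂ v₃ v₄ : ℤ) : Bool :=
  let W := 432 + q₁.2 * v₁ * v₁ * (432 / q₁.1) + q₂.2 * v₂ * v₂ * (432 / q₂.1) +
    q₃.2 * v₃ * v₃ * (432 / q₃.1) + q₄.2 * v₄ * v₄ * (432 / q₄.1)
  let S := 1 + v₁ * v₁ + v₂ * v₂ + v₃ * v₃ + v₄ * v₄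
  decide (2 * W < S * S) ||
    (decide (2 * W < 14400) && (List.range 120).all (fun c : ℕ => ! decide ((c : ℤ) * c = 2 * W)))

def check4320 : Bool :=
  opts4320.all fun q₁ => opts4320.all fun q₂ => opts4320.all fun q₃ => opts4320.all fun q₄ =>
    ! decide (q₁.1 * q₁.2 + q₂.1 * q₂.2 + q₃.1 * q₃.2 + q₄.1 * q₄.2 = -1) ||
      ((vals4 q₁.1).all fun v₁ => (vals4 q₂.1).all fun v₂ => (vals4 q₃.1).all fun v₃ =>
        ! (vals4 q₄.1).contains (-(1 + q₁.2 * v₁ + q₂.2 * v₂ + q₃.2 * v₃) * q₄.2) ||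
          dead4320 q₁ q₂ q₃ q₄ v₁ v₂ v₃ (-(1 + q₁.2 * v₁ + q₂.2 * v₂ + q₃.2 * v₃) * q₄.2))

theorem check4320_eq : check4320 = true := by decide +kernel

theorem mem_opts4320 : ∀ d ∈ List.range 66, d ∣ 4320 → 2 < d →
    (d % 5 = 1 → ((d : ℤ), (1 : ℤ)) ∈ opts4320) ∧ (d % 5 = 4 → ((d : ℤ), (-1 : ℤ)) ∈ opts4320) := by
  decide +kernel

theorem opts4320_dvd : ∀ q ∈ opts4320, q.1 * (432 / q.1) = 432 ∧ q.1 ≠ 0 := by decide +kernel

theorem eq_one_of_pow_two_five {M : Type*} [Group M] {w : M} (h2 : w ^ 2 = 1) (h5 : w ^ 5 = 1) :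
    w = 1 := by
  rw [show (5 : ℕ) = 2 + 2 + 1 from rfl, pow_add, pow_add, h2, one_mul, one_mul, pow_one] at h5
  exact h5

universe u

variable {G : Type u} [Group G]

/-- An element generating a self-centralising Sylow subgroup of order five with normaliser of order
twenty is conjugate to its square. -/
theorem isConj_sq_of_normalizer_twenty [Fintype G] [Fact (Nat.Prime 5)] {P : Sylow 5 G}
    (hP : Nat.card (P : Subgroup G) = 5)
    (hC : Subgroup.centralizer ((P : Subgroup G) : Set G) = (P : Subgroup G))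
    (hN : Nat.card (Subgroup.normalizer ((P : Subgroup G) : Set G)) = 5 * 4)
    {g : G} (hg : g ∈ (P : Subgroup G)) (hg1 : g ≠ 1) : IsConj g (g ^ 2) := by
  classical
  set N := Subgroup.normalizer ((P : Subgroup G) : Set G) with hNdef
  have hCg := centralizer_eq_of_mem hP hC hg hg1
  set K := (P : Subgroup G).subgroupOf N with hK
  have hKcard : Nat.card K = 5 := by
    rw [hK, Nat.card_congr (Subgroup.subgroupOfEquivOfLe Subgroup.le_normalizer).toEquiv, hP]
  have hidx : Nat.card (N ⧸ K) = 4 := by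
    have h1 := K.card_mul_index
    rw [hKcard, hN] at h1
    show K.index = 4
    omega
  let f : N ⧸ K → {w : (P : Subgroup G) // w ≠ 1} := Quotient.lift
    (fun y : N => ⟨⟨(y : G) * g * (y : G)⁻¹, (Subgroup.mem_normalizer_iff.1 y.2 g).1 hg⟩,
      fun h => hg1 (conj_eq_one_iff.1 (congrArg Subtype.val h))⟩)
    (fun a b hab => by
      have h0 : a⁻¹ * b ∈ K := QuotientGroup.leftRel_apply.1 hab
      have h1 : (a : G)⁻¹ * (b : G) ∈ (P : Subgroup G) := h0
      rw [← hCg, Subgroup.mem_centralizer_singleton_iff] at h1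
      apply Subtype.ext
      apply Subtype.ext
      show (a : G) * g * (a : G)⁻¹ = (b : G) * g * (b : G)⁻¹
      calc (a : G) * g * (a : G)⁻¹
          = (a : G) * (g * ((a : G)⁻¹ * (b : G))) * (b : G)⁻¹ := by group
        _ = (b : G) * g * (b : G)⁻¹ := by rw [← h1]; group)
  have hinj : Function.Injective f := by
    intro x y
    refine Quotient.inductionOn₂ x y fun a b hab => Quotient.sound ?_
    have h1 : (a : G) * g * (a : G)⁻¹ = (b : G) * g * (b : G)⁻¹ :=
      congrArg Subtype.val (congrArg Subtype.val hab)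
    refine QuotientGroup.leftRel_apply.2 ?_
    show (a : G)⁻¹ * (b : G) ∈ (P : Subgroup G)
    rw [← hCg, Subgroup.mem_centralizer_singleton_iff]
    calc (a : G)⁻¹ * (b : G) * g = (a : G)⁻¹ * ((b : G) * g * (b : G)⁻¹) * (b : G) := by group
      _ = g * ((a : G)⁻¹ * (b : G)) := by rw [← h1]; group
  have hcard : Nat.card {w : (P : Subgroup G) // w ≠ 1} = 4 := by
    have : Fintype (P : Subgroup G) := Fintype.ofFinite _
    rw [Nat.card_eq_fintype_card, Fintype.card_subtype_compl, Fintype.card_subtype_eq,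
      ← Nat.card_eq_fintype_card, hP]
  obtain ⟨x, hx⟩ := (hinj.bijective_of_nat_card_le (by rw [hcard, hidx])).2
    ⟨⟨g ^ 2, pow_mem hg 2⟩, fun h => hg1 (eq_one_of_pow_two_five
      (congrArg Subtype.val h : g ^ 2 = 1) (pow_card_of_mem hP hg))⟩
  induction x using Quotient.inductionOn with
  | h a => exact isConj_iff.2 ⟨a, congrArg Subtype.val (congrArg Subtype.val hx)⟩

theorem card_ne_4320 [Finite G] [IsSimpleGroup G] : Nat.card G ≠ 4320 := by
  intro h
  classical
  have := Fintype.ofFinite G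
  haveI : Fact (Nat.Prime 5) := ⟨by norm_num⟩
  have hG : ¬ IsMulCommutative G := not_comm_of_not_prime (by rw [h]; norm_num)
  have hna : Subgroup.center G ≠ ⊤ := fun hc =>
    hG ⟨⟨fun a b => (Subgroup.mem_center_iff.1 (hc ▸ Subgroup.mem_top b) a)⟩⟩
  obtain ⟨P⟩ := (inferInstance : Nonempty (Sylow 5 G))
  obtain ⟨hP, hC, e', he', hN⟩ := normalizer_threePrimes (p := 2) (q := 3) (r := 5) (a := 5)
    (b := 3) Nat.prime_two Nat.prime_three (by decide) (by decide) (by decide)
    (h.trans (by norm_num)) (by norm_num) P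
  rw [show selfCentralIndices (2 ^ 5 * 3 ^ 3 * 5) 5 = {4} by decide +kernel,
    Finset.mem_singleton] at he'
  subst he'
  obtain ⟨g, hgP, hg1, hgo⟩ := H65.exists_sylow_generator P hP
  have hgg := isConj_sq_of_normalizer_twenty hP hC hN hgP hg1
  obtain ⟨t, htN, ht⟩ := H65.exists_involution_of_even _ (by rw [hN]; decide)
  have hti : ∀ w ∈ (P : Subgroup G), t * w * t⁻¹ = w⁻¹ := fun w hw =>
    involution_inverts hP hC (by norm_num) ht htN hw
  have he' := fun χ : IrrCharacter G => H65.irr_rational_five χ hgo hgg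
  choose e he he5 using he'
  have hv' := fun χ : IrrCharacter G => H65.irr_involution_congr hna χ ht
  choose v hv hv4 using hv'
  obtain ⟨d, hd⟩ : ∃ d : IrrCharacter G → ℕ, ∀ χ : IrrCharacter G, H12.degree (χ : G → ℂ) = d χ :=
    ⟨_, fun _ => rfl⟩
  set one := H12.oneIrr G with hone
  have hd1 : d one = 1 := by rw [← hd, hone]; simp [H12.degree, H12.oneIrr_apply]
  have he1 : e one = 1 := by
    have := he one
    rw [hone, H12.oneIrr_apply] at this
    exact_mod_cast this.symm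
  have hv1 : v one = 1 := by
    have := hv one
    rw [hone, H12.oneIrr_apply] at this
    exact_mod_cast this.symm
  set c := Nat.card (Subgroup.centralizer ({t} : Set G)) with hc
  have hcolg : ∑ χ : IrrCharacter G, e χ ^ 2 = 5 := by
    have := H12.column_orthogonality g g
    rw [if_pos (IsConj.refl g), centralizer_eq_of_mem hP hC hgP hg1, hP] at this
    simp only [he, map_intCast, ← pow_two] at this
    exact_mod_cast this
  have hcolt : ∑ χ : IrrCharacter G, v χ ^ 2 = (c : ℤ) := by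
    have := H12.column_orthogonality t t
    rw [if_pos (IsConj.refl t), ← hc] at this
    simp only [hv, map_intCast, ← pow_two] at this
    exact_mod_cast this
  have hreg : ∑ χ : IrrCharacter G, (d χ : ℤ) * e χ = 0 := by
    have := H12.regular_eq_sum g
    rw [if_neg hg1] at this
    simp only [he, H12.irr_apply_one, hd] at this
    exact_mod_cast this
  have hgt : ¬ IsConj g t := fun hh => by
    obtain ⟨b, hb⟩ := isConj_iff.1 hh
    rw [← hb, ← MulAut.conj_apply, MulEquiv.orderOf_eq, hgo] at ht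
    omega
  have hev : ∑ χ : IrrCharacter G, e χ * v χ = 0 := by
    have := H12.column_orthogonality g t
    rw [if_neg hgt] at this
    simp only [he, hv, map_intCast] at this
    exact_mod_cast this
  have hclass : ∑ χ : IrrCharacter G, (e χ : ℂ) * (v χ : ℂ) * (v χ : ℂ) / (d χ : ℂ) =
      5 * (c : ℂ) * (c : ℂ) / 4320 := by
    have h1 := card_product_class_eq_sum g t t
    rw [card_product_class hP hC (by norm_num) ht hti hgP hg1, ← hc, h] at h1
    simp only [he, hv, map_intCast, H12.irr_apply_one, hd] at h1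
    rw [eq_div_iff (by norm_num), mul_comm _ (4320 : ℂ)]
    push_cast at h1 ⊢
    exact h1.symm
  -- split off the trivial character
  set S := (Finset.univ.erase one).filter (fun χ => e χ ≠ 0) with hS
  have hsplit : ∀ f : IrrCharacter G → ℤ, (∀ χ, e χ = 0 → f χ = 0) →
      f one + ∑ χ ∈ S, f χ = ∑ χ, f χ := fun f hf => by
    rw [hS, Finset.sum_filter_of_ne (p := fun χ => e χ ≠ 0) (f := f) (fun χ _ hne h0 => hne (hf χ h0)),
      Finset.add_sum_erase _ _ (Finset.mem_univ one)]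
  have hS2 : ∑ χ ∈ S, e χ ^ 2 = 4 := by
    have := hsplit (fun χ => e χ ^ 2) (fun χ h0 => by simp [h0])
    rw [hcolg] at this
    simp only [he1] at this
    omega
  have hSd : ∑ χ ∈ S, (d χ : ℤ) * e χ = -1 := by
    have := hsplit (fun χ => (d χ : ℤ) * e χ) (fun χ h0 => by simp [h0])
    rw [hreg] at this
    simp only [he1, hd1] at this
    omega
  have hSv : ∑ χ ∈ S, e χ * v χ = -1 := by
    have := hsplit (fun χ => e χ * v χ) (fun χ h0 => by simp [h0])
    rw [hev] at this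
    simp only [he1, hv1] at this
    omega
  have hSvv : 1 + ∑ χ ∈ S, v χ ^ 2 ≤ (c : ℤ) := by
    rw [← hcolt, ← Finset.add_sum_erase _ _ (Finset.mem_univ one), hv1]
    exact add_le_add le_rfl (Finset.sum_le_sum_of_subset_of_nonneg
      (Finset.filter_subset _ _) (fun χ _ _ => sq_nonneg _))
  have heabs : ∀ χ ∈ S, e χ = 1 ∨ e χ = -1 := by
    intro χ hχ
    have hne : e χ ≠ 0 := (Finset.mem_filter.1 hχ).2
    have hrest := Finset.add_sum_erase S (fun χ => e χ ^ 2) hχ
    rw [hS2] at hrest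
    have hle : e χ ^ 2 ≤ 4 := by
      have := Finset.sum_nonneg (s := S.erase χ) fun x _ => sq_nonneg (e x)
      linarith
    have hb1 : -2 ≤ e χ := by nlinarith
    have hb2 : e χ ≤ 2 := by nlinarith
    by_contra hno
    push Not at hno
    have hemp : S.erase χ = ∅ := by
      rw [Finset.eq_empty_iff_forall_notMem]
      intro x hx
      have hxne : e x ≠ 0 := (Finset.mem_filter.1 (Finset.mem_of_mem_erase hx)).2
      have := Finset.single_le_sum (fun y _ => sq_nonneg (e y)) hx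
      have hpos : 0 < e x ^ 2 := by positivity
      have he4 : e χ ^ 2 = 4 := by
        rcases (show e χ = 2 ∨ e χ = -2 by omega) with e' | e' <;> rw [e'] <;> norm_num
      linarith
    have hd' := Finset.add_sum_erase S (fun χ => (d χ : ℤ) * e χ) hχ
    rw [hSd, hemp, Finset.sum_empty] at hd'
    rcases (show e χ = 2 ∨ e χ = -2 by omega) with e' | e' <;> simp only [e'] at hd' <;> omega
  have hScard : S.card = 4 := by
    have : ∑ χ ∈ S, e χ ^ 2 = (S.card : ℤ) := by
      rw [Finset.sum_congr rfl (fun χ hχ => show e χ ^ 2 = 1 by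
        rcases heabs χ hχ with e' | e' <;> rw [e'] <;> norm_num)]
      simp
    omega
  have heven : Even (Nat.card G) := by rw [h]; decide
  have hmem : ∀ χ ∈ S, ((d χ : ℤ), e χ) ∈ opts4320 ∧ v χ ∈ vals4 (d χ : ℤ) := by
    intro χ hχ
    obtain ⟨hd2, hdn, hdsq⟩ := degree_bounds hG heven (χ := χ)
      (Finset.mem_erase.1 (Finset.mem_filter.1 hχ).1).1
    rw [hd] at hd2 hdn hdsq
    rw [h] at hdn hdsq
    have h66 : d χ < 66 := by nlinarith
    have h5 := he5 χ
    rw [hd] at h5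
    have hm := mem_opts4320 (d χ) (List.mem_range.2 h66) hdn hd2
    refine ⟨?_, ?_⟩
    · rcases heabs χ hχ with e' | e' <;> rw [e'] at h5 ⊢
      · exact hm.1 (by omega)
      · exact hm.2 (by omega)
    · have h4 := hv4 χ
      rw [hd] at h4
      have hle : |v χ| ≤ (d χ : ℤ) := by
        have h1 := H12.IsCharacter.norm_le (H12.isCharacter_irr χ) t
        rw [hv χ, hd, Complex.norm_intCast] at h1
        exact_mod_cast h1
      obtain ⟨h1, h2⟩ := abs_le.1 hle
      rw [vals4, List.mem_map]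
      exact ⟨(((d χ : ℤ) - v χ) / 4).toNat, List.mem_range.2 (by omega), by omega⟩
  obtain ⟨χ₁, S₁, hn1, hS1, hc1⟩ := Finset.card_eq_succ.1 hScard
  obtain ⟨χ₂, S₂, hn2, hS2', hc2⟩ := Finset.card_eq_succ.1 hc1
  obtain ⟨χ₃, S₃, hn3, hS3, hc3⟩ := Finset.card_eq_succ.1 hc2
  obtain ⟨χ₄, hc4⟩ := Finset.card_eq_one.1 hc3
  have hexp : ∀ {M : Type} [AddCommMonoid M] (f : IrrCharacter G → M),
      ∑ χ ∈ S, f χ = f χ₁ + (f χ₂ + (f χ₃ + f χ₄)) := by
    intro M _ f
    rw [← hS1, Finset.sum_insert hn1, ← hS2', Finset.sum_insert hn2, ← hS3,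
      Finset.sum_insert hn3, hc4, Finset.sum_singleton]
  have hm : ∀ χ, χ = χ₁ ∨ χ = χ₂ ∨ χ = χ₃ ∨ χ = χ₄ → χ ∈ S := by
    intro χ hχ
    rw [← hS1, ← hS2', ← hS3, hc4]
    simp only [Finset.mem_insert, Finset.mem_singleton]
    exact hχ
  obtain ⟨m1, w1⟩ := hmem χ₁ (hm _ (Or.inl rfl))
  obtain ⟨m2, w2⟩ := hmem χ₂ (hm _ (Or.inr (Or.inl rfl)))
  obtain ⟨m3, w3⟩ := hmem χ₃ (hm _ (Or.inr (Or.inr (Or.inl rfl))))
  obtain ⟨m4, w4⟩ := hmem χ₄ (hm _ (Or.inr (Or.inr (Or.inr rfl))))
  rw [hexp] at hSd hSv hSvv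
  have hv4' : v χ₄ = -(1 + e χ₁ * v χ₁ + e χ₂ * v χ₂ + e χ₃ * v χ₃) * e χ₄ := by
    rcases heabs χ₄ (hm _ (Or.inr (Or.inr (Or.inr rfl)))) with e' | e' <;> rw [e'] at hSv ⊢ <;>
      linarith
  have hchk := check4320_eq
  simp only [check4320, List.all_eq_true] at hchk
  have hd4 := hchk _ m1 _ m2 _ m3 _ m4
  rw [Bool.or_eq_true, Bool.not_eq_true', decide_eq_false_iff_not] at hd4
  replace hd4 := hd4.resolve_left (fun hne => hne (by simp only; linarith))
  simp only [List.all_eq_true] at hd4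
  have hd5 := hd4 _ w1 _ w2 _ w3
  try simp only at hd5
  rw [← hv4', Bool.or_eq_true] at hd5
  replace hd5 := hd5.resolve_left (fun hne => by simp [w4] at hne)
  obtain ⟨e1', -⟩ := opts4320_dvd _ m1
  obtain ⟨e2', -⟩ := opts4320_dvd _ m2
  obtain ⟨e3', -⟩ := opts4320_dvd _ m3
  obtain ⟨e4', -⟩ := opts4320_dvd _ m4
  simp only at e1' e2' e3' e4'
  have hW : (c : ℤ) * c = 2 * (432 + e χ₁ * v χ₁ * v χ₁ * (432 / (d χ₁ : ℤ)) +
      e χ₂ * v χ₂ * v χ₂ * (432 / (d χ₂ : ℤ)) + e χ₃ * v χ₃ * v χ₃ * (432 / (d χ₃ : ℤ)) +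
      e χ₄ * v χ₄ * v χ₄ * (432 / (d χ₄ : ℤ))) := by
    have hterm : ∀ χ, (d χ : ℤ) * (432 / (d χ : ℤ)) = 432 →
        ((432 / (d χ : ℤ) : ℤ) : ℂ) = 432 / (d χ : ℂ) := fun χ hχ => by
      have hdpos : (d χ : ℂ) ≠ 0 := Nat.cast_ne_zero.2 (hd χ ▸ (H12.irr_degree_pos χ).ne')
      rw [eq_div_iff hdpos, mul_comm]
      exact_mod_cast hχ
    apply Int.cast_injective (α := ℂ)
    simp only [Int.cast_mul, Int.cast_add, Int.cast_ofNat, Int.cast_natCast,
      hterm _ e1', hterm _ e2', hterm _ e3', hterm _ e4']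
    have hs : (e one : ℂ) * (v one : ℂ) * (v one : ℂ) / (d one : ℂ) +
        ∑ χ ∈ S, (e χ : ℂ) * (v χ : ℂ) * (v χ : ℂ) / (d χ : ℂ) = 5 * (c : ℂ) * (c : ℂ) / 4320 := by
      rw [hS, Finset.sum_filter_of_ne (p := fun χ => e χ ≠ 0)
        (f := fun χ => (e χ : ℂ) * (v χ : ℂ) * (v χ : ℂ) / (d χ : ℂ)) (fun χ _ hne h0 => hne (by simp [h0])),
        Finset.add_sum_erase _ (fun χ => (e χ : ℂ) * (v χ : ℂ) * (v χ : ℂ) / (d χ : ℂ))
          (Finset.mem_univ one), hclass]
    rw [hexp, he1, hv1, hd1] at hs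
    push_cast at hs
    linear_combination -864 * hs
  have hS0 : (0 : ℤ) ≤ 1 + v χ₁ * v χ₁ + v χ₂ * v χ₂ + v χ₃ * v χ₃ + v χ₄ * v χ₄ := by
    nlinarith [mul_self_nonneg (v χ₁), mul_self_nonneg (v χ₂), mul_self_nonneg (v χ₃),
      mul_self_nonneg (v χ₄)]
  simp only [dead4320, Bool.or_eq_true, Bool.and_eq_true, decide_eq_true_eq, List.all_eq_true,
    List.mem_range, Bool.not_eq_true', decide_eq_false_iff_not] at hd5
  rw [← hW] at hd5
  rcases hd5 with h1 | ⟨h1, h2⟩
  · have hle : 1 + v χ₁ * v χ₁ + v χ₂ * v χ₂ + v χ₃ * v χ₃ + v χ₄ * v χ₄ ≤ (c : ℤ) := by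
      simp only [pow_two] at hSvv; linarith
    have := mul_le_mul hle hle hS0 (Int.natCast_nonneg c)
    linarith
  · have h120 : c < 120 := by
      by_contra hge
      push Not at hge
      have : (120 : ℤ) ≤ c := by exact_mod_cast hge
      nlinarith
    exact h2 c h120 rfl

end H62
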