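/-
Simple groups of order 2520 without a subgroup of index seven: first restrictions.
-/
import Cfsg.Agent.H62.SmallRangeCases
import Cfsg.Agent.H81.AbelianSylow

set_option autoImplicit false
set_option linter.unusedSectionVars false
set_option linter.style.haveILetI false

namespace H62
namespace AltSeven

open Subgroup

variable {G : Type*} [Group G] [Finite G] [IsSimpleGroup G]

/-- A subgroup of index seven identifies a simple group of order `2520`. -/
theorem iso_of_index_seven (hn : Nat.card G = 2520) (H : Subgroup G) (hH : H.index = 7) :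
    Nonempty (G ≃* ↥(alternatingGroup (Fin 7))) := by
  have hG : ¬ IsMulCommutative G := not_comm_of_not_prime (hn ▸ by norm_num)
  have hA : Nat.card ↥(alternatingGroup (Fin 7)) = 2520 := by
    rw [nat_card_alternatingGroup, Nat.card_fin]; decide
  obtain ⟨g, hg⟩ : ∃ g : G →* ↥(alternatingGroup (Fin 7)), Function.Injective g := by
    obtain ⟨g, hg⟩ := exists_alternating_embedding hG H (fun h => by rw [h, index_top] at hH; omega)
    exact hH ▸ ⟨g, hg⟩
  exact ⟨MulEquiv.ofBijective g ((Nat.bijective_iff_injective_and_card g).2 ⟨hg, hn.trans hA.symm⟩)⟩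

/-- The common hypothesis of the development. -/
structure Hyp (G : Type*) [Group G] : Prop where
  card_eq : Nat.card G = 2520
  no_seven : ∀ H : Subgroup G, H.index ≠ 7

theorem Hyp.notComm (hh : Hyp G) : ¬ IsMulCommutative G :=
  not_comm_of_not_prime (hh.card_eq ▸ by norm_num)

/-- Proper subgroups have index at least eight. -/
theorem Hyp.proper (hh : Hyp G) (H : Subgroup G) (hH : H ≠ ⊤) :
    Nat.card H ∣ 2520 ∧ Nat.card H ≤ 315 := by
  refine ⟨hh.card_eq ▸ H.card_subgroup_dvd_card, ?_⟩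
  have h1 := H65.index_candidate hh.notComm hh.card_eq H hH
  rw [Finset.mem_filter] at h1
  have h7 : 8 ≤ H.index := by
    by_contra hlt
    have h2 := h1.2.2
    have h3 := hh.no_seven H
    have h4 : H.index ≤ 7 := by omega
    interval_cases hd : H.index <;> revert h2 h3 <;> decide
  have h2 := H.card_mul_index
  rw [hh.card_eq] at h2
  nlinarith

/-- A fixed element of an abelian Sylow subgroup under its normaliser is trivial. -/
theorem eq_one_of_fixed (hG : ¬ IsMulCommutative G) {p : ℕ} [Fact p.Prime] (P : Sylow p G)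
    (hP : IsMulCommutative (P : Subgroup G)) {x : G} (hx : x ∈ (P : Subgroup G))
    (hfix : ∀ n ∈ normalizer ((P : Subgroup G) : Set G), n * x = x * n) : x = 1 := by
  refine H81.eq_one_of_mem_commutator_of_fixed P hP hx (mem_centralizer_iff.2 hfix) ?_
  rcases (inferInstance : (commutator G).Normal).eq_bot_or_eq_top with h | h
  · exfalso
    refine hG ⟨⟨fun a b => ?_⟩⟩
    have := commutator_mem_commutator (mem_top a) (mem_top b)
    rw [← commutator_def G, h, mem_bot] at this
    exact commutatorElement_eq_one_iff_mul_comm.1 this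
  · rw [h]; exact mem_top x

/-- An element of prime order `q` normalising a subgroup of order nine centralises it when `q`
is five or seven. -/
theorem commute_of_normalize (P : Subgroup G) (hP : Nat.card P = 9) {q : ℕ} [Fact q.Prime]
    (hq : q = 5 ∨ q = 7) {y : G} (hy : orderOf y = q) (hyN : y ∈ normalizer (P : Set G)) :
    ∀ x ∈ P, x * y = y * x := by
  classical
  haveI := Fintype.ofFinite P
  let σ : Equiv.Perm P := (P.normalizerMonoidHom ⟨y, hyN⟩).toEquiv
  have hpow : σ ^ q = 1 := by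
    have h1 : (⟨y, hyN⟩ : normalizer (P : Set G)) ^ q = 1 := by
      ext; simp [← hy, pow_orderOf_eq_one]
    have h2 := congrArg (fun m : MulAut P => MulAut.toPerm P m) (congrArg P.normalizerMonoidHom h1)
    simp only [map_pow, map_one] at h2
    exact h2
  have hmod := Equiv.Perm.card_compl_support_modEq (p := q) (n := 1) (σ := σ) (by rw [pow_one]; exact hpow)
  set F : Subgroup P := (centralizer ({y} : Set G)).subgroupOf P with hF
  have hFc : σ.supportᶜ.card = Nat.card F := by
    rw [Nat.card_eq_fintype_card]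
    refine (Fintype.card_of_subtype _ fun x => ?_).symm
    rw [Finset.mem_compl, Equiv.Perm.mem_support, not_not, hF, mem_subgroupOf,
      mem_centralizer_singleton_iff, Subtype.ext_iff]
    show y * (x : G) * y⁻¹ = x ↔ _
    rw [mul_inv_eq_iff_eq_mul]
    exact ⟨fun h => h.symm, fun h => h.symm⟩
  rw [← Nat.card_eq_fintype_card, hP, hFc] at hmod
  have hd : Nat.card F ∣ 9 := hP ▸ F.card_subgroup_dvd_card
  have h9 : Nat.card F = 9 := by
    have hle : Nat.card F ≤ 9 := Nat.le_of_dvd (by norm_num) hd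
    have hm : Nat.card F % q = 9 % q := hmod
    rcases hq with rfl | rfl <;> interval_cases hc : Nat.card F <;> omega
  intro x hx
  have hmem : (⟨x, hx⟩ : P) ∈ F := by
    rw [eq_top_of_card_eq F (by rw [h9, hP])]
    exact mem_top _
  rw [hF, mem_subgroupOf, mem_centralizer_singleton_iff] at hmem
  exact hmem

/-- An involution centralising a Sylow subgroup of order `p` needs `4 * p ≤ k`. -/
theorem false_of_orbit_two (hG : ¬ IsMulCommutative G) {p k c : ℕ}
    (hf : H32.ExactSieve.Facts G p k c) (hpd : p ∣ Nat.card G) (hp2 : p ≠ 2) (hc : 2 ∣ c)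
    (hk : k < 4 * p) : False := by
  haveI := Fact.mk hf.prime
  haveI := Fact.mk Nat.prime_two
  obtain ⟨P⟩ := (inferInstance : Nonempty (Sylow p G))
  have hP := hf.card_P P
  obtain ⟨x, hx, hxo⟩ := H70.exists_mem_orderOf (P : Subgroup G) p hf.prime (by rw [hP])
  obtain ⟨y, hy, hyo⟩ := H70.exists_mem_orderOf (centralizer ((P : Subgroup G) : Set G)) 2 Nat.prime_two
    (by rwa [hf.card_C P])
  have hxy : Commute x y := hy x hx
  set H := normalizer ((P : Subgroup G) : Set G) with hH
  have hHi : H.index = k := by rw [← hf.card_sylow]; exact P.card_eq_index_normalizer.symm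
  have hHt := normalizer_sylow_ne_top hG hpd P
  obtain ⟨hlt, -, hmp⟩ := SmallRange.moved_modEq H (p := p) (q := 2) (hyo ▸ pow_orderOf_eq_one y)
    (H70.ne_one_of_orderOf_prime Nat.prime_two hyo) hHt (hxo ▸ pow_orderOf_eq_one x) hxy
  have h4 := (H65.involution_fixedBy hG H hHt hyo).2
  have hone : Nat.card {c : G ⧸ H // y • c = c ∧ x • c = c} = 1 := by
    have hfx := card_fixedBy_normalizer_eq_one P hP x hxo
    refine le_antisymm ?_ ?_
    · rw [← hfx]
      exact Nat.card_le_card_of_injective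
        (fun c => (⟨c.1, c.2.2⟩ : MulAction.fixedBy (G ⧸ H) x))
        fun a b h => Subtype.ext (congrArg (fun z => z.1) h)
    · haveI : Nonempty {c : G ⧸ H // y • c = c ∧ x • c = c} := by
        refine ⟨⟨((1 : G) : G ⧸ H), ?_, ?_⟩⟩ <;>
          rw [MulAction.Quotient.smul_mk, QuotientGroup.eq, smul_eq_mul, mul_one, mul_one, inv_mem_iff]
        · exact centralizer_le_normalizer _ hy
        · exact le_normalizer hx
      exact Nat.card_pos
  rw [hone, Nat.mod_eq_of_lt hf.prime.one_lt] at hmp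
  have hk1 : k % p = 1 := by rw [← hf.card_sylow]; exact card_sylow_mod
  rw [hHi] at hlt h4
  set F := Nat.card (MulAction.fixedBy (G ⧸ H) y)
  have h1 : p ∣ k - F := (Nat.modEq_iff_dvd' hlt.le).1 (show F % p = k % p by rw [hmp, hk1])
  have hcop : Nat.Coprime p 4 :=
    Nat.Coprime.pow_right 2 ((Nat.coprime_primes hf.prime Nat.prime_two).2 hp2)
  have h3 := Nat.le_of_dvd (by omega) (hcop.mul_dvd_of_dvd_of_dvd h1 (Nat.dvd_of_mod_eq_zero h4))
  omega

/-- No Sylow normaliser of order seventy. -/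
theorem false_of_thirtyfive (hh : Hyp G) (hf7 : H32.ExactSieve.Facts G 7 36 35)
    (hf5 : H32.ExactSieve.Facts G 5 36 35) : False := by
  haveI : Fact (Nat.Prime 7) := ⟨by norm_num⟩
  haveI : Fact (Nat.Prime 5) := ⟨by norm_num⟩
  haveI : Fact (Nat.Prime 2) := ⟨Nat.prime_two⟩
  have hG := hh.notComm
  obtain ⟨P⟩ := (inferInstance : Nonempty (Sylow 7 G))
  have hP := hf7.card_P P
  set H := normalizer ((P : Subgroup G) : Set G) with hH
  set C := centralizer ((P : Subgroup G) : Set G) with hC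
  have hCc : Nat.card C = 35 := hf7.card_C P
  have hHi : H.index = 36 := by rw [← hf7.card_sylow]; exact P.card_eq_index_normalizer.symm
  have hHt := normalizer_sylow_ne_top hG (hh.card_eq ▸ by norm_num) P
  have hHc : Nat.card H = 70 := by
    have := H.card_mul_index
    rw [hHi, hh.card_eq] at this
    omega
  set α : G ⧸ H := ((1 : G) : G ⧸ H) with hα
  have hfixα : ∀ g ∈ H, g • α = α := fun g hg => by
    rw [hα, MulAction.Quotient.smul_mk, QuotientGroup.eq, smul_eq_mul, mul_one, mul_one, inv_mem_iff]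
    exact hg
  obtain ⟨x, hx, hxo⟩ := H70.exists_mem_orderOf (P : Subgroup G) 7 (by norm_num) (by rw [hP])
  have hone : Nat.card (MulAction.fixedBy (G ⧸ H) x) = 1 := card_fixedBy_normalizer_eq_one P hP x hxo
  have hr : ∀ r : ℕ, r.Prime → r ∣ 35 → r = 5 ∨ r = 7 := fun r hr h => by
    rcases (Nat.Prime.dvd_mul hr).1 (show r ∣ 5 * 7 from h) with h' | h'
    · exact Or.inl ((Nat.prime_dvd_prime_iff_eq hr Nat.prime_five).1 h')
    · exact Or.inr ((Nat.prime_dvd_prime_iff_eq hr (by norm_num)).1 h')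
  -- elements of prime order in the centraliser fix one point
  have hprime : ∀ w ∈ C, (orderOf w = 5 ∨ orderOf w = 7) → ∀ β : G ⧸ H, w • β = β → β = α := by
    intro w hw hwo β hβ
    have hw1 : Nat.card (MulAction.fixedBy (G ⧸ H) w) = 1 := by
      rcases hwo with hwo | hwo
      · have hxw : Commute x w := hw x hx
        obtain ⟨hlt, hmq, hmp⟩ := SmallRange.moved_modEq H (p := 7) (q := 5) (hwo ▸ pow_orderOf_eq_one w)
          (H70.ne_one_of_orderOf_prime Nat.prime_five hwo) hHt (hxo ▸ pow_orderOf_eq_one x) hxw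
        have hb : Nat.card {c : G ⧸ H // w • c = c ∧ x • c = c} = 1 := by
          refine le_antisymm ?_ ?_
          · rw [← hone]
            exact Nat.card_le_card_of_injective
              (fun c => (⟨c.1, c.2.2⟩ : MulAction.fixedBy (G ⧸ H) x))
              fun a b h => Subtype.ext (congrArg (fun z => z.1) h)
          · haveI : Nonempty {c : G ⧸ H // w • c = c ∧ x • c = c} :=
              ⟨⟨α, hfixα w (centralizer_le_normalizer _ hw), hfixα x (le_normalizer hx)⟩⟩
            exact Nat.card_pos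
        rw [hb] at hmp
        rw [hHi] at hlt hmq
        omega
      · exact card_fixedBy_normalizer_eq_one P hP w hwo
    haveI := (Nat.card_eq_one_iff_unique.1 hw1).1
    exact congrArg Subtype.val (Subsingleton.elim (⟨β, hβ⟩ : MulAction.fixedBy (G ⧸ H) w)
      ⟨α, hfixα w (centralizer_le_normalizer _ hw)⟩)
  have hpw : ∀ c ∈ C, c ≠ 1 → ∃ j : ℕ, orderOf (c ^ j) = 5 ∨ orderOf (c ^ j) = 7 := by
    intro c hc hc1
    obtain ⟨r, hr', hrd⟩ := Nat.exists_prime_and_dvd (fun h => hc1 (orderOf_eq_one_iff.1 h))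
    have hd : orderOf c ∣ 35 := by
      have := orderOf_dvd_natCard (⟨c, hc⟩ : C); rwa [orderOf_mk, hCc] at this
    refine ⟨orderOf c / r, ?_⟩
    rw [orderOf_pow_orderOf_div (orderOf_pos c).ne' hrd]
    exact hr r hr' (hrd.trans hd)
  have hfree : ∀ c ∈ C, ∀ β : G ⧸ H, β ≠ α → c • β = β → c = 1 := by
    intro c hc β hβ hcβ
    by_contra hc1
    obtain ⟨j, hj⟩ := hpw c hc hc1
    refine hβ (hprime _ (pow_mem hc j) hj β ?_)
    clear hj
    induction j with
    | zero => simp
    | succ j ih => rw [pow_succ, mul_smul, hcβ, ih]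
  -- an involution of the normaliser
  obtain ⟨t, ht, hto⟩ := H70.exists_mem_orderOf H 2 Nat.prime_two (by rw [hHc]; norm_num)
  obtain ⟨-, h4⟩ := H65.involution_fixedBy hG H hHt hto
  have hpos : 0 < Nat.card (MulAction.fixedBy (G ⧸ H) t) := by
    haveI : Nonempty (MulAction.fixedBy (G ⧸ H) t) := ⟨⟨α, hfixα t ht⟩⟩
    exact Nat.card_pos
  rw [hHi] at h4
  obtain ⟨β, γ, hβα, hγα, hβγ, hβ, hγ⟩ : ∃ β γ : G ⧸ H, β ≠ α ∧ γ ≠ α ∧ β ≠ γ ∧ t • β = β ∧ t • γ = γ := by
    set S := {z : G ⧸ H | t • z = z ∧ z ≠ α}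
    have hS : S = (MulAction.fixedBy (G ⧸ H) t) \ {α} := by ext z; rfl
    have hc : 1 < S.ncard := by
      have h1 : (MulAction.fixedBy (G ⧸ H) t).ncard = Nat.card (MulAction.fixedBy (G ⧸ H) t) :=
        (Nat.card_coe_set_eq _).symm
      rw [hS, Set.ncard_sdiff_singleton_of_mem (s := MulAction.fixedBy (G ⧸ H) t) (a := α) (hfixα t ht), h1]
      omega
    obtain ⟨β, hb, γ, hc', hne⟩ := (Set.one_lt_ncard).1 hc
    exact ⟨β, γ, hb.2, hc'.2, hne, hb.1, hc'.1⟩
  let f : C → {z : G ⧸ H // z ≠ α} := fun c => ⟨(c : G) • β, fun h => hβα (by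
    have h2 := hfixα _ (centralizer_le_normalizer _ (inv_mem c.2))
    rw [← h2, ← h, inv_smul_smul])⟩
  have hinj : Function.Injective f := by
    intro a b hab
    apply Subtype.ext
    have := hfree _ (mul_mem (inv_mem b.2) a.2) β hβα (by
      have h' : (a : G) • β = (b : G) • β := congrArg Subtype.val hab
      rw [mul_smul, h', inv_smul_smul])
    exact (inv_mul_eq_one.1 this).symm
  obtain ⟨c, hcb⟩ := ((Nat.bijective_iff_injective_and_card f).2 ⟨hinj, by
    rw [hCc]
    have h1 := Set.ncard_compl ({α} : Set (G ⧸ H))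
    rw [← Nat.card_coe_set_eq, Set.ncard_singleton] at h1
    rw [show Nat.card (G ⧸ H) = 36 from hHi] at h1
    exact h1.symm⟩).2 ⟨γ, hγα⟩
  have hcb' : (c : G) • β = γ := congrArg Subtype.val hcb
  have hc1 : (c : G) ≠ 1 := fun h => hβγ (by rw [← hcb', h, one_smul])
  have htC : t * c * t⁻¹ ∈ C := by
    refine mem_centralizer_iff.2 fun w hw => ?_
    have hw' : t⁻¹ * w * t ∈ (P : Subgroup G) := (mem_normalizer_iff''.1 ht w).1 hw
    have h1 : t⁻¹ * w * t * c = c * (t⁻¹ * w * t) := c.2 _ hw'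
    calc w * (t * c * t⁻¹) = t * (t⁻¹ * w * t * c) * t⁻¹ := by group
      _ = t * c * t⁻¹ * w := by rw [h1]; group
  have hcomm : (c : G)⁻¹ * (t * c * t⁻¹) = 1 := by
    refine hfree _ (mul_mem (inv_mem c.2) htC) β hβα ?_
    have hti : t⁻¹ • β = β := by rw [inv_smul_eq_iff]; exact hβ.symm
    rw [mul_smul, mul_smul, mul_smul, hti, hcb', hγ, ← hcb', inv_smul_smul]
  have htc : Commute t c := mul_inv_eq_iff_eq_mul.1 (inv_mul_eq_one.1 hcomm).symm
  obtain ⟨j, hj⟩ := hpw c c.2 hc1
  have hodd : ∀ (p k : ℕ) [Fact p.Prime], H32.ExactSieve.Facts G p k 35 →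
      orderOf ((c : G) ^ j) = p → False := by
    intro p k hp hF hws
    obtain ⟨R, hR⟩ := (IsPGroup.of_card (p := p) (n := 1)
      (by rw [Nat.card_zpowers, hws, pow_one]) : IsPGroup p (zpowers ((c : G) ^ j))).exists_le_sylow
    have hRe := eq_of_le_of_card_ge hR (by rw [hF.card_P R, Nat.card_zpowers, hws])
    have htR : t ∈ centralizer ((R : Subgroup G) : Set G) := by
      rw [← hRe, mem_centralizer_iff]
      intro v hv
      obtain ⟨i, rfl⟩ := mem_zpowers_iff.1 hv
      exact (((htc.pow_right j).zpow_right i).eq).symm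
    have := orderOf_dvd_natCard (⟨t, htR⟩ : centralizer ((R : Subgroup G) : Set G))
    rw [orderOf_mk, hto, hF.card_C R] at this
    norm_num at this
  rcases hj with hj | hj
  · exact hodd 5 36 hf5 hj
  · exact hodd 7 36 hf7 hj

/-- The Sylow subgroups of orders seven and five. -/
theorem facts (hh : Hyp G) :
    H32.ExactSieve.Facts G 7 120 7 ∧
      ∃ k c, H32.ExactSieve.Facts G 5 k c ∧ c ∈ [5, 10, 30, 60] ∧ (c = 5 → k = 126) := by
  have hG := hh.notComm
  have hD : ∀ d, d ∣ Nat.card G → d ∈ H32.ExactSieve.divList [2, 2, 2, 3, 3, 5, 7] :=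
    fun d hd => H32.ExactSieve.mem_divList _ (by norm_num) d (by simpa [hh.card_eq] using hd)
  have hpr : ∀ p ∈ [7, 5], p.Prime ∧ p ≠ 2 ∧ p ∣ Nat.card G ∧ Nat.card G % (p * p) ≠ 0 := by
    intro p hp
    fin_cases hp <;> rw [hh.card_eq] <;> norm_num
  obtain ⟨acc, hacc, hf⟩ := SmallRange.exists_sol hG _ hD [7, 5] (by simp) hpr
  rw [hh.card_eq] at hacc
  have key : ∀ acc ∈ SmallRange.sols (H32.ExactSieve.divList [2, 2, 2, 3, 3, 5, 7]) 2520 [7, 5] [],
      (∃ c ∈ [28, 56, 84], (7, 15, c) ∈ acc) ∨ ((7, 36, 35) ∈ acc ∧ (5, 36, 35) ∈ acc) ∨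
        ((7, 120, 7) ∈ acc ∧ ∃ t ∈ acc, t.1 = 5 ∧ t.2.2 ∈ [5, 10, 30, 60] ∧ (t.2.2 = 5 → t.2.1 = 126)) := by
    decide +kernel
  rcases key acc hacc with ⟨c, hc, hm⟩ | ⟨h7, h5⟩ | ⟨h7, ⟨⟨p, k, c⟩, ht, hp, hc, hk⟩⟩
  · exfalso
    have hF : H32.ExactSieve.Facts G 7 15 c := hf _ hm
    exact false_of_orbit_two hG hF (hh.card_eq ▸ by norm_num) (by norm_num)
      (by fin_cases hc <;> norm_num) (by norm_num)
  · exact (false_of_thirtyfive hh (hf _ h7) (hf _ h5)).elim
  · have hF := hf _ ht
    simp only at hp hc hk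
    subst hp
    exact ⟨hf _ h7, k, c, hF, hc, hk⟩

end AltSeven
end H62
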