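/-
Simple groups of order 2520 without a subgroup of index seven: the Sylow 3-subgroups.
-/
import Cfsg.Agent.H62.AltSevenBasic
import Cfsg.Agent.H62.Intersect
import Cfsg.Agent.H65.BrauerFowler

set_option autoImplicit false
set_option linter.unusedSectionVars false
set_option linter.style.haveILetI false

namespace H62
namespace AltSeven

open Subgroup

variable {G : Type*} [Group G] [Finite G] [IsSimpleGroup G] [h3F : Fact (Nat.Prime 3)]

section

variable (hh : Hyp G)
include hh

theorem card_three (P : Sylow 3 G) : Nat.card (P : Subgroup G) = 9 := by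
  simpa using card_sylow_coe (a := 2) (m := 280) (by rw [hh.card_eq]; norm_num) (by decide) P

theorem comm_three (P : Sylow 3 G) : IsMulCommutative (P : Subgroup G) :=
  IsPGroup.isMulCommutative_of_card_eq_prime_sq (p := 3) (by rw [card_three hh P]; norm_num)

theorem mul_comm_three (P : Sylow 3 G) {x y : G} (hx : x ∈ (P : Subgroup G))
    (hy : y ∈ (P : Subgroup G)) : x * y = y * x :=
  congrArg Subtype.val ((comm_three hh P).is_comm.comm (⟨x, hx⟩ : (P : Subgroup G)) ⟨y, hy⟩)

/-- A Sylow 3-subgroup has no normalising element of order five or seven. -/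
theorem false_of_five_seven (P : Sylow 3 G) {q : ℕ} [Fact q.Prime] (hq : q = 5 ∨ q = 7) {y : G}
    (hy : orderOf y = q) (hyN : y ∈ normalizer ((P : Subgroup G) : Set G)) : False := by
  have hcomm := commute_of_normalize (P : Subgroup G) (card_three hh P) hq hy hyN
  obtain ⟨R, hR⟩ := (IsPGroup.of_card (p := q) (n := 1)
    (by rw [Nat.card_zpowers, hy, pow_one]) : IsPGroup q (zpowers y)).exists_le_sylow
  obtain ⟨k, c, hF, hc⟩ : ∃ k c, H32.ExactSieve.Facts G q k c ∧ c ∈ [5, 7, 10, 30, 60] := by
    obtain ⟨h7, k, c, h5, hc, -⟩ := facts hh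
    rcases hq with rfl | rfl
    · exact ⟨k, c, h5, by simp at hc ⊢; omega⟩
    · exact ⟨120, 7, h7, by simp⟩
  have hRe := eq_of_le_of_card_ge hR (by rw [hF.card_P R, Nat.card_zpowers, hy])
  have hle : (P : Subgroup G) ≤ centralizer ((R : Subgroup G) : Set G) := by
    intro x hx
    rw [← hRe, mem_centralizer_iff]
    intro v hv
    obtain ⟨i, rfl⟩ := mem_zpowers_iff.1 hv
    exact ((show Commute x y from hcomm x hx).zpow_right i).eq.symm
  have h9 := card_dvd_of_le hle
  rw [card_three hh P, hF.card_C R] at h9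
  fin_cases hc <;> norm_num at h9

theorem card_sylow_three : Nat.card (Sylow 3 G) = 70 := by
  have hk := H65.sylow_candidate (p := 3) (a := 2) (m := 280) hh.notComm hh.card_eq (by norm_num)
    (by decide) (by norm_num)
  rw [show (Nat.divisors 280).filter (fun d => d % 3 = 1 ∧ 1 < d ∧ 2 * 2520 ∣ d.factorial) =
    {7, 10, 28, 40, 70, 280} from by decide +kernel] at hk
  obtain ⟨P⟩ := (inferInstance : Nonempty (Sylow 3 G))
  have hN := card_normalizer_mul P
  rw [hh.card_eq] at hN
  have hlt := card_sylow_lt_card_normalizer hh.notComm (hh.card_eq ▸ by norm_num) P (comm_three hh P)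
  rw [card_three hh P] at hlt
  have hdead : ∀ q : ℕ, q.Prime → (q = 5 ∨ q = 7) →
      ¬ q ∣ Nat.card (normalizer ((P : Subgroup G) : Set G)) := by
    intro q hq hq' hd
    haveI := Fact.mk hq
    obtain ⟨y, hyN, hyo⟩ := H70.exists_mem_orderOf _ q hq hd
    exact false_of_five_seven hh P hq' hyo hyN
  have h5 := hdead 5 Nat.prime_five (Or.inl rfl)
  have h7 := hdead 7 (by norm_num) (Or.inr rfl)
  simp only [Finset.mem_insert, Finset.mem_singleton] at hk
  rcases hk with h | h | h | h | h | h <;> rw [h] at hN ⊢ <;> omega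

theorem card_normalizer_three (P : Sylow 3 G) :
    Nat.card (normalizer ((P : Subgroup G) : Set G)) = 36 := by
  have hN := card_normalizer_mul P
  rw [card_sylow_three hh, hh.card_eq] at hN
  omega

/-- A normalising element of `3`-power order lies in the Sylow subgroup. -/
theorem mem_of_normalize (P R : Sylow 3 G) {x : G} (hx : x ∈ (R : Subgroup G))
    (hxN : x ∈ normalizer ((P : Subgroup G) : Set G)) : x ∈ (P : Subgroup G) := by
  have h := R.isPGroup'.inf_normalizer_sylow P
  have : x ∈ (R : Subgroup G) ⊓ (P : Subgroup G) := h ▸ mem_inf.2 ⟨hx, hxN⟩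
  exact this.2

/-- Two Sylow subgroups through a nontrivial element. -/
theorem exists_pair : ∃ P R : Sylow 3 G, P ≠ R ∧ ∃ a : G, a ∈ (P : Subgroup G) ∧
    a ∈ (R : Subgroup G) ∧ a ≠ 1 := by
  obtain ⟨P, R, hne, hcard, -, -⟩ := exists_inter_normalizer (p := 3) (G := G)
    (by rw [card_sylow_three hh]; decide)
  rw [card_three hh P] at hcard
  obtain ⟨a, ha, hao⟩ := H70.exists_mem_orderOf ((P : Subgroup G) ⊓ (R : Subgroup G)) 3 Nat.prime_three
    ⟨1, by omega⟩
  exact ⟨P, R, hne, a, ha.1, ha.2, fun h => by rw [h, orderOf_one] at hao; omega⟩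

end

/-- Two distinct Sylow 3-subgroups meeting at `a`. -/
structure Pair (G : Type*) [Group G] [Fact (Nat.Prime 3)] (P R : Sylow 3 G) (a : G) : Prop where
  hyp : Hyp G
  ne : P ≠ R
  memP : a ∈ (P : Subgroup G)
  memR : a ∈ (R : Subgroup G)
  ne_one : a ≠ 1

variable {P R : Sylow 3 G} {a : G}

theorem Pair.le_centralizer (hp : Pair G P R a) : (P : Subgroup G) ≤ centralizer ({a} : Set G) :=
  fun _ hx => mem_centralizer_singleton_iff.2 (mul_comm_three hp.hyp P hx hp.memP)

theorem Pair.le_centralizer' (hp : Pair G P R a) : (R : Subgroup G) ≤ centralizer ({a} : Set G) :=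
  fun _ hx => mem_centralizer_singleton_iff.2 (mul_comm_three hp.hyp R hx hp.memR)

theorem Pair.centralizer_ne_top (hp : Pair G P R a) : centralizer ({a} : Set G) ≠ ⊤ := by
  intro h
  apply hp.ne_one
  have : a ∈ center G := mem_center_iff.2 fun g =>
    mem_centralizer_singleton_iff.1 (h ▸ mem_top g)
  rwa [center_eq_bot_of_simple hp.hyp.notComm, mem_bot] at this

theorem Pair.orderOf_eq (hp : Pair G P R a) : orderOf a = 3 := by
  have h2 := orderOf_dvd_natCard (⟨a, hp.memP⟩ : (P : Subgroup G))
  rw [orderOf_mk, card_three hp.hyp P] at h2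
  have hP' : (P : Subgroup G) ⊓ (R : Subgroup G) ≠ (P : Subgroup G) := fun h => hp.ne
    (Sylow.ext (eq_of_le_of_card_ge (inf_eq_left.1 h) (by rw [card_three hp.hyp, card_three hp.hyp])))
  have hd : Nat.card ((P : Subgroup G) ⊓ (R : Subgroup G) : Subgroup G) ∣ 9 :=
    card_three hp.hyp P ▸ card_dvd_of_le inf_le_left
  have hne9 : Nat.card ((P : Subgroup G) ⊓ (R : Subgroup G) : Subgroup G) ≠ 9 := fun h => hP'
    (eq_of_le_of_card_ge inf_le_left (by rw [h, card_three hp.hyp]))
  have h3 := orderOf_dvd_natCard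
    (⟨a, mem_inf.2 ⟨hp.memP, hp.memR⟩⟩ : ((P : Subgroup G) ⊓ (R : Subgroup G) : Subgroup G))
  rw [orderOf_mk] at h3
  obtain ⟨i, hi, he⟩ := (Nat.dvd_prime_pow Nat.prime_three).1 (show _ ∣ 3 ^ 2 from hd)
  rw [he] at h3 hne9
  have hi2 : i ≤ 1 := by
    by_contra hc
    exact hne9 (by rw [show i = 2 by omega]; norm_num)
  rcases (Nat.dvd_prime Nat.prime_three).1 (h3.trans (pow_dvd_pow 3 hi2)) with h | h
  · exact absurd (orderOf_eq_one_iff.1 h) hp.ne_one
  · exact h

/-- The centraliser of `a` has order `36` and meets `N(P)` in `P`. -/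
theorem Pair.spec (hp : Pair G P R a) : Nat.card (centralizer ({a} : Set G)) = 36 ∧
    centralizer ({a} : Set G) ⊓ normalizer ((P : Subgroup G) : Set G) = (P : Subgroup G) := by
  have hh := hp.hyp
  have hG := hh.notComm
  set D := centralizer ({a} : Set G) with hD
  set N := normalizer ((P : Subgroup G) : Set G) with hN
  set M := D ⊓ N with hM
  have hPM : (P : Subgroup G) ≤ M := le_inf hp.le_centralizer le_normalizer
  have hNc : Nat.card N = 36 := card_normalizer_three hh P
  have hM9 : 9 ∣ Nat.card M := card_three hh P ▸ card_dvd_of_le hPM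
  have hMN : Nat.card M ∣ 36 := hNc ▸ card_dvd_of_le inf_le_right
  obtain ⟨k, hk, hk3⟩ := H70.sylow_count_in P D hp.le_centralizer
  rw [← hN, ← hM] at hk
  have hk1 : k ≠ 1 := by
    intro h
    rw [h, one_mul] at hk
    have hDN : D ≤ N := (eq_of_le_of_card_ge (inf_le_left : M ≤ D) hk.le) ▸ inf_le_right
    apply hp.ne
    refine Sylow.ext (eq_of_le_of_card_ge (fun x hx => ?_) (by rw [card_three hh, card_three hh])).symm
    exact mem_of_normalize hh P R hx (hDN (hp.le_centralizer' hx))
  obtain ⟨hDd, hD315⟩ := hh.proper D hp.centralizer_ne_top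
  have h7 : ¬ 7 ∣ Nat.card D := by
    intro h
    haveI : Fact (Nat.Prime 7) := ⟨by norm_num⟩
    obtain ⟨y, hyD, hyo⟩ := H70.exists_mem_orderOf D 7 (by norm_num) h
    obtain ⟨Q, hQ⟩ := (IsPGroup.of_card (p := 7) (n := 1)
      (by rw [Nat.card_zpowers, hyo, pow_one]) : IsPGroup 7 (zpowers y)).exists_le_sylow
    have hF := (facts hh).1
    have hQe := eq_of_le_of_card_ge hQ (by rw [hF.card_P Q, Nat.card_zpowers, hyo])
    have haC : a ∈ centralizer ((Q : Subgroup G) : Set G) := by
      rw [← hQe, mem_centralizer_iff]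
      intro v hv
      obtain ⟨i, rfl⟩ := mem_zpowers_iff.1 hv
      exact ((show Commute y a from mem_centralizer_singleton_iff.1 hyD).zpow_left i).eq
    have h1 := orderOf_dvd_natCard (⟨a, haC⟩ : centralizer ((Q : Subgroup G) : Set G))
    rw [orderOf_mk, hF.card_C Q] at h1
    have h2 := orderOf_dvd_natCard (⟨a, hp.memP⟩ : (P : Subgroup G))
    rw [orderOf_mk, card_three hh P] at h2
    exact hp.ne_one (orderOf_eq_one_iff.1 (Nat.dvd_one.1
      ((show Nat.gcd 7 9 = 1 by norm_num) ▸ Nat.dvd_gcd h1 h2)))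
  have hM3 : Nat.card M = 9 ∨ Nat.card M = 18 ∨ Nat.card M = 36 := by
    obtain ⟨c, hc⟩ := hM9
    have : c ∣ 4 := Nat.dvd_of_mul_dvd_mul_left (by norm_num : 0 < 9) (hc ▸ hMN)
    have : c ≤ 4 := Nat.le_of_dvd (by norm_num) this
    interval_cases c <;> omega
  rcases hM3 with hMc | hMc | hMc
  · refine ⟨?_, (eq_of_le_of_card_ge hPM (by rw [hMc, card_three hh P])).symm⟩
    rw [hMc] at hk
    have hkd : k ∣ 280 := by
      obtain ⟨c, hc⟩ := hDd
      exact ⟨c, by rw [hk] at hc; nlinarith⟩
    have hk35 : k ≤ 35 := by omega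
    have hk' : k = 4 ∨ k = 10 := by
      have key : ∀ k ∈ Finset.range 36, k ∣ 280 → k % 3 = 1 → k ≠ 1 → ¬ 7 ∣ k * 9 → k = 4 ∨ k = 10 := by
        decide
      exact key k (Finset.mem_range.2 (by omega)) hkd hk3 hk1 (hk ▸ h7)
    rcases hk' with rfl | rfl
    · rw [hk]
    exfalso
    obtain ⟨K, hK⟩ := H65.exists_index_two_of_card_mod_four (G := D) (by rw [hk])
    have hKc : Nat.card K = 45 := by
      have := K.card_mul_index
      rw [hK, hk] at this
      omega
    set K' := K.map D.subtype with hK'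
    have hK'c : Nat.card K' = 45 := by rw [hK', card_map_of_injective D.subtype_injective, hKc]
    obtain ⟨S⟩ := (inferInstance : Nonempty (Sylow 3 K'))
    have hSc : Nat.card (S : Subgroup K') = 9 := by
      simpa using card_sylow_coe (a := 2) (m := 5) (by rw [hK'c]; norm_num) (by decide) S
    obtain ⟨Q, hQ⟩ := (S.isPGroup'.map K'.subtype).exists_le_sylow
    have hQe : (S : Subgroup K').map K'.subtype = (Q : Subgroup G) :=
      eq_of_le_of_card_ge hQ (by rw [card_map_of_injective K'.subtype_injective, hSc, card_three hh Q])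
    have hQK : (Q : Subgroup G) ≤ K' := hQe ▸ map_subtype_le _
    obtain ⟨j, hj, hj3⟩ := H70.sylow_count_in Q K' hQK
    have hj9 : 9 ∣ Nat.card (K' ⊓ normalizer ((Q : Subgroup G) : Set G) : Subgroup G) :=
      card_three hh Q ▸ card_dvd_of_le (le_inf hQK le_normalizer)
    rw [hK'c] at hj
    obtain ⟨c, hc⟩ := hj9
    rw [hc] at hj
    have hj1 : j = 1 := by
      have : j ∣ 5 := ⟨c, by nlinarith⟩
      rcases (Nat.dvd_prime Nat.prime_five).1 this with h | h <;> omega
    haveI : Fact (Nat.Prime 5) := ⟨Nat.prime_five⟩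
    obtain ⟨y, hy, hyo⟩ := H70.exists_mem_orderOf K' 5 Nat.prime_five (by rw [hK'c]; norm_num)
    have hKN : K' ≤ normalizer ((Q : Subgroup G) : Set G) := by
      have := eq_of_le_of_card_ge (inf_le_left : K' ⊓ normalizer ((Q : Subgroup G) : Set G) ≤ K')
        (by rw [hc, hK'c]; subst hj1; omega)
      exact this ▸ inf_le_right
    exact false_of_five_seven hh Q (Or.inl rfl) hyo (hKN hy)
  · exfalso
    rw [hMc] at hk
    -- some element of the normaliser moves `a`; then it inverts `a`
    obtain ⟨n, hnN, hnD⟩ : ∃ n ∈ N, n ∉ D := by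
      by_contra hc
      push Not at hc
      have : M = N := le_antisymm inf_le_right (le_inf hc le_rfl)
      rw [this] at hMc
      omega
    have hidx : (M.subgroupOf N).index = 2 := by
      have h1 := (M.subgroupOf N).card_mul_index
      rw [Nat.card_congr (subgroupOfEquivOfLe (inf_le_right : M ≤ N)).toEquiv, hMc, hNc] at h1
      omega
    have hnor : (M.subgroupOf N).Normal := normal_of_index_eq_two hidx
    have hn2 : n * n ∈ D := by
      have h1 := Subgroup.mul_self_mem_of_index_two hidx ⟨n, hnN⟩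
      exact (mem_subgroupOf.1 h1).1
    have hmove : ∀ m ∈ M, m * (n * a * n⁻¹) * m⁻¹ = n * a * n⁻¹ := by
      intro m hm
      have h1 : n⁻¹ * m * n ∈ M := by
        have := hnor.conj_mem ⟨m, hm.2⟩ (mem_subgroupOf.2 hm) ⟨n, hnN⟩⁻¹
        simpa [mem_subgroupOf] using this
      have h2 := mem_centralizer_singleton_iff.1 h1.1
      calc m * (n * a * n⁻¹) * m⁻¹ = n * (n⁻¹ * m * n * a) * (n⁻¹ * m⁻¹) := by group
        _ = n * a * n⁻¹ := by rw [h2]; group
    have ha' : n * a * n⁻¹ ∈ (P : Subgroup G) := (mem_normalizer_iff.1 hnN a).1 hp.memP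
    have hfix : ∀ g ∈ N, g * (a * (n * a * n⁻¹)) = (a * (n * a * n⁻¹)) * g := by
      have hconj : ∀ g ∈ N, g * (a * (n * a * n⁻¹)) * g⁻¹ = a * (n * a * n⁻¹) := by
        intro g hg
        by_cases hgM : g ∈ M
        · calc g * (a * (n * a * n⁻¹)) * g⁻¹ = (g * a * g⁻¹) * (g * (n * a * n⁻¹) * g⁻¹) := by group
            _ = a * (n * a * n⁻¹) := by
              rw [hmove g hgM, mem_centralizer_singleton_iff.1 hgM.1, mul_inv_cancel_right]
        · have hgn : n⁻¹ * g ∈ M := by
            have h1 := Subgroup.mul_mem_iff_of_index_two hidx (a := (⟨n, hnN⟩⁻¹ : N)) (b := ⟨g, hg⟩)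
            simp only [mem_subgroupOf, coe_inv, Subgroup.coe_mul, inv_mem_iff] at h1
            exact h1.2 (iff_of_false (fun h => hnD h.1) hgM)
          have h1 : g * a * g⁻¹ = n * a * n⁻¹ := by
            have h2 := mem_centralizer_singleton_iff.1 hgn.1
            calc g * a * g⁻¹ = n * (n⁻¹ * g * a) * g⁻¹ := by group
              _ = n * a * n⁻¹ := by rw [h2]; group
          have h3 : g * (n * a * n⁻¹) * g⁻¹ = a := by
            have h2 := hmove _ hgn
            have h4 := mem_centralizer_singleton_iff.1 hn2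
            calc g * (n * a * n⁻¹) * g⁻¹ = n * ((n⁻¹ * g) * (n * a * n⁻¹) * (n⁻¹ * g)⁻¹) * n⁻¹ := by group
              _ = n * (n * a * n⁻¹) * n⁻¹ := by rw [h2]
              _ = n * n * a * (n * n)⁻¹ := by group
              _ = a := by rw [h4, mul_inv_cancel_right]
          calc g * (a * (n * a * n⁻¹)) * g⁻¹ = (g * a * g⁻¹) * (g * (n * a * n⁻¹) * g⁻¹) := by group
            _ = a * (n * a * n⁻¹) := by rw [h1, h3]; exact mul_comm_three hh P ha' hp.memP
      exact fun g hg => mul_inv_eq_iff_eq_mul.1 (hconj g hg)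
    have hinv : n * a * n⁻¹ = a⁻¹ := eq_inv_of_mul_eq_one_right
      (eq_one_of_fixed hG P (comm_three hh P) (mul_mem hp.memP ha') hfix)
    -- the normaliser of the subgroup generated by `a`
    set L := normalizer ((zpowers a : Subgroup G) : Set G) with hL
    have hCz : centralizer ((zpowers a : Subgroup G) : Set G) = D := by
      rw [zpowers_eq_closure, centralizer_closure]
    have hDL : D ≤ L := hCz ▸ centralizer_le_normalizer _
    have hnL : n ∈ L := by
      refine mem_normalizer_iff.2 fun w => ?_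
      have hmap : ∀ i : ℤ, n * a ^ i * n⁻¹ = a ^ (-i) := fun i => by
        rw [← conj_zpow, hinv, inv_zpow, zpow_neg]
      constructor
      · intro hw
        obtain ⟨i, rfl⟩ := mem_zpowers_iff.1 hw
        exact mem_zpowers_iff.2 ⟨-i, (hmap i).symm⟩
      · intro hw
        obtain ⟨i, hi⟩ := mem_zpowers_iff.1 hw
        refine mem_zpowers_iff.2 ⟨-i, ?_⟩
        have := hmap (-i)
        rw [neg_neg, hi] at this
        exact mul_left_cancel (mul_right_cancel this)
    have hgt : D.relIndex L ≠ 1 := fun h => hnD (relIndex_eq_one.1 h hnL)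
    have hord : orderOf a = 3 := hp.orderOf_eq
    have hr := relIndex_centralizer_dvd_prime (p := 3) (zpowers a) (by rw [Nat.card_zpowers, hord])
    rw [hCz] at hr
    have hr2 : D.relIndex L = 2 := by
      rcases (Nat.dvd_prime Nat.prime_two).1 hr with h | h
      · exact absurd h hgt
      · exact h
    have hLc : Nat.card L = 36 * k := by
      have h1 := (D.subgroupOf L).card_mul_index
      rw [Nat.card_congr (subgroupOfEquivOfLe hDL).toEquiv, hk,
        show (D.subgroupOf L).index = 2 from hr2] at h1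
      omega
    have hLt : L ≠ ⊤ := by
      intro h
      have hnz : (zpowers a).Normal := normalizer_eq_top_iff.1 h
      rcases hnz.eq_bot_or_eq_top with h1 | h1
      · exact hp.ne_one (zpowers_eq_bot.1 h1)
      · have := congrArg (fun H : Subgroup G => Nat.card H) h1
        simp [Nat.card_zpowers, hord, hh.card_eq] at this
    obtain ⟨hLd, hL315⟩ := hh.proper L hLt
    rw [hLc] at hLd hL315
    have key : ∀ k ∈ Finset.range 9, 36 * k ∣ 2520 → k % 3 = 1 → k ≠ 1 → k = 7 := by decide
    have := key k (Finset.mem_range.2 (by omega)) hLd hk3 hk1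
    exact h7 ⟨18, by rw [hk, this]⟩
  · exfalso
    have hNM : M = N := eq_of_le_of_card_ge inf_le_right (by rw [hMc, hNc])
    refine hp.ne_one (eq_one_of_fixed hG P (comm_three hh P) hp.memP fun n hn => ?_)
    exact mem_centralizer_singleton_iff.1 ((hNM.ge.trans inf_le_left) hn)

end AltSeven
end H62
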