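/-
Simple groups of order 2520 without a subgroup of index seven: centralisers of 3-elements.
-/
import Cfsg.Agent.H62.AltSevenThree

set_option autoImplicit false
set_option linter.unusedSectionVars false
set_option linter.style.haveILetI false

namespace H62
namespace AltSeven

open Subgroup
open scoped Pointwise

variable {G : Type*} [Group G] [Finite G] [IsSimpleGroup G] [h3F : Fact (Nat.Prime 3)]

/-- Every Sylow 3-subgroup takes part in a pair. -/
theorem exists_pair_at (hh : Hyp G) (P : Sylow 3 G) : ∃ (R : Sylow 3 G) (a : G), Pair G P R a := by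
  obtain ⟨P₀, R₀, hne, a, haP, haR, ha1⟩ := exists_pair hh
  obtain ⟨g, rfl⟩ := MulAction.exists_smul_eq G P₀ P
  refine ⟨g • R₀, g * a * g⁻¹, hh, fun h => hne (MulAction.injective g h), ?_, ?_,
    fun h => ha1 (conj_eq_one_iff.1 h)⟩
  · exact Subgroup.smul_mem_pointwise_smul a (MulAut.conj g) _ haP
  · exact Subgroup.smul_mem_pointwise_smul a (MulAut.conj g) _ haR

/-- The Sylow 3-subgroups are self-centralising. -/
theorem centralizer_three (hh : Hyp G) (P : Sylow 3 G) :
    centralizer ((P : Subgroup G) : Set G) = (P : Subgroup G) := by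
  obtain ⟨R, a, hp⟩ := exists_pair_at hh P
  refine le_antisymm (fun g hg => ?_) (fun g hg => mem_centralizer_iff.2 fun x hx => mul_comm_three hh P hx hg)
  rw [← hp.spec.2]
  exact ⟨mem_centralizer_singleton_iff.2 (mem_centralizer_iff.1 hg a hp.memP).symm,
    centralizer_le_normalizer _ hg⟩

/-- A conjugate of a pair. -/
theorem Pair.conj {P R : Sylow 3 G} {a : G} (hp : Pair G P R a) (g : G) :
    Pair G (g • P) (g • R) (g * a * g⁻¹) :=
  ⟨hp.hyp, fun h => hp.ne (MulAction.injective g h),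
    Subgroup.smul_mem_pointwise_smul a (MulAut.conj g) _ hp.memP,
    Subgroup.smul_mem_pointwise_smul a (MulAut.conj g) _ hp.memR,
    fun h => hp.ne_one (conj_eq_one_iff.1 h)⟩

theorem Pair.symm {P R : Sylow 3 G} {a : G} (hp : Pair G P R a) : Pair G R P a :=
  ⟨hp.hyp, hp.ne.symm, hp.memR, hp.memP, hp.ne_one⟩

theorem Pair.inv {P R : Sylow 3 G} {a : G} (hp : Pair G P R a) : Pair G P R a⁻¹ :=
  ⟨hp.hyp, hp.ne, inv_mem hp.memP, inv_mem hp.memR, inv_ne_one.2 hp.ne_one⟩

/-- Every Sylow subgroup through such an element gives a pair. -/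
theorem Pair.through {P R : Sylow 3 G} {a : G} (hp : Pair G P R a) (P' : Sylow 3 G)
    (h : a ∈ (P' : Subgroup G)) : ∃ R' : Sylow 3 G, Pair G P' R' a := by
  by_cases h1 : P' = P
  · exact ⟨R, h1 ▸ hp⟩
  · exact ⟨P, hp.hyp, h1, h, hp.memP, hp.ne_one⟩

variable {P R : Sylow 3 G} {a : G}

/-- Some involution of `N(P)` inverts `a`. -/
theorem Pair.exists_invert (hp : Pair G P R a) :
    ∃ t : G, orderOf t = 2 ∧ t ∈ normalizer ((P : Subgroup G) : Set G) ∧ t * a * t⁻¹ = a⁻¹ := by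
  classical
  haveI : Fact (Nat.Prime 2) := ⟨Nat.prime_two⟩
  have hh := hp.hyp
  have hG := hh.notComm
  set N := normalizer ((P : Subgroup G) : Set G) with hN
  obtain ⟨U⟩ := (inferInstance : Nonempty (Sylow 2 N))
  have hUc : Nat.card (U : Subgroup N) = 4 := by
    simpa using card_sylow_coe (a := 2) (m := 9) (by rw [card_normalizer_three hh P]; norm_num) (by decide) U
  haveI hUa : IsMulCommutative (U : Subgroup N) :=
    IsPGroup.isMulCommutative_of_card_eq_prime_sq (p := 2) (by rw [hUc]; norm_num)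
  have hpow : ∀ u : (U : Subgroup N), u ^ 4 = 1 := fun u => by rw [← hUc]; exact pow_card_eq_one'
  have hmem : ∀ (u : (U : Subgroup N)) (x : G), x ∈ (P : Subgroup G) →
      ((u : N) : G) * x * ((u : N) : G)⁻¹ ∈ (P : Subgroup G) :=
    fun u x hx => (mem_normalizer_iff.1 (u : N).2 x).1 hx
  have hfix : ∀ u : (U : Subgroup N), ((u : N) : G) * a * ((u : N) : G)⁻¹ = a → u = 1 := by
    intro u hu
    have hP' : ((u : N) : G) ∈ (P : Subgroup G) := by
      rw [← hp.spec.2]
      exact ⟨mem_centralizer_singleton_iff.2 (mul_inv_eq_iff_eq_mul.1 hu), (u : N).2⟩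
    have h1 : orderOf u ∣ 9 := by
      have := orderOf_dvd_natCard (⟨((u : N) : G), hP'⟩ : (P : Subgroup G))
      rwa [orderOf_mk, card_three hh P, orderOf_coe, orderOf_coe] at this
    have h2 : orderOf u ∣ 4 := orderOf_dvd_of_pow_eq_one (hpow u)
    exact orderOf_eq_one_iff.1 (Nat.dvd_one.1 ((show Nat.gcd 9 4 = 1 by norm_num) ▸ Nat.dvd_gcd h1 h2))
  obtain ⟨r, hr⟩ := exists_prime_orderOf_dvd_card' (G := (U : Subgroup N)) 2 (by rw [hUc]; norm_num)
  have hrG : orderOf ((r : N) : G) = 2 := by rw [orderOf_coe, orderOf_coe, hr]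
  set s : G := ((r : N) : G) with hs
  have hss : s * s = 1 := by rw [← sq, ← hrG, pow_orderOf_eq_one]
  have hsinv : s⁻¹ = s := inv_eq_of_mul_eq_one_right hss
  set a' : G := s * a * s⁻¹ with ha'
  have ha'P : a' ∈ (P : Subgroup G) := hmem r a hp.memP
  by_cases hinv : a' = a⁻¹
  · exact ⟨s, hrG, (r : N).2, hinv⟩
  have ha3 : a ^ 3 = 1 := by rw [← hp.orderOf_eq, pow_orderOf_eq_one]
  have hsa' : s * a' * s⁻¹ = a := by
    rw [ha', hsinv]
    calc s * (s * a * s) * s = s * s * a * (s * s) := by group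
      _ = a := by rw [hss, one_mul, mul_one]
  set e : G := a * a' with he
  set f : G := a⁻¹ * a' with hf
  have hea : e ∈ (P : Subgroup G) := mul_mem hp.memP ha'P
  have hfa : f ∈ (P : Subgroup G) := mul_mem (inv_mem hp.memP) ha'P
  have he1 : e ≠ 1 := fun h => hinv (eq_inv_of_mul_eq_one_right h)
  have hf1 : f ≠ 1 := by
    intro h
    have h1 : a' = a := (inv_mul_eq_one.1 h).symm
    have := hfix r h1
    rw [this, orderOf_one] at hr
    omega
  have hes : s * e * s⁻¹ = e := by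
    calc s * e * s⁻¹ = (s * a * s⁻¹) * (s * a' * s⁻¹) := by rw [he]; group
      _ = a' * a := by rw [hsa', ← ha']
      _ = e := mul_comm_three hh P ha'P hp.memP
  have hfs : s * f * s⁻¹ = f⁻¹ := by
    calc s * f * s⁻¹ = (s * a * s⁻¹)⁻¹ * (s * a' * s⁻¹) := by rw [hf]; group
      _ = a'⁻¹ * a := by rw [hsa', ← ha']
      _ = f⁻¹ := by rw [hf]; group
  -- the fixed and the inverted elements
  let Fx : Subgroup G := (P : Subgroup G) ⊓ centralizer ({s} : Set G)
  let Iv : Subgroup G :=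
    { carrier := {x | x ∈ (P : Subgroup G) ∧ s * x * s⁻¹ = x⁻¹}
      one_mem' := ⟨one_mem _, by simp⟩
      mul_mem' := by
        rintro x y ⟨hx, hx'⟩ ⟨hy, hy'⟩
        refine ⟨mul_mem hx hy, ?_⟩
        calc s * (x * y) * s⁻¹ = (s * x * s⁻¹) * (s * y * s⁻¹) := by group
          _ = x⁻¹ * y⁻¹ := by rw [hx', hy']
          _ = (x * y)⁻¹ := by rw [mul_inv_rev]; exact mul_comm_three hh P (inv_mem hx) (inv_mem hy)
      inv_mem' := by
        rintro x ⟨hx, hx'⟩
        refine ⟨inv_mem hx, ?_⟩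
        calc s * x⁻¹ * s⁻¹ = (s * x * s⁻¹)⁻¹ := by group
          _ = x⁻¹⁻¹ := by rw [hx'] }
  have heF : e ∈ Fx := ⟨hea, mem_centralizer_singleton_iff.2 (mul_inv_eq_iff_eq_mul.1 hes).symm⟩
  have hfI : f ∈ Iv := ⟨hfa, hfs⟩
  have hthree : ∀ (S : Subgroup G), S ≤ (P : Subgroup G) → ∀ x ∈ S, x ≠ 1 → ∀ b ∈ (P : Subgroup G), b ∉ S →
      ∀ y ∈ S, y ≠ 1 → y = x ∨ y = x⁻¹ := by
    intro S hS x hx hx1 b hb hbS y hy hy1
    have h9 : Nat.card S ∣ 3 ^ 2 := by
      rw [show (3 : ℕ) ^ 2 = 9 from rfl, ← card_three hh P]; exact card_dvd_of_le hS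
    obtain ⟨i, hi, hic⟩ := (Nat.dvd_prime_pow Nat.prime_three).1 h9
    have hlt : Nat.card S ≠ 9 := fun h => hbS ((eq_of_le_of_card_ge hS (by rw [h, card_three hh P])).ge hb)
    have h3 : Nat.card S = 3 := by
      interval_cases i
      · exact absurd (Subgroup.card_eq_one.1 (by rw [hic]; rfl) ▸ hx : x ∈ (⊥ : Subgroup G)) (by simpa using hx1)
      · rw [hic]; rfl
      · exact absurd (by rw [hic]; rfl) hlt
    have hx3 : orderOf x = 3 := by
      have := orderOf_dvd_natCard (⟨x, hx⟩ : S)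
      rw [orderOf_mk, h3] at this
      exact ((Nat.dvd_prime Nat.prime_three).1 this).resolve_left (fun h => hx1 (orderOf_eq_one_iff.1 h))
    have hSe : zpowers x = S :=
      eq_of_le_of_card_ge (zpowers_le.2 hx) (by rw [h3, Nat.card_zpowers, hx3])
    rw [← hSe, mem_zpowers_iff_mem_range_orderOf, hx3] at hy
    obtain ⟨i, hi, rfl⟩ := Finset.mem_image.1 hy
    rw [Finset.mem_range] at hi
    interval_cases i
    · simp at hy1
    · exact Or.inl (pow_one x)
    · refine Or.inr (eq_inv_of_mul_eq_one_left ?_)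
      rw [← pow_succ]
      show x ^ 3 = 1
      rw [← hx3, pow_orderOf_eq_one]
  have hxs : ∀ x ∈ (P : Subgroup G), s * x * s⁻¹ = x → s * x * s⁻¹ = x⁻¹ → x = 1 := by
    intro x hx h1 h2
    have h3 : x ^ 2 = 1 := by rw [sq]; exact eq_inv_iff_mul_eq_one.1 (h1.symm.trans h2)
    have h4 := orderOf_dvd_natCard (⟨x, hx⟩ : (P : Subgroup G))
    rw [orderOf_mk, card_three hh P] at h4
    exact orderOf_eq_one_iff.1 (Nat.dvd_one.1
      ((show Nat.gcd 9 2 = 1 by norm_num) ▸ Nat.dvd_gcd h4 (orderOf_dvd_of_pow_eq_one h3)))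
  -- commuting with `s` preserves both subgroups
  have hcomm : ∀ (u : (U : Subgroup N)) (x : G),
      s * (((u : N) : G) * x * ((u : N) : G)⁻¹) * s⁻¹ =
        ((u : N) : G) * (s * x * s⁻¹) * ((u : N) : G)⁻¹ := by
    intro u x
    have h : s * ((u : N) : G) = ((u : N) : G) * s :=
      congrArg (fun w : (U : Subgroup N) => ((w : N) : G)) (hUa.is_comm.comm r u)
    calc s * (((u : N) : G) * x * ((u : N) : G)⁻¹) * s⁻¹
        = (s * ((u : N) : G)) * x * (s * ((u : N) : G))⁻¹ := by group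
      _ = ((u : N) : G) * (s * x * s⁻¹) * ((u : N) : G)⁻¹ := by rw [h]; group
  haveI := Fintype.ofFinite (U : Subgroup N)
  let S : Finset G := Finset.univ.image fun u : (U : Subgroup N) => ((u : N) : G) * a * ((u : N) : G)⁻¹
  have hS : S.card = 4 := by
    rw [Finset.card_image_of_injective, Finset.card_univ, ← Nat.card_eq_fintype_card, hUc]
    intro u w h
    have := hfix (w⁻¹ * u) (by
      simp only [Subgroup.coe_mul, InvMemClass.coe_inv] at h ⊢
      calc ((w : N) : G)⁻¹ * ((u : N) : G) * a * (((w : N) : G)⁻¹ * ((u : N) : G))⁻¹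
          = ((w : N) : G)⁻¹ * (((u : N) : G) * a * ((u : N) : G)⁻¹) * ((w : N) : G) := by group
        _ = a := by rw [h]; group)
    exact (inv_mul_eq_one.1 this).symm
  let T : Finset G := (({e, e⁻¹} : Finset G) ×ˢ ({f, f⁻¹} : Finset G)).image fun q => (q.1 * q.2⁻¹) ^ 2
  have hrec : a = (e * f⁻¹) ^ 2 := by
    have h1 : e * f⁻¹ = a * a := by
      calc e * f⁻¹ = a * (a' * a'⁻¹) * a := by rw [he, hf]; group
        _ = a * a := by group
    rw [h1, ← sq, ← pow_mul, show 2 * 2 = 3 + 1 by norm_num, pow_succ, ha3, one_mul]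
  have hST : S ⊆ T := by
    intro x hx
    obtain ⟨u, -, rfl⟩ := Finset.mem_image.1 hx
    refine Finset.mem_image.2 ⟨(((u : N) : G) * e * ((u : N) : G)⁻¹, ((u : N) : G) * f * ((u : N) : G)⁻¹), ?_, ?_⟩
    · rw [Finset.mem_product, Finset.mem_insert, Finset.mem_singleton, Finset.mem_insert, Finset.mem_singleton]
      refine ⟨hthree Fx inf_le_left e heF he1 f hfa ?_ _ ⟨hmem u e hea, ?_⟩ (fun h => he1 (conj_eq_one_iff.1 h)),
        hthree Iv (fun x hx => hx.1) f hfI hf1 e hea ?_ _ ⟨hmem u f hfa, ?_⟩ (fun h => hf1 (conj_eq_one_iff.1 h))⟩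
      · exact fun h => hf1 (hxs f hfa (mul_inv_eq_iff_eq_mul.2 (mem_centralizer_singleton_iff.1 h.2).symm) hfs)
      · exact mem_centralizer_singleton_iff.2 (mul_inv_eq_iff_eq_mul.1 (by rw [hcomm, hes])).symm
      · exact fun h => he1 (hxs e hea hes h.2)
      · rw [hcomm, hfs]; group
    · conv_rhs => rw [hrec]
      rw [← conj_pow]
      congr 1
      group
  have hT : T.card ≤ 4 := Finset.card_image_le.trans (by
    rw [Finset.card_product]
    exact Nat.mul_le_mul Finset.card_le_two Finset.card_le_two)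
  have hinT : a⁻¹ ∈ T := Finset.mem_image.2 ⟨(e⁻¹, f⁻¹), by simp, by
    show (e⁻¹ * f⁻¹⁻¹) ^ 2 = a⁻¹
    rw [inv_inv, mul_comm_three hh P (inv_mem hea) hfa]
    calc (f * e⁻¹) ^ 2 = ((e * f⁻¹) ^ 2)⁻¹ := by simp [pow_two, mul_assoc]
      _ = a⁻¹ := by rw [← hrec]⟩
  rw [← Finset.eq_of_subset_of_card_le hST (by omega)] at hinT
  obtain ⟨u, -, hu⟩ := Finset.mem_image.1 hinT
  have hu2 : u ^ 2 = 1 := by
    refine hfix _ ?_
    simp only [sq, Subgroup.coe_mul]
    calc ((u : N) : G) * ((u : N) : G) * a * (((u : N) : G) * ((u : N) : G))⁻¹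
        = ((u : N) : G) * (((u : N) : G) * a * ((u : N) : G)⁻¹) * ((u : N) : G)⁻¹ := by group
      _ = ((u : N) : G) * a⁻¹ * ((u : N) : G)⁻¹ := by rw [hu]
      _ = (((u : N) : G) * a * ((u : N) : G)⁻¹)⁻¹ := by simp [mul_assoc]
      _ = a := by rw [hu, inv_inv]
  have hu1 : u ≠ 1 := by
    intro h
    rw [h] at hu
    simp only [OneMemClass.coe_one, one_mul, inv_one, mul_one] at hu
    have : a ^ 2 = 1 := by rw [sq]; exact eq_inv_iff_mul_eq_one.1 hu
    have h1 := orderOf_dvd_of_pow_eq_one this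
    rw [hp.orderOf_eq] at h1
    norm_num at h1
  exact ⟨((u : N) : G), by rw [orderOf_coe, orderOf_coe, orderOf_eq_prime hu2 hu1], (u : N).2, hu⟩

/-- The elements of 2-power order in the centraliser of `a`. -/
theorem Pair.exists_klein (hp : Pair G P R a) :
    ∃ V : Subgroup G, Nat.card V = 4 ∧ V ≤ centralizer ({a} : Set G) ∧
      (∀ g ∈ centralizer ({a} : Set G), g ^ 4 = 1 → g ∈ V) ∧ (∀ v ∈ V, v * v = 1) ∧
      (∀ u ∈ V, ∀ v ∈ V, u ≠ 1 → v ≠ 1 → IsConj u v) := by
  have hh := hp.hyp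
  set D := centralizer ({a} : Set G) with hD
  set P' : Sylow 3 D := P.subtype hp.le_centralizer with hP'
  have hN : normalizer ((P' : Subgroup D) : Set D) ≤ centralizer ((P' : Subgroup D) : Set D) := by
    rw [hP', Sylow.coe_subtype, ← subgroupOf_normalizer_eq hp.le_centralizer]
    intro n hn
    rw [mem_subgroupOf] at hn
    have hnP : (n : G) ∈ (P : Subgroup G) := by rw [← hp.spec.2]; exact ⟨n.2, hn⟩
    rw [mem_centralizer_iff]
    intro x hx
    exact Subtype.ext (mul_comm_three hh P hx hnP)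
  set L := (MonoidHom.transferSylow P' hN).ker with hL
  have hLP : L.index = 9 := by
    rw [(MonoidHom.ker_transferSylow_isComplement' P' hN).symm.index_eq_card, hP', Sylow.coe_subtype,
      Nat.card_congr (subgroupOfEquivOfLe hp.le_centralizer).toEquiv, card_three hh P]
  have hLc : Nat.card L = 4 := by
    have := L.card_mul_index
    rw [hLP, hp.spec.1] at this
    omega
  set V := L.map D.subtype with hV
  have hVc : Nat.card V = 4 := by rw [hV, card_map_of_injective D.subtype_injective, hLc]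
  have hVD : V ≤ D := map_subtype_le _
  have hmax : ∀ g ∈ D, g ^ 4 = 1 → g ∈ V := by
    intro g hg h4
    have h9 := L.pow_index_mem (⟨g, hg⟩ : D)
    rw [hLP] at h9
    refine ⟨_, h9, ?_⟩
    show g ^ 9 = g
    rw [show (9 : ℕ) = 4 * 2 + 1 from rfl, pow_succ, pow_mul, h4, one_pow, one_mul]
  have hpow : ∀ v ∈ V, v ^ 4 = 1 := fun v hv => by
    have := pow_card_eq_one' (G := V) (x := ⟨v, hv⟩)
    rw [hVc] at this
    exact congrArg Subtype.val this
  have hnor : ∀ x ∈ D, ∀ v ∈ V, x * v * x⁻¹ ∈ V := fun x hx v hv =>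
    hmax _ (mul_mem (mul_mem hx (hVD hv)) (inv_mem hx)) (by rw [conj_pow, hpow v hv, mul_one, mul_inv_cancel])
  have hmove : ∀ v ∈ V, v ≠ 1 → ∃ x ∈ (P : Subgroup G), x * v * x⁻¹ ≠ v := by
    intro v hv hv1
    by_contra hc
    push Not at hc
    have : v ∈ (P : Subgroup G) := by
      rw [← centralizer_three hh P]
      exact mem_centralizer_iff.2 fun x hx => mul_inv_eq_iff_eq_mul.1 (hc x hx)
    have h1 := orderOf_dvd_natCard (⟨v, this⟩ : (P : Subgroup G))
    rw [orderOf_mk, card_three hh P] at h1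
    exact hv1 (orderOf_eq_one_iff.1 (Nat.dvd_one.1
      ((show Nat.gcd 9 4 = 1 by norm_num) ▸ Nat.dvd_gcd h1 (orderOf_dvd_of_pow_eq_one (hpow v hv)))))
  -- three distinct conjugates of every nontrivial element
  have horb : ∀ v ∈ V, v ≠ 1 → ∃ x ∈ (P : Subgroup G), x * v * x⁻¹ ≠ v ∧
      x * (x * v * x⁻¹) * x⁻¹ ≠ v ∧ x * (x * v * x⁻¹) * x⁻¹ ≠ x * v * x⁻¹ := by
    intro v hv hv1
    obtain ⟨x, hx, hxv⟩ := hmove v hv hv1
    refine ⟨x, hx, hxv, fun h => hxv ?_, fun h => hxv (mul_left_cancel (mul_right_cancel h))⟩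
    -- `x` is a power of `x ^ 2`
    have h9 : x ^ 9 = 1 := by
      have h1 := pow_card_eq_one' (G := (P : Subgroup G)) (x := ⟨x, hx⟩)
      rw [card_three hh P] at h1
      exact congrArg Subtype.val h1
    have hxx : x * x ∈ centralizer ({v} : Set G) := mem_centralizer_singleton_iff.2 (by
      calc x * x * v = x * (x * v * x⁻¹) * x⁻¹ * (x * x) := by group
        _ = v * (x * x) := by rw [h])
    have h5 := mem_centralizer_singleton_iff.1 (pow_mem hxx 5)
    have h10 : (x * x) ^ 5 = x := by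
      rw [← sq, ← pow_mul, show 2 * 5 = 9 + 1 by norm_num, pow_succ, h9, one_mul]
    rw [h10] at h5
    exact mul_inv_eq_iff_eq_mul.2 h5
  have hall : ∀ v ∈ V, v ≠ 1 → ∀ u ∈ V, u ≠ 1 → IsConj v u := by
    intro v hv hv1 u hu hu1
    obtain ⟨x, hx, h12, h13, h23⟩ := horb v hv hv1
    have hxD := hp.le_centralizer hx
    have hw := hnor x hxD v hv
    have hz := hnor x hxD _ hw
    by_contra hne
    classical
    haveI := Fintype.ofFinite V
    let l : Finset V := {⟨1, one_mem _⟩, ⟨v, hv⟩, ⟨_, hw⟩, ⟨_, hz⟩, ⟨u, hu⟩}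
    have h5 : l.card ≤ 4 := by
      rw [← hVc, Nat.card_eq_fintype_card]; exact Finset.card_le_univ l
    have c1 : x * v * x⁻¹ ≠ 1 := fun h => hv1 (conj_eq_one_iff.1 h)
    have c2 : x * (x * v * x⁻¹) * x⁻¹ ≠ 1 := fun h => c1 (conj_eq_one_iff.1 h)
    have u1 : u ≠ v := fun h => hne (h ▸ IsConj.refl _)
    have u2 : u ≠ x * v * x⁻¹ := fun h => hne (isConj_iff.2 ⟨x, h.symm⟩)
    have u3 : u ≠ x * (x * v * x⁻¹) * x⁻¹ := fun h => hne (isConj_iff.2 ⟨x * x, by rw [h]; group⟩)
    have h55 : l.card = 5 := by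
      simp only [l]
      rw [Finset.card_insert_of_notMem, Finset.card_insert_of_notMem, Finset.card_insert_of_notMem,
        Finset.card_insert_of_notMem, Finset.card_singleton] <;>
        simp [Finset.mem_insert, Finset.mem_singleton, Subtype.ext_iff, Ne.symm hv1, Ne.symm c1, Ne.symm c2,
          Ne.symm hu1, Ne.symm h12, Ne.symm h13, Ne.symm h23, Ne.symm u1, Ne.symm u2, Ne.symm u3]
    omega
  refine ⟨V, hVc, hVD, hmax, fun v hv => ?_, fun u hu v hv hu1 hv1 => hall u hu hu1 v hv hv1⟩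
  by_contra hvv
  have hv1 : v ≠ 1 := fun h => hvv (by rw [h, one_mul])
  -- all nontrivial elements being conjugate, `v` and `v * v` have the same order
  have hc := isConj_iff.1 (hall v hv hv1 (v * v) (mul_mem hv hv) hvv)
  obtain ⟨g, hg⟩ := hc
  have h4 : orderOf v ∣ 4 := orderOf_dvd_of_pow_eq_one (hpow v hv)
  have ho : orderOf (v * v) = orderOf v := by
    rw [← hg]; exact orderOf_injective (MulAut.conj g).toMonoidHom (MulAut.conj g).injective v
  have h2 : orderOf (v * v) = orderOf v / Nat.gcd (orderOf v) 2 := by rw [← sq, orderOf_pow]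
  rw [ho] at h2
  obtain ⟨i, hi, he⟩ := (Nat.dvd_prime_pow Nat.prime_two).1 (show orderOf v ∣ 2 ^ 2 from h4)
  interval_cases i <;> rw [he] at h2 <;> norm_num at h2
  exact hv1 (orderOf_eq_one_iff.1 (by rw [he]; rfl))

end AltSeven
end H62
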