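/-
Simple groups of order 2520 without a subgroup of index seven: the 2-local structure.
-/
import Cfsg.Agent.H62.AltSevenLocal
import Cfsg.Agent.H6.Transfer

set_option autoImplicit false
set_option linter.unusedSectionVars false
set_option linter.style.haveILetI false

namespace H62
namespace AltSeven

open Subgroup
open scoped Pointwise

variable {G : Type*} [Group G] [Finite G] [IsSimpleGroup G] [h3F : Fact (Nat.Prime 3)]

theorem mem_centralizer_conj {g x y : G} :
    y ∈ centralizer ({g * x * g⁻¹} : Set G) ↔ g⁻¹ * y * g ∈ centralizer ({x} : Set G) := by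
  rw [mem_centralizer_singleton_iff, mem_centralizer_singleton_iff]
  refine ⟨fun h => ?_, fun h => ?_⟩
  · calc g⁻¹ * y * g * x = g⁻¹ * (y * (g * x * g⁻¹)) * g := by group
      _ = g⁻¹ * (g * x * g⁻¹ * y) * g := by rw [h]
      _ = x * (g⁻¹ * y * g) := by group
  · calc y * (g * x * g⁻¹) = g * (g⁻¹ * y * g * x) * g⁻¹ := by group
      _ = g * (x * (g⁻¹ * y * g)) * g⁻¹ := by rw [h]
      _ = g * x * g⁻¹ * y := by group

theorem card_centralizer_conj (g x : G) :
    Nat.card (centralizer ({g * x * g⁻¹} : Set G)) = Nat.card (centralizer ({x} : Set G)) :=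
  Nat.card_congr <| Equiv.subtypeEquiv (MulAut.conj g⁻¹).toEquiv fun y => by
    simpa using mem_centralizer_conj (g := g) (x := x) (y := y)

/-- A pair, an inverting involution and the four-group of the centraliser. -/
structure Frame (G : Type*) [Group G] [Fact (Nat.Prime 3)] (P R : Sylow 3 G) (a t : G) (V : Subgroup G) :
    Prop where
  pair : Pair G P R a
  ord_t : orderOf t = 2
  invert : t * a * t⁻¹ = a⁻¹
  card_V : Nat.card V = 4
  le_D : V ≤ centralizer ({a} : Set G)
  maximal : ∀ g ∈ centralizer ({a} : Set G), g ^ 4 = 1 → g ∈ V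
  exponent : ∀ v ∈ V, v * v = 1
  conj : ∀ u ∈ V, ∀ v ∈ V, u ≠ 1 → v ≠ 1 → IsConj u v

theorem exists_frame (hh : Hyp G) : ∃ (P R : Sylow 3 G) (a t : G) (V : Subgroup G), Frame G P R a t V := by
  obtain ⟨P, R, hne, a, haP, haR, ha1⟩ := exists_pair hh
  have hp : Pair G P R a := ⟨hh, hne, haP, haR, ha1⟩
  obtain ⟨t, ht, -, hinv⟩ := hp.exists_invert
  obtain ⟨V, h1, h2, h3, h4, h5⟩ := hp.exists_klein
  exact ⟨P, R, a, t, V, hp, ht, hinv, h1, h2, h3, h4, h5⟩

variable {P R : Sylow 3 G} {a t : G} {V : Subgroup G}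

theorem Frame.hyp (F : Frame G P R a t V) : Hyp G := F.pair.hyp

theorem Frame.tt (F : Frame G P R a t V) : t * t = 1 := by
  rw [← sq, ← F.ord_t, pow_orderOf_eq_one]

theorem Frame.t_inv (F : Frame G P R a t V) : t⁻¹ = t := inv_eq_of_mul_eq_one_right F.tt

theorem Frame.inv_ne (F : Frame G P R a t V) : a⁻¹ ≠ a := fun h => by
  have h1 : a ^ 2 = 1 := by rw [sq]; exact inv_eq_iff_mul_eq_one.1 h
  have h2 := orderOf_dvd_of_pow_eq_one h1
  rw [F.pair.orderOf_eq] at h2
  norm_num at h2

theorem Frame.t_not_mem (F : Frame G P R a t V) : t ∉ centralizer ({a} : Set G) := fun h => F.inv_ne (by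
  rw [← F.invert, mem_centralizer_singleton_iff.1 h, mul_inv_cancel_right])

theorem Frame.t_not_mem_V (F : Frame G P R a t V) : t ∉ V := fun h => F.t_not_mem (F.le_D h)

theorem Frame.centralizer_zpowers (_F : Frame G P R a t V) :
    centralizer ((zpowers a : Subgroup G) : Set G) = centralizer ({a} : Set G) := by
  rw [zpowers_eq_closure, centralizer_closure]

theorem Frame.t_mem_normalizer (F : Frame G P R a t V) :
    t ∈ normalizer ((zpowers a : Subgroup G) : Set G) := by
  refine mem_normalizer_iff.2 fun w => ?_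
  have hmap : ∀ i : ℤ, t * a ^ i * t⁻¹ = a ^ (-i) := fun i => by
    rw [← conj_zpow, F.invert, inv_zpow, zpow_neg]
  constructor
  · intro hw
    obtain ⟨i, rfl⟩ := mem_zpowers_iff.1 hw
    exact mem_zpowers_iff.2 ⟨-i, (hmap i).symm⟩
  · intro hw
    obtain ⟨i, hi⟩ := mem_zpowers_iff.1 hw
    refine mem_zpowers_iff.2 ⟨-i, ?_⟩
    have := hmap (-i)
    rw [neg_neg, hi] at this
    exact mul_left_cancel (mul_right_cancel this)

theorem Frame.le_normalizer (F : Frame G P R a t V) :
    centralizer ({a} : Set G) ≤ normalizer ((zpowers a : Subgroup G) : Set G) :=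
  F.centralizer_zpowers ▸ centralizer_le_normalizer _

theorem Frame.card_normalizer (F : Frame G P R a t V) :
    Nat.card (normalizer ((zpowers a : Subgroup G) : Set G)) = 72 := by
  set L := normalizer ((zpowers a : Subgroup G) : Set G) with hL
  set D := centralizer ({a} : Set G) with hD
  have hr := relIndex_centralizer_dvd_prime (p := 3) (zpowers a) (by rw [Nat.card_zpowers, F.pair.orderOf_eq])
  rw [F.centralizer_zpowers] at hr
  have hr2 : D.relIndex L = 2 := by
    rcases (Nat.dvd_prime Nat.prime_two).1 hr with h | h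
    · exact absurd (relIndex_eq_one.1 h F.t_mem_normalizer) F.t_not_mem
    · exact h
  have h1 := (D.subgroupOf L).card_mul_index
  rw [Nat.card_congr (subgroupOfEquivOfLe F.le_normalizer).toEquiv, F.pair.spec.1,
    show (D.subgroupOf L).index = 2 from hr2] at h1
  exact h1.symm

theorem Frame.pow_four (F : Frame G P R a t V) {v : G} (hv : v ∈ V) : v ^ 4 = 1 := by
  rw [show 4 = 2 * 2 from rfl, pow_mul, sq v, F.exponent v hv, one_pow]

theorem Frame.t_conj_mem (F : Frame G P R a t V) {v : G} (hv : v ∈ V) : t * v * t⁻¹ ∈ V := by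
  refine F.maximal _ ?_ (by rw [conj_pow, F.pow_four hv, mul_one, mul_inv_cancel])
  have h1 : v * a⁻¹ = a⁻¹ * v :=
    ((show Commute v a from mem_centralizer_singleton_iff.1 (F.le_D hv)).inv_right).eq
  have h2 : t⁻¹ * a * t = a⁻¹ := by
    have h3 := F.invert
    rw [F.t_inv] at h3 ⊢
    exact h3
  rw [mem_centralizer_singleton_iff]
  calc t * v * t⁻¹ * a = t * (v * (t⁻¹ * a * t)) * t⁻¹ := by group
    _ = t * ((t⁻¹ * a * t) * v) * t⁻¹ := by rw [h2, h1]
    _ = a * (t * v * t⁻¹) := by group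

/-- The Sylow 2-subgroup `V⟨t⟩`. -/
theorem Frame.exists_sylow (F : Frame G P R a t V) [Fact (Nat.Prime 2)] :
    ∃ T : Sylow 2 G, ∀ x, x ∈ (T : Subgroup G) ↔ (x ∈ V ∨ t * x ∈ V) := by
  have hc : ∀ {v : G}, v ∈ V → t * v * t ∈ V := fun hv => by
    have := F.t_conj_mem hv
    rwa [F.t_inv] at this
  let T₀ : Subgroup G :=
    { carrier := {x | x ∈ V ∨ t * x ∈ V}
      one_mem' := Or.inl (one_mem _)
      mul_mem' := by
        rintro x y (hx | hx) (hy | hy)
        · exact Or.inl (mul_mem hx hy)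
        · refine Or.inr ?_
          have : t * (x * y) = (t * x * t) * (t * y) := by
            calc t * (x * y) = t * x * (t * t) * y := by rw [F.tt, mul_one, mul_assoc]
              _ = _ := by group
          rw [this]
          exact mul_mem (hc hx) hy
        · exact Or.inr (by rw [← mul_assoc]; exact mul_mem hx hy)
        · refine Or.inl ?_
          have : x * y = (t * (t * x) * t) * (t * y) := by
            calc x * y = (t * t) * x * (t * t) * y := by rw [F.tt, one_mul, mul_one]
              _ = _ := by group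
          rw [this]
          exact mul_mem (hc hx) hy
      inv_mem' := by
        rintro x (hx | hx)
        · exact Or.inl (inv_mem hx)
        · refine Or.inr ?_
          have : t * x⁻¹ = t * (t * x)⁻¹ * t := by rw [mul_inv_rev, F.t_inv, mul_assoc, mul_assoc, F.tt, mul_one]
          rw [this]
          exact hc (inv_mem hx) }
  have hle : V ≤ T₀ := fun x hx => Or.inl hx
  have hidx : (V.subgroupOf T₀).index = 2 := by
    refine index_eq_two_iff.2 ⟨⟨t, Or.inr (by rw [F.tt]; exact one_mem _)⟩, fun b => ?_⟩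
    simp only [mem_subgroupOf, Subgroup.coe_mul]
    by_cases hb : (b : G) ∈ V
    · exact Or.inr ⟨hb, fun h => F.t_not_mem_V ((mul_mem_cancel_left hb).1 h)⟩
    · refine Or.inl ⟨?_, hb⟩
      have h1 : t * (b : G) ∈ V := b.2.resolve_left hb
      have : (b : G) * t = t * (t * b) * t := by rw [← mul_assoc t t, F.tt, one_mul]
      rw [this]
      exact hc h1
  have hcard : Nat.card T₀ = 2 ^ 3 := by
    have h1 := (V.subgroupOf T₀).card_mul_index
    rw [Nat.card_congr (subgroupOfEquivOfLe hle).toEquiv, F.card_V, hidx] at h1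
    rw [← h1]; norm_num
  obtain ⟨T, hT⟩ := (IsPGroup.of_card hcard).exists_le_sylow
  have hTc : Nat.card (T : Subgroup G) = 2 ^ 3 :=
    card_sylow_coe (a := 3) (m := 315) (by rw [F.hyp.card_eq]; norm_num) (by decide) T
  have he := eq_of_le_of_card_ge hT (by rw [hTc, hcard])
  exact ⟨T, fun x => by rw [← he]; rfl⟩

/-- An element of order three centralising an element of order two puts no seven in the way. -/
theorem not_seven_dvd (hh : Hyp G) {w : G} (hw : orderOf w = 2) :
    ¬ 7 ∣ Nat.card (centralizer ({w} : Set G)) := by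
  intro h
  haveI : Fact (Nat.Prime 7) := ⟨by norm_num⟩
  obtain ⟨y, hy, hyo⟩ := H70.exists_mem_orderOf _ 7 (by norm_num) h
  obtain ⟨Q, hQ⟩ := (IsPGroup.of_card (p := 7) (n := 1)
    (by rw [Nat.card_zpowers, hyo, pow_one]) : IsPGroup 7 (zpowers y)).exists_le_sylow
  have hF := (facts hh).1
  have hQe := eq_of_le_of_card_ge hQ (by rw [hF.card_P Q, Nat.card_zpowers, hyo])
  have hwC : w ∈ centralizer ((Q : Subgroup G) : Set G) := by
    rw [← hQe, mem_centralizer_iff]
    intro v hv
    obtain ⟨i, rfl⟩ := mem_zpowers_iff.1 hv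
    exact ((show Commute y w from mem_centralizer_singleton_iff.1 hy).zpow_left i).eq
  have h1 := orderOf_dvd_natCard (⟨w, hwC⟩ : centralizer ((Q : Subgroup G) : Set G))
  rw [orderOf_mk, hF.card_C Q, hw] at h1
  norm_num at h1

/-- The centraliser of an element of `V` centralised by `t`. -/
theorem Frame.centralizer_central (F : Frame G P R a t V) {w : G} (hw : w ∈ V) (hw1 : w ≠ 1)
    (htw : t * w = w * t) : Nat.card (centralizer ({w} : Set G)) = 24 ∧
      ∀ d ∈ centralizer ({w} : Set G), orderOf d = 3 → d ∈ zpowers a := by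
  classical
  haveI : Fact (Nat.Prime 2) := ⟨Nat.prime_two⟩
  have hh := F.hyp
  set H := centralizer ({w} : Set G) with hH
  have hw2 : orderOf w = 2 := orderOf_eq_prime (by rw [sq]; exact F.exponent w hw) hw1
  have hHt : H ≠ ⊤ := by
    intro h
    have : w ∈ center G := mem_center_iff.2 fun g =>
      mem_centralizer_singleton_iff.1 (show g ∈ H by rw [h]; exact mem_top g)
    rw [center_eq_bot_of_simple hh.notComm, mem_bot] at this
    exact hw1 this
  obtain ⟨hHd, hH315⟩ := hh.proper H hHt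
  obtain ⟨T, hT⟩ := F.exists_sylow
  have hVH : ∀ v ∈ V, v ∈ H := by
    intro v hv
    rw [mem_centralizer_singleton_iff]
    have h1 := F.exponent _ (mul_mem hv hw)
    have h2 : v⁻¹ = v := inv_eq_of_mul_eq_one_right (F.exponent v hv)
    have h3 : w⁻¹ = w := inv_eq_of_mul_eq_one_right (F.exponent w hw)
    calc v * w = (v * w)⁻¹ := (inv_eq_of_mul_eq_one_right h1).symm
      _ = w * v := by rw [mul_inv_rev, h2, h3]
  have htH : t ∈ H := mem_centralizer_singleton_iff.2 htw
  have hTH : (T : Subgroup G) ≤ H := by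
    intro x hx
    rcases (hT x).1 hx with h | h
    · exact hVH x h
    · have := mul_mem (inv_mem htH) (hVH _ h)
      rwa [inv_mul_cancel_left] at this
  have h9 : ¬ 9 ∣ Nat.card H := by
    intro h
    obtain ⟨Q, hQ⟩ := Sylow.exists_subgroup_card_pow_prime (G := H) 3 (n := 2) (by rw [show 3 ^ 2 = 9 from rfl]; exact h)
    obtain ⟨P', hP'⟩ := ((IsPGroup.of_card hQ).map H.subtype).exists_le_sylow
    have he := eq_of_le_of_card_ge hP' (by
      rw [card_map_of_injective H.subtype_injective, hQ, card_three hh P']; rfl)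
    have hwC : w ∈ centralizer ((P' : Subgroup G) : Set G) := by
      rw [← he, mem_centralizer_iff]
      intro x hx
      exact mem_centralizer_singleton_iff.1 (map_subtype_le _ hx)
    rw [centralizer_three hh P'] at hwC
    have h1 := orderOf_dvd_natCard (⟨w, hwC⟩ : (P' : Subgroup G))
    rw [orderOf_mk, card_three hh P', hw2] at h1
    norm_num at h1
  have haH : a ∈ H := mem_centralizer_singleton_iff.2 (mem_centralizer_singleton_iff.1 (F.le_D hw)).symm
  set A := zpowers a with hA
  have hAH : A ≤ H := zpowers_le.2 haH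
  have hAc : Nat.card A = 3 := by rw [hA, Nat.card_zpowers, F.pair.orderOf_eq]
  set L := normalizer ((A : Subgroup G) : Set G) with hL
  obtain ⟨S, hS⟩ := (IsPGroup.of_card (p := 3) (n := 1) (G := A.subgroupOf H)
    (by rw [Nat.card_congr (subgroupOfEquivOfLe hAH).toEquiv, hAc, pow_one])).exists_le_sylow
  have hSe : A.subgroupOf H = (S : Subgroup H) := by
    refine eq_of_le_of_card_ge hS ?_
    obtain ⟨i, hi⟩ := S.isPGroup'.exists_card_eq
    have hd : Nat.card (S : Subgroup H) ∣ Nat.card H := card_subgroup_dvd_card _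
    rw [Nat.card_congr (subgroupOfEquivOfLe hAH).toEquiv, hAc]
    by_contra hlt
    rw [hi] at hd hlt
    exact h9 ((pow_dvd_pow 3 (show 2 ≤ i by
      by_contra h
      interval_cases i <;> norm_num at hlt)).trans hd)
  have hcount := card_normalizer_mul S
  rw [← hSe, ← subgroupOf_normalizer_eq hAH, ← hL, ← inf_subgroupOf_right,
    Nat.card_congr (subgroupOfEquivOfLe (inf_le_right : L ⊓ H ≤ H)).toEquiv] at hcount
  set n := Nat.card (Sylow 3 H) with hn
  have hn3 : n % 3 = 1 := card_sylow_mod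
  set m := Nat.card (L ⊓ H : Subgroup G) with hm
  have hm72 : m ∣ 72 := F.card_normalizer ▸ card_dvd_of_le inf_le_left
  have hm8 : 8 ∣ m := by
    have hTL : (T : Subgroup G) ≤ L ⊓ H := by
      refine le_inf (fun x hx => ?_) hTH
      rcases (hT x).1 hx with h | h
      · exact F.le_normalizer (F.le_D h)
      · have := mul_mem (inv_mem F.t_mem_normalizer) (F.le_normalizer (F.le_D h))
        rwa [inv_mul_cancel_left] at this
    have h1 := card_dvd_of_le hTL
    rwa [card_sylow_coe (a := 3) (m := 315) (by rw [hh.card_eq]; norm_num) (by decide) T] at h1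
  have hm3 : 3 ∣ m := hAc ▸ card_dvd_of_le (le_inf Subgroup.le_normalizer hAH)
  have hmH : m ∣ Nat.card H := card_dvd_of_le inf_le_right
  have hm24 : m = 24 := by
    have h24 : 24 ∣ m := (show Nat.Coprime 8 3 by norm_num).mul_dvd_of_dvd_of_dvd hm8 hm3
    obtain ⟨j, hj⟩ := h24
    have : j ∣ 3 := Nat.dvd_of_mul_dvd_mul_left (by norm_num : 0 < 24) (hj ▸ hm72 : 24 * j ∣ 24 * 3)
    rcases (Nat.dvd_prime Nat.prime_three).1 this with h | h
    · omega
    · exfalso
      exact h9 ((show 9 ∣ m by rw [hj, h]; norm_num).trans hmH)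
  rw [hm24] at hcount
  have hn1 : n = 1 := by
    have h7 := not_seven_dvd hh hw2
    rw [← hH, ← hcount] at h7
    rw [← hcount] at hHd hH315
    have key : ∀ n ∈ Finset.range 14, 24 * n ∣ 2520 → n % 3 = 1 → ¬ 7 ∣ 24 * n → n = 1 := by decide
    exact key n (Finset.mem_range.2 (by omega)) hHd hn3 h7
  rw [hn1, mul_one] at hcount
  have hHL : H ≤ L :=
    (eq_of_le_of_card_ge (inf_le_right : L ⊓ H ≤ H) (le_of_eq (hcount.symm.trans hm24.symm))) ▸ inf_le_left
  refine ⟨hcount.symm, fun d hd hdo => ?_⟩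
  have hdD : d ∈ centralizer ({a} : Set G) := by
    have h1 : d * a * d⁻¹ ∈ A := (mem_normalizer_iff.1 (hHL hd) a).1 (mem_zpowers a)
    rw [hA, mem_zpowers_iff_mem_range_orderOf, F.pair.orderOf_eq] at h1
    obtain ⟨i, hi, he⟩ := Finset.mem_image.1 h1
    rw [Finset.mem_range] at hi
    interval_cases i
    · exact absurd (conj_eq_one_iff.1 (by rw [← he, pow_zero])) F.pair.ne_one
    · rw [pow_one] at he
      exact mem_centralizer_singleton_iff.2 (mul_inv_eq_iff_eq_mul.1 he.symm)
    · exfalso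
      have ha2 : a ^ 2 = a⁻¹ := eq_inv_of_mul_eq_one_left (by
        rw [← pow_succ]
        show a ^ 3 = 1
        rw [← F.pair.orderOf_eq, pow_orderOf_eq_one])
      rw [ha2] at he
      have h3 : d * d * d = 1 := by
        rw [← sq, ← pow_succ]
        show d ^ 3 = 1
        rw [← hdo, pow_orderOf_eq_one]
      have e2 : d * d * a * (d * d)⁻¹ = a := by
        calc d * d * a * (d * d)⁻¹ = d * (d * a * d⁻¹) * d⁻¹ := by group
          _ = d * a⁻¹ * d⁻¹ := by rw [← he]
          _ = (d * a * d⁻¹)⁻¹ := by simp [mul_assoc]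
          _ = a := by rw [← he, inv_inv]
      have e3 : d * d * d * a * (d * d * d)⁻¹ = a⁻¹ := by
        calc d * d * d * a * (d * d * d)⁻¹ = d * (d * d * a * (d * d)⁻¹) * d⁻¹ := by group
          _ = a⁻¹ := by rw [e2, ← he]
      rw [h3] at e3
      simp only [one_mul, inv_one, mul_one] at e3
      exact F.inv_ne e3.symm
  have hAd : zpowers d ≤ normalizer ((A : Subgroup G) : Set G) := zpowers_le.2 (hHL hd)
  have hK : IsPGroup 3 (zpowers d ⊔ A : Subgroup G) :=
    IsPGroup.to_sup_of_normal_right' (IsPGroup.of_card (n := 1) (by rw [Nat.card_zpowers, hdo, pow_one]))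
      (IsPGroup.of_card (n := 1) (by rw [hAc, pow_one])) hAd
  obtain ⟨i, hi⟩ := hK.exists_card_eq
  have hKH : (zpowers d ⊔ A : Subgroup G) ≤ H := sup_le (zpowers_le.2 hd) hAH
  have hKA : A = zpowers d ⊔ A := by
    refine eq_of_le_of_card_ge le_sup_right ?_
    by_contra hlt
    rw [hi, hAc] at hlt
    exact h9 ((pow_dvd_pow 3 (show 2 ≤ i by
      by_contra h
      interval_cases i <;> norm_num at hlt)).trans (hi ▸ card_dvd_of_le hKH))
  rw [hKA]
  exact mem_sup_left (mem_zpowers d)

/-- `t` does not centralise `V`. -/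
theorem Frame.not_central (F : Frame G P R a t V) : ∃ v ∈ V, t * v * t⁻¹ ≠ v := by
  by_contra hc
  push Not at hc
  haveI : Fact (Nat.Prime 2) := ⟨Nat.prime_two⟩
  have hh := F.hyp
  obtain ⟨T, hT⟩ := F.exists_sylow
  have hVT : V ≤ (T : Subgroup G) := fun x hx => (hT x).2 (Or.inl hx)
  have htT : t ∈ (T : Subgroup G) := (hT t).2 (Or.inr (by rw [F.tt]; exact one_mem _))
  have hct : ∀ v ∈ V, t * v = v * t := fun v hv => mul_inv_eq_iff_eq_mul.1 (hc v hv)
  have hVV : ∀ u ∈ V, ∀ v ∈ V, u * v = v * u := by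
    intro u hu v hv
    calc u * v = (u * v)⁻¹ := (inv_eq_of_mul_eq_one_right (F.exponent _ (mul_mem hu hv))).symm
      _ = v * u := by rw [mul_inv_rev, inv_eq_of_mul_eq_one_right (F.exponent u hu),
        inv_eq_of_mul_eq_one_right (F.exponent v hv)]
  haveI hab : IsMulCommutative (T : Subgroup G) := by
    refine ⟨⟨fun x y => Subtype.ext ?_⟩⟩
    show (x : G) * y = y * x
    have key : ∀ x ∈ (T : Subgroup G), ∀ v ∈ V, x * v = v * x := by
      intro x hx v hv
      rcases (hT x).1 hx with h | h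
      · exact hVV x h v hv
      · have hx' : x = t * (t * x) := by rw [← mul_assoc, F.tt, one_mul]
        rw [hx', mul_assoc, hVV _ h v hv, ← mul_assoc, hct v hv, mul_assoc]
    rcases (hT y).1 y.2 with h | h
    · exact key x x.2 y h
    · have hy' : (y : G) = t * (t * y) := by rw [← mul_assoc, F.tt, one_mul]
      have hxt : (x : G) * t = t * x := by
        rcases (hT x).1 x.2 with h' | h'
        · exact (hct _ h').symm
        · have hx' : (x : G) = t * (t * x) := by rw [← mul_assoc, F.tt, one_mul]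
          rw [hx', mul_assoc, ← hct _ h']
      rw [hy', ← mul_assoc, hxt, mul_assoc, key x x.2 _ h, ← mul_assoc, mul_assoc]
  have hVi : V.relIndex (T : Subgroup G) = 2 := by
    have h1 := (V.subgroupOf (T : Subgroup G)).card_mul_index
    rw [Nat.card_congr (subgroupOfEquivOfLe hVT).toEquiv, F.card_V,
      card_sylow_coe (a := 3) (m := 315) (by rw [hh.card_eq]; norm_num) (by decide) T] at h1
    show (V.subgroupOf (T : Subgroup G)).index = 2
    omega
  rcases H6.thompson_transfer T V hVT hVi t F.ord_t with ⟨M, hMn, hMi, -⟩ | ⟨g, hg⟩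
  · rcases hMn.eq_bot_or_eq_top with h | h
    · rw [h, index_bot, hh.card_eq] at hMi; omega
    · rw [h, index_top] at hMi; omega
  obtain ⟨n, hn, he⟩ := T.conj_eq_normalizer_conj_of_mem t g⁻¹ htT (by rw [inv_inv]; exact hVT hg)
  rw [inv_inv] at he
  rw [he] at hg
  -- the four-group through `t`
  set W := V.map (MulAut.conj n).toMonoidHom with hW
  have hWmem : ∀ x, x ∈ W ↔ n⁻¹ * x * n ∈ V := by
    intro x
    rw [hW, mem_map]
    constructor
    · rintro ⟨y, hy, rfl⟩; simpa [mul_assoc] using hy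
    · exact fun hx => ⟨_, hx, by simp [mul_assoc]⟩
  have htW : t ∈ W := (hWmem t).2 hg
  have hWT : W ≤ (T : Subgroup G) := by
    intro x hx
    have h1 := (mem_normalizer_iff.1 hn (n⁻¹ * x * n)).1 (hVT ((hWmem x).1 hx))
    rwa [show n * (n⁻¹ * x * n) * n⁻¹ = x by group] at h1
  obtain ⟨u, huV, huW, hu1⟩ : ∃ u, u ∈ V ∧ u ∈ W ∧ u ≠ 1 := by
    by_contra hcon
    push Not at hcon
    let f : V × W → (T : Subgroup G) := fun q => ⟨(q.1 : G) * q.2, mul_mem (hVT q.1.2) (hWT q.2.2)⟩
    have hf : Function.Injective f := by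
      rintro ⟨v, w⟩ ⟨v', w'⟩ h
      have h' : (v : G) * w = v' * w' := congrArg Subtype.val h
      have h2 : (v' : G)⁻¹ * v = w' * (w : G)⁻¹ := by
        calc (v' : G)⁻¹ * v = (v' : G)⁻¹ * (v * w) * (w : G)⁻¹ := by group
          _ = _ := by rw [h']; group
      have h3 := hcon _ (mul_mem (inv_mem v'.2) v.2) (h2 ▸ mul_mem w'.2 (inv_mem w.2))
      have hv : v = v' := Subtype.ext (inv_mul_eq_one.1 h3).symm
      subst hv
      rw [inv_mul_cancel, eq_comm, mul_inv_eq_one] at h2
      exact Prod.ext rfl (Subtype.ext h2.symm)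
    have h8 := Nat.card_le_card_of_injective f hf
    rw [Nat.card_prod, hW, card_map_of_injective (MulAut.conj n).injective, F.card_V,
      card_sylow_coe (a := 3) (m := 315) (by rw [hh.card_eq]; norm_num) (by decide) T] at h8
    norm_num at h8
  set a' := n * a * n⁻¹ with ha'
  have hWa : ∀ x ∈ W, x * a' = a' * x := by
    intro x hx
    have h1 := mem_centralizer_singleton_iff.1 (F.le_D ((hWmem x).1 hx))
    calc x * a' = n * (n⁻¹ * x * n * a) * n⁻¹ := by rw [ha']; group
      _ = n * (a * (n⁻¹ * x * n)) * n⁻¹ := by rw [h1]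
      _ = a' * x := by rw [ha']; group
  have ha'o : orderOf a' = 3 := by
    rw [← F.pair.orderOf_eq]
    exact orderOf_injective (MulAut.conj n).toMonoidHom (MulAut.conj n).injective a
  have ha'z := (F.centralizer_central huV hu1 (hct u huV)).2 a'
    (mem_centralizer_singleton_iff.2 (hWa u huW).symm) ha'o
  have haz : a ∈ zpowers a' := by
    have h1 : zpowers a' ≤ zpowers a := zpowers_le.2 ha'z
    rw [eq_of_le_of_card_ge h1 (by rw [Nat.card_zpowers, Nat.card_zpowers, ha'o, F.pair.orderOf_eq])]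
    exact mem_zpowers a
  obtain ⟨i, hi⟩ := mem_zpowers_iff.1 haz
  apply F.t_not_mem
  rw [mem_centralizer_singleton_iff, ← hi]
  exact ((show Commute t a' from hWa t htW).zpow_right i).eq

/-- The frame with the named elements of the four-group. -/
structure Frame' (G : Type*) [Group G] [Fact (Nat.Prime 3)] (P R : Sylow 3 G) (a t : G) (V : Subgroup G)
    (v z : G) : Prop extends Frame G P R a t V where
  vV : v ∈ V
  moved : t * v * t⁻¹ ≠ v
  z_eq : z = v * (t * v * t⁻¹)

theorem exists_frame' (hh : Hyp G) :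
    ∃ (P R : Sylow 3 G) (a t : G) (V : Subgroup G) (v z : G), Frame' G P R a t V v z := by
  obtain ⟨P, R, a, t, V, F⟩ := exists_frame hh
  obtain ⟨v, hv, hne⟩ := F.not_central
  exact ⟨P, R, a, t, V, v, _, F, hv, hne, rfl⟩

variable {v z : G}

theorem Frame'.zV (F : Frame' G P R a t V v z) : z ∈ V :=
  F.z_eq ▸ mul_mem F.vV (F.toFrame.t_conj_mem F.vV)

theorem Frame'.z_ne (F : Frame' G P R a t V v z) : z ≠ 1 := fun h => F.moved (by
  rw [F.z_eq] at h
  exact ((eq_inv_of_mul_eq_one_left h).trans (inv_eq_of_mul_eq_one_right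
    (F.exponent _ (F.toFrame.t_conj_mem F.vV)))).symm)

theorem Frame'.orderOf_z (F : Frame' G P R a t V v z) : orderOf z = 2 :=
  orderOf_eq_prime (by rw [sq]; exact F.exponent z F.zV) F.z_ne

theorem Frame'.tz (F : Frame' G P R a t V v z) : t * z = z * t := by
  have hv2 := F.exponent v F.vV
  have hz2 := F.exponent z F.zV
  have hw2 := F.exponent _ (F.toFrame.t_conj_mem F.vV)
  have e : t * z * t⁻¹ = z := by
    calc t * z * t⁻¹ = (t * v * t⁻¹) * (t * t * v * (t * t)⁻¹) := by rw [F.z_eq]; group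
      _ = (t * v * t⁻¹) * v := by rw [F.toFrame.tt]; group
      _ = (v * (t * v * t⁻¹))⁻¹ := by
        rw [mul_inv_rev, inv_eq_of_mul_eq_one_right hw2, inv_eq_of_mul_eq_one_right hv2]
      _ = z := by rw [← F.z_eq, inv_eq_of_mul_eq_one_right hz2]
  exact mul_inv_eq_iff_eq_mul.1 e

theorem Frame'.mem_V (F : Frame' G P R a t V v z) {x : G} (hx : x ∈ V) :
    x = 1 ∨ x = v ∨ x = t * v * t⁻¹ ∨ x = z := by
  classical
  haveI := Fintype.ofFinite V
  by_contra hne
  push Not at hne
  obtain ⟨n1, n2, n3, n4⟩ := hne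
  have hv1 : v ≠ 1 := fun h => F.moved (by rw [h, mul_one, mul_inv_cancel])
  have hw1 : t * v * t⁻¹ ≠ 1 := fun h => hv1 (conj_eq_one_iff.1 h)
  have e1 : v ≠ z := fun h => hw1 (by
    rw [F.z_eq] at h
    exact (left_eq_mul.1 h))
  have e2 : t * v * t⁻¹ ≠ z := fun h => hv1 (by
    rw [F.z_eq] at h
    exact (right_eq_mul.1 h))
  let l : Finset V := {⟨1, one_mem _⟩, ⟨v, F.vV⟩, ⟨_, F.toFrame.t_conj_mem F.vV⟩, ⟨z, F.zV⟩, ⟨x, hx⟩}
  have h5 : l.card ≤ 4 := by
    rw [← F.card_V, Nat.card_eq_fintype_card]; exact Finset.card_le_univ l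
  have h55 : l.card = 5 := by
    simp only [l]
    rw [Finset.card_insert_of_notMem, Finset.card_insert_of_notMem, Finset.card_insert_of_notMem,
      Finset.card_insert_of_notMem, Finset.card_singleton] <;>
      simp [Finset.mem_insert, Finset.mem_singleton, Subtype.ext_iff, Ne.symm hv1, Ne.symm hw1,
        Ne.symm F.z_ne, Ne.symm n1, Ne.symm n2, Ne.symm n3, Ne.symm n4, Ne.symm F.moved, e1, e2]
  omega

theorem Frame'.isConj_z (F : Frame' G P R a t V v z) {j : G} (hj : orderOf j = 2) : IsConj z j := by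
  haveI : Fact (Nat.Prime 2) := ⟨Nat.prime_two⟩
  obtain ⟨T, hT⟩ := F.toFrame.exists_sylow
  have hVT : V ≤ (T : Subgroup G) := fun x hx => (hT x).2 (Or.inl hx)
  have hVi : V.relIndex (T : Subgroup G) = 2 := by
    have h1 := (V.subgroupOf (T : Subgroup G)).card_mul_index
    rw [Nat.card_congr (subgroupOfEquivOfLe hVT).toEquiv, F.card_V,
      card_sylow_coe (a := 3) (m := 315) (by rw [F.toFrame.hyp.card_eq]; norm_num) (by decide) T] at h1
    show (V.subgroupOf (T : Subgroup G)).index = 2
    omega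
  rcases H6.thompson_transfer T V hVT hVi j hj with ⟨M, hMn, hMi, -⟩ | ⟨g, hg⟩
  · rcases hMn.eq_bot_or_eq_top with h | h
    · rw [h, index_bot, F.toFrame.hyp.card_eq] at hMi; omega
    · rw [h, index_top] at hMi; omega
  · have hne : g * j * g⁻¹ ≠ 1 := fun h => by
      rw [conj_eq_one_iff.1 h, orderOf_one] at hj; omega
    exact (F.conj z F.zV _ hg F.z_ne hne).trans (isConj_iff.2 ⟨g⁻¹, by group⟩)

theorem Frame'.card_centralizer_involution (F : Frame' G P R a t V v z) {j : G} (hj : orderOf j = 2) :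
    Nat.card (centralizer ({j} : Set G)) = 24 := by
  obtain ⟨g, hg⟩ := isConj_iff.1 (F.isConj_z hj)
  rw [← hg, card_centralizer_conj, (F.toFrame.centralizer_central F.zV F.z_ne F.tz).1]

/-- An element of order three commuting with an involution forms a pair through any Sylow subgroup
containing it. -/
theorem Frame'.pair_of_commute (F : Frame' G P R a t V v z) {j d : G} (hj : orderOf j = 2)
    (hd : orderOf d = 3) (hjd : Commute j d) (P' : Sylow 3 G) (hP' : d ∈ (P' : Subgroup G)) :
    ∃ R' : Sylow 3 G, Pair G P' R' d := by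
  classical
  obtain ⟨g, hg⟩ := isConj_iff.1 (F.isConj_z hj)
  have h1 : g⁻¹ * d * g ∈ centralizer ({z} : Set G) :=
    mem_centralizer_conj.1 (by rw [hg]; exact mem_centralizer_singleton_iff.2 hjd.eq.symm)
  have ho : orderOf (g⁻¹ * d * g) = 3 := by
    rw [← hd]
    simpa using orderOf_injective (MulAut.conj g⁻¹).toMonoidHom (MulAut.conj g⁻¹).injective d
  have h2 := (F.toFrame.centralizer_central F.zV F.z_ne F.tz).2 _ h1 ho
  rw [mem_zpowers_iff_mem_range_orderOf, F.pair.orderOf_eq] at h2
  obtain ⟨i, hi, he⟩ := Finset.mem_image.1 h2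
  rw [Finset.mem_range] at hi
  have hdg : d = g * (g⁻¹ * d * g) * g⁻¹ := by group
  interval_cases i
  · exfalso
    rw [pow_zero] at he
    rw [← he, orderOf_one] at ho
    omega
  · rw [pow_one] at he
    rw [hdg, ← he]
    exact (F.pair.conj g).through P' (by rw [he, ← hdg]; exact hP')
  · have ha2 : a ^ 2 = a⁻¹ := eq_inv_of_mul_eq_one_left (by
      rw [← pow_succ]
      show a ^ 3 = 1
      rw [← F.pair.orderOf_eq, pow_orderOf_eq_one])
    rw [ha2] at he
    rw [hdg, ← he]
    exact (F.pair.inv.conj g).through P' (by rw [he, ← hdg]; exact hP')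

/-- No element of order four commutes with one of order three. -/
theorem Frame'.not_commute_four (F : Frame' G P R a t V v z) {q d : G} (hq : orderOf q = 4)
    (hd : orderOf d = 3) : ¬ Commute q d := by
  intro hqd
  have hj : orderOf (q ^ 2) = 2 := by rw [orderOf_pow, hq]; rfl
  obtain ⟨P', hP'⟩ := (IsPGroup.of_card (p := 3) (n := 1)
    (by rw [Nat.card_zpowers, hd, pow_one]) : IsPGroup 3 (zpowers d)).exists_le_sylow
  obtain ⟨R', hp⟩ := F.pair_of_commute hj hd (hqd.pow_left 2) P' (hP' (mem_zpowers d))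
  obtain ⟨V', -, -, hmax, hexp, -⟩ := hp.exists_klein
  have h := hexp q (hmax q (mem_centralizer_singleton_iff.2 hqd.eq)
    (by rw [← hq, pow_orderOf_eq_one]))
  rw [← sq] at h
  rw [h, orderOf_one] at hj
  omega

/-- The shape of the elements of order four of the Sylow subgroup. -/
theorem Frame'.four_shape (F : Frame' G P R a t V v z) {x : G} (hx : x ∈ V ∨ t * x ∈ V)
    (ho : orderOf x = 4) : x = t * v ∨ x = t * (t * v * t⁻¹) := by
  rcases hx with h | h
  · exfalso
    have h1 := orderOf_dvd_of_pow_eq_one (show x ^ 2 = 1 by rw [sq]; exact F.exponent x h)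
    rw [ho] at h1
    norm_num at h1
  · have hx' : x = t * (t * x) := by rw [← mul_assoc, F.toFrame.tt, one_mul]
    rcases F.mem_V h with e | e | e | e <;> rw [e] at hx'
    · exfalso
      rw [hx', mul_one, F.ord_t] at ho
      omega
    · exact Or.inl hx'
    · exact Or.inr hx'
    · exfalso
      have h2 : x ^ 2 = 1 := by
        rw [sq, hx']
        calc t * z * (t * z) = t * (z * t) * z := by group
          _ = t * t * (z * z) := by rw [← F.tz]; group
          _ = 1 := by rw [F.toFrame.tt, F.exponent z F.zV, one_mul]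
      have h1 := orderOf_dvd_of_pow_eq_one h2
      rw [ho] at h1
      norm_num at h1

theorem Frame'.conj_inv_four (F : Frame' G P R a t V v z) {q : G} (hq : orderOf q = 4) :
    IsConj q q⁻¹ := by
  haveI : Fact (Nat.Prime 2) := ⟨Nat.prime_two⟩
  obtain ⟨T, hT⟩ := F.toFrame.exists_sylow
  obtain ⟨T', hT'⟩ := (IsPGroup.of_card (p := 2) (n := 2)
    (by rw [Nat.card_zpowers, hq]; rfl) : IsPGroup 2 (zpowers q)).exists_le_sylow
  obtain ⟨g, rfl⟩ := MulAction.exists_smul_eq G T T'
  obtain ⟨x, hx, hxq⟩ := (Subgroup.mem_smul_pointwise_iff_exists q (MulAut.conj g) _).1 (hT' (mem_zpowers q))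
  simp only [MulAut.smul_def, MulAut.conj_apply] at hxq
  have hxo : orderOf x = 4 := by
    rw [← hq, ← hxq]
    exact (orderOf_injective (MulAut.conj g).toMonoidHom (MulAut.conj g).injective x).symm
  have key : ∀ y ∈ V, IsConj (t * y) (t * y)⁻¹ := by
    intro y hy
    have hy' : y⁻¹ = y := inv_eq_of_mul_eq_one_right (F.exponent y hy)
    refine isConj_iff.2 ⟨y, ?_⟩
    rw [mul_inv_rev, F.toFrame.t_inv, hy', mul_assoc, mul_assoc, F.exponent y hy, mul_one]
  have hxx : IsConj x x⁻¹ := by
    rcases F.four_shape ((hT x).1 hx) hxo with rfl | rfl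
    · exact key v F.vV
    · exact key _ (F.toFrame.t_conj_mem F.vV)
  obtain ⟨c, hc⟩ := isConj_iff.1 hxx
  refine isConj_iff.2 ⟨g * c * g⁻¹, ?_⟩
  rw [← hxq]
  calc g * c * g⁻¹ * (g * x * g⁻¹) * (g * c * g⁻¹)⁻¹ = g * (c * x * c⁻¹) * g⁻¹ := by group
    _ = (g * x * g⁻¹)⁻¹ := by rw [hc]; group

/-- An element of order four generates its centraliser. -/
theorem Frame'.card_centralizer_four (F : Frame' G P R a t V v z) {q : G} (hq : orderOf q = 4) :
    Nat.card (centralizer ({q} : Set G)) = 4 := by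
  haveI : Fact (Nat.Prime 2) := ⟨Nat.prime_two⟩
  have hj : orderOf (q ^ 2) = 2 := by rw [orderOf_pow, hq]; rfl
  set C := centralizer ({q} : Set G) with hC
  have hle : C ≤ centralizer ({q ^ 2} : Set G) := fun x hx =>
    mem_centralizer_singleton_iff.2 ((show Commute x q from mem_centralizer_singleton_iff.1 hx).pow_right 2).eq
  have hd : Nat.card C ∣ 24 := F.card_centralizer_involution hj ▸ card_dvd_of_le hle
  have h4 : 4 ∣ Nat.card C := by
    rw [← hq, ← Nat.card_zpowers]
    exact card_dvd_of_le (zpowers_le.2 (mem_centralizer_singleton_iff.2 rfl))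
  have h3 : ¬ 3 ∣ Nat.card C := by
    intro h
    obtain ⟨d, hdC, hdo⟩ := H70.exists_mem_orderOf C 3 Nat.prime_three h
    exact F.not_commute_four hq hdo (mem_centralizer_singleton_iff.1 hdC).symm
  obtain ⟨j, hj'⟩ := h4
  have hj6 : j ∣ 6 := Nat.dvd_of_mul_dvd_mul_left (by norm_num : 0 < 4) (hj' ▸ hd : 4 * j ∣ 4 * 6)
  have : j ≤ 6 := Nat.le_of_dvd (by norm_num) hj6
  by_contra hne
  have hC8 : Nat.card C = 2 ^ 3 := by interval_cases j <;> omega
  obtain ⟨T, hT⟩ := F.toFrame.exists_sylow
  obtain ⟨T', hT'⟩ := (IsPGroup.of_card hC8).exists_le_sylow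
  have hTe := eq_of_le_of_card_ge hT'
    (by rw [hC8, card_sylow_coe (a := 3) (m := 315) (by rw [F.toFrame.hyp.card_eq]; norm_num) (by decide) T'])
  obtain ⟨g, rfl⟩ := MulAction.exists_smul_eq G T T'
  have hqC : q ∈ ((g • T : Sylow 2 G) : Subgroup G) := hTe ▸ mem_centralizer_singleton_iff.2 rfl
  obtain ⟨x, hx, hxq⟩ := (Subgroup.mem_smul_pointwise_iff_exists q (MulAut.conj g) _).1 hqC
  simp only [MulAut.smul_def, MulAut.conj_apply] at hxq
  have hxo : orderOf x = 4 := by
    rw [← hq, ← hxq]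
    exact (orderOf_injective (MulAut.conj g).toMonoidHom (MulAut.conj g).injective x).symm
  have hcen : ∀ y ∈ (T : Subgroup G), y * x = x * y := by
    intro y hy
    have h1 : g * y * g⁻¹ ∈ C := by
      rw [hTe]
      exact (Subgroup.mem_smul_pointwise_iff_exists _ (MulAut.conj g) _).2 ⟨y, hy, rfl⟩
    rw [hC, ← hxq, mem_centralizer_singleton_iff] at h1
    calc y * x = g⁻¹ * ((g * y * g⁻¹) * (g * x * g⁻¹)) * g := by group
      _ = g⁻¹ * ((g * x * g⁻¹) * (g * y * g⁻¹)) * g := by rw [h1]
      _ = x * y := by group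
  have hkey : ∀ y ∈ V, t * y * t⁻¹ ≠ y → x = t * y → False := by
    intro y hy hyt hxy
    have h1 := hcen y ((hT y).2 (Or.inl hy))
    rw [hxy, ← mul_assoc, mul_left_inj] at h1
    exact hyt (by rw [← h1, mul_inv_cancel_right])
  rcases F.four_shape ((hT x).1 hx) hxo with e | e
  · exact hkey v F.vV F.moved e
  · exact hkey _ (F.toFrame.t_conj_mem F.vV) (fun h => F.moved (mul_left_cancel (mul_right_cancel h))) e

/-- A Sylow 2-subgroup has only two elements of order four. -/
theorem Frame'.four_in_sylow (F : Frame' G P R a t V v z) [Fact (Nat.Prime 2)] (T' : Sylow 2 G) {q x : G}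
    (hq : q ∈ (T' : Subgroup G)) (hqo : orderOf q = 4) (hx : x ∈ (T' : Subgroup G))
    (hxo : orderOf x = 4) : x = q ∨ x = q⁻¹ := by
  obtain ⟨T, hT⟩ := F.toFrame.exists_sylow
  obtain ⟨g, rfl⟩ := MulAction.exists_smul_eq G T T'
  have key : ∀ y ∈ ((g • T : Sylow 2 G) : Subgroup G), orderOf y = 4 →
      g⁻¹ * y * g = t * v ∨ g⁻¹ * y * g = t * (t * v * t⁻¹) := by
    intro y hy hyo
    obtain ⟨w, hw, rfl⟩ := (Subgroup.mem_smul_pointwise_iff_exists y (MulAut.conj g) _).1 hy
    simp only [MulAut.smul_def, MulAut.conj_apply] at hyo ⊢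
    rw [show g⁻¹ * (g * w * g⁻¹) * g = w by group]
    exact F.four_shape ((hT w).1 hw)
      (hyo ▸ (orderOf_injective (MulAut.conj g).toMonoidHom (MulAut.conj g).injective w).symm)
  have hqq : q ≠ q⁻¹ := fun h => by
    have h2 : q ^ 2 = 1 := by rw [sq]; exact eq_inv_iff_mul_eq_one.1 h
    have := orderOf_dvd_of_pow_eq_one h2
    rw [hqo] at this
    norm_num at this
  have hc : ∀ {x y : G}, g⁻¹ * x * g = g⁻¹ * y * g → x = y := fun h => mul_left_cancel (mul_right_cancel h)
  rcases key q hq hqo with a1 | a1 <;> rcases key x hx hxo with a3 | a3 <;>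
    rcases key q⁻¹ (inv_mem hq) (by rw [orderOf_inv, hqo]) with a2 | a2
  all_goals first
    | exact absurd (hc (a1.trans a2.symm)) hqq
    | exact Or.inl (hc (a3.trans a1.symm))
    | exact Or.inr (hc (a3.trans a2.symm))

end AltSeven
end H62
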