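/-
Simple groups of order 2520 without a subgroup of index seven: an irreducible character of
degree six and its values on the 2-elements.
-/
import Cfsg.Agent.H62.AltSevenTwo
import Cfsg.Agent.H12.Glauberman

set_option autoImplicit false
set_option linter.unusedSectionVars false
set_option linter.style.haveILetI false

open Cfsg

namespace H62
namespace AltSeven

open Subgroup
open scoped ComplexConjugate

universe u

variable {G : Type u} [Group G] [Fintype G] [IsSimpleGroup G] [h3F : Fact (Nat.Prime 3)]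
variable {P R : Sylow 3 G} {a t : G} {V : Subgroup G} {v z : G}

/-- A lower bound for the norm from the elements where the absolute value is known. -/
theorem norm_le_card (χ : IrrCharacter G) (S : Finset G) :
    ∑ g ∈ S, Complex.normSq ((χ : G → ℂ) g) ≤ Nat.card G := by
  classical
  have h := H12.Glauberman.irr_sum_mul_conj χ χ
  rw [if_pos rfl] at h
  have h' : (∑ g : G, Complex.normSq ((χ : G → ℂ) g)) = (Nat.card G : ℝ) := by
    apply Complex.ofReal_injective
    push_cast
    rw [← h]
    exact Finset.sum_congr rfl fun g _ => (Complex.mul_conj _).symm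
  rw [← h']
  exact Finset.sum_le_univ_sum_of_nonneg fun g => Complex.normSq_nonneg _

/-- The conjugates of an element, with their number. -/
theorem exists_class (x : G) : ∃ S : Finset G, (∀ g, g ∈ S ↔ IsConj x g) ∧
    S.card * Nat.card (centralizer ({x} : Set G)) = Nat.card G := by
  classical
  refine ⟨Finset.univ.filter fun g => IsConj x g, fun g => by simp, ?_⟩
  rw [← Fintype.card_subtype, ← Nat.card_eq_fintype_card]
  exact H65.card_class_mul x

/-- The Sylow 5-subgroups are self-centralising and number `126`. -/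
theorem Frame'.five (F : Frame' G P R a t V v z) : H32.ExactSieve.Facts G 5 126 5 := by
  obtain ⟨-, k, c, h5, hc, hk⟩ := facts F.toFrame.hyp
  by_cases h : c = 5
  · subst h
    rw [hk rfl] at h5
    exact h5
  exfalso
  haveI : Fact (Nat.Prime 5) := ⟨Nat.prime_five⟩
  haveI : Fact (Nat.Prime 2) := ⟨Nat.prime_two⟩
  obtain ⟨Q⟩ := (inferInstance : Nonempty (Sylow 5 G))
  obtain ⟨j, hj, hjo⟩ := H70.exists_mem_orderOf (centralizer ((Q : Subgroup G) : Set G)) 2 Nat.prime_two (by
    rw [h5.card_C Q]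
    fin_cases hc <;> first | exact absurd rfl h | norm_num)
  have hle : (Q : Subgroup G) ≤ centralizer ({j} : Set G) := fun x hx =>
    mem_centralizer_singleton_iff.2 (mem_centralizer_iff.1 hj x hx)
  have h24 := card_dvd_of_le hle
  rw [h5.card_P Q, F.card_centralizer_involution hjo] at h24
  norm_num at h24

/-- No irreducible character with value `± 1` at the elements of order seven has degree eight. -/
theorem Frame'.degree_ne_eight (F : Frame' G P R a t V v z) (χ : IrrCharacter G)
    (h7 : ∀ g : G, orderOf g = 7 → Complex.normSq ((χ : G → ℂ) g) = 1) :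
    H12.degree (χ : G → ℂ) ≠ 8 := by
  classical
  intro h8
  haveI : Fact (Nat.Prime 5) := ⟨Nat.prime_five⟩
  haveI : Fact (Nat.Prime 7) := ⟨by norm_num⟩
  have hh := F.toFrame.hyp
  have hF := F.five
  have hF7 := (facts hh).1
  obtain ⟨Q⟩ := (inferInstance : Nonempty (Sylow 5 G))
  obtain ⟨x, hx, hxo⟩ := H70.exists_mem_orderOf (Q : Subgroup G) 5 Nat.prime_five (by rw [hF.card_P Q])
  have hxC : centralizer ({x} : Set G) = centralizer ((Q : Subgroup G) : Set G) := by
    rw [← eq_of_le_of_card_ge (zpowers_le.2 hx) (by rw [hF.card_P Q, Nat.card_zpowers, hxo]),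
      zpowers_eq_closure, centralizer_closure]
  obtain ⟨S, hS, hSc⟩ := exists_class x
  rw [hxC, hF.card_C Q, hh.card_eq] at hSc
  have hall : S = Finset.univ.filter fun g => orderOf g = 5 := by
    refine Finset.eq_of_subset_of_card_le (fun g hg => ?_) ?_
    · obtain ⟨c, rfl⟩ := isConj_iff.1 ((hS g).1 hg)
      rw [Finset.mem_filter]
      refine ⟨Finset.mem_univ _, ?_⟩
      rw [← hxo]
      exact orderOf_injective (MulAut.conj c).toMonoidHom (MulAut.conj c).injective x
    · rw [← Fintype.card_subtype, ← Nat.card_eq_fintype_card,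
        card_orderOf_eq_prime Q (hF.card_P Q), hF.card_sylow]
      omega
  have hconst : ∀ j : ℕ, ¬ 5 ∣ j → (χ : G → ℂ) (x ^ j) = (χ : G → ℂ) x := by
    intro j hj
    have hm : x ^ j ∈ S := by
      rw [hall, Finset.mem_filter]
      refine ⟨Finset.mem_univ _, ?_⟩
      rw [Nat.Coprime.orderOf_pow (by rw [hxo]; exact (Nat.prime_five.coprime_iff_not_dvd).2 hj), hxo]
    obtain ⟨c, hc⟩ := isConj_iff.1 ((hS _).1 hm)
    rw [← hc, H12.irr_isClassFunction χ x c]
  obtain ⟨n, ρ, -, hval⟩ := χ.2
  obtain ⟨μ, hμ, hpow, -⟩ := H12.exists_char_eigenvalues ρ x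
  have hn : Module.finrank ℂ (Fin n → ℂ) = 8 := by rw [← H12.degree_character ρ, hval, h8]
  have hval1 : (χ : G → ℂ) x = ∑ i, μ i := by rw [← hval]; simpa using hpow 1
  -- the rational value
  set m := (Finset.univ.filter fun i => μ i = 1).card with hm
  have hsum : (8 : ℂ) + 4 * (χ : G → ℂ) x = 5 * m := by
    have h0 : ∀ i, ∑ j ∈ Finset.range 5, μ i ^ j = if μ i = 1 then (5 : ℂ) else 0 := by
      intro i
      by_cases h : μ i = 1
      · simp [h]
      · rw [if_neg h, geom_sum_eq h]
        have := hμ i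
        rw [hxo] at this
        rw [this, sub_self, zero_div]
    have h1 : ∑ i, ∑ j ∈ Finset.range 5, μ i ^ j = 5 * (m : ℂ) := by
      simp only [h0, hm, ← Finset.sum_filter, Finset.sum_const, nsmul_eq_mul]
      ring
    have hj : ∀ j : ℕ, ¬ 5 ∣ j → ∑ i, μ i ^ j = (χ : G → ℂ) x := fun j hj => by
      rw [← hpow, hval, hconst j hj]
    rw [Finset.sum_comm, Finset.sum_range_succ, Finset.sum_range_succ, Finset.sum_range_succ,
      Finset.sum_range_succ, Finset.sum_range_one, hj 1 (by norm_num), hj 2 (by norm_num),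
      hj 3 (by norm_num), hj 4 (by norm_num)] at h1
    simp only [pow_zero, Finset.sum_const, Finset.card_univ, Fintype.card_fin, hn, nsmul_eq_mul] at h1
    rw [← h1]
    push_cast
    ring
  have hint : IsIntegral ℤ ((χ : G → ℂ) x) := by
    rw [← hval]; exact H12.isIntegral_character ρ x
  have h2 : (4 : ℝ) ≤ Complex.normSq ((χ : G → ℂ) x) := by
    have hx' : (χ : G → ℂ) x = (((5 * (m : ℚ) - 8) / 4 : ℚ) : ℂ) := by
      push_cast
      linear_combination (1 / 4 : ℂ) * hsum
    rw [hx'] at hint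
    obtain ⟨i, hi⟩ : ∃ i : ℤ, ((5 * (m : ℚ) - 8) / 4) = i := by
      have h1 : IsIntegral ℤ ((5 * (m : ℚ) - 8) / 4 : ℚ) :=
        IsIntegral.tower_bot (algebraMap ℚ ℂ).injective
          (by simpa [eq_ratCast] using hint)
      obtain ⟨i, hi⟩ := IsIntegrallyClosed.isIntegral_iff.1 h1
      exact ⟨i, by simpa [eq_intCast] using hi.symm⟩
    have hi' : 5 * (m : ℤ) - 8 = 4 * i := by
      have : ((5 * (m : ℤ) - 8 : ℤ) : ℚ) = ((4 * i : ℤ) : ℚ) := by push_cast; linarith
      exact_mod_cast this
    have hbig : 2 ≤ i ∨ i ≤ -2 := by omega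
    rw [hx', hi]
    push_cast
    rw [Complex.normSq_intCast]
    have h4 : (4 : ℤ) ≤ i * i := by rcases hbig with h | h <;> nlinarith
    exact_mod_cast h4
  -- the three parts of the norm
  set T7 := Finset.univ.filter fun g : G => orderOf g = 7 with hT7
  have hT7c : T7.card = 720 := by
    obtain ⟨Q7⟩ := (inferInstance : Nonempty (Sylow 7 G))
    rw [hT7, ← Fintype.card_subtype, ← Nat.card_eq_fintype_card,
      card_orderOf_eq_prime Q7 (hF7.card_P Q7), hF7.card_sylow]
  have hd1 : Disjoint S T7 := by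
    rw [hall, hT7, Finset.disjoint_filter]
    intro g _ h h'
    omega
  have hn1 : (1 : G) ∉ S ∪ T7 := by
    rw [hall, hT7, Finset.mem_union, Finset.mem_filter, Finset.mem_filter, orderOf_one]
    omega
  have hle := norm_le_card χ (insert 1 (S ∪ T7))
  rw [Finset.sum_insert hn1, Finset.sum_union hd1] at hle
  have e1 : Complex.normSq ((χ : G → ℂ) 1) = 64 := by
    rw [H12.irr_apply_one, h8]
    norm_num [Complex.normSq_apply]
  have e2 : ∑ g ∈ S, Complex.normSq ((χ : G → ℂ) g) = S.card * Complex.normSq ((χ : G → ℂ) x) := by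
    rw [Finset.sum_congr rfl (fun g hg => ?_), Finset.sum_const, nsmul_eq_mul]
    obtain ⟨c, rfl⟩ := isConj_iff.1 ((hS g).1 hg)
    rw [H12.irr_isClassFunction χ x c]
  have e3 : ∑ g ∈ T7, Complex.normSq ((χ : G → ℂ) g) = (T7.card : ℝ) := by
    rw [Finset.sum_congr rfl (fun g hg => h7 g (Finset.mem_filter.1 hg).2), Finset.sum_const, nsmul_eq_mul,
      mul_one]
  rw [e1, e2, e3, hh.card_eq, hT7c, show S.card = 504 by omega] at hle
  push_cast at hle
  linarith

/-- Values at the 2-elements of the characters of degrees four and six. -/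
theorem Frame'.values (F : Frame' G P R a t V v z) (χ : IrrCharacter G) (hχ : χ ≠ H12.oneIrr G)
    (hd : H12.degree (χ : G → ℂ) = 4 ∨ H12.degree (χ : G → ℂ) = 6) {q : G} (hq : orderOf q = 4) :
    H12.degree (χ : G → ℂ) = 6 ∧ (χ : G → ℂ) q = 0 ∧ (χ : G → ℂ) (q * q) = 2 := by
  classical
  have hh := F.toFrame.hyp
  have hG := hh.notComm
  obtain ⟨n, ρ, -, hval⟩ := χ.2
  set W := Fin n → ℂ
  obtain ⟨b, μ, hb⟩ := H12.exists_eigenbasis (orderOf_pos q).ne' (H12.rep_pow_orderOf ρ q)
  have hrank : Module.finrank ℂ W = H12.degree (χ : G → ℂ) := by rw [← hval, H12.degree_character]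
  have hb2 : ∀ i, ρ (q * q) (b i) = (μ i * μ i) • b i := fun i => by
    rw [map_mul, Module.End.mul_apply, (hb i).1, map_smul, (hb i).1, smul_smul]
  have hdiag : ∀ (T : W →ₗ[ℂ] W) (ν : Fin (Module.finrank ℂ W) → ℂ), (∀ i, T (b i) = ν i • b i) →
      LinearMap.toMatrix b b T = Matrix.diagonal ν := by
    intro T ν hT
    ext i j
    rw [LinearMap.toMatrix_apply, hT, map_smul, Module.Basis.repr_self]
    by_cases h : i = j
    · subst h; simp
    · simp [Matrix.diagonal_apply_ne _ h, Finsupp.single_eq_of_ne h]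
  have hv1 : (χ : G → ℂ) q = ∑ i, μ i := by
    rw [← hval]
    show LinearMap.trace ℂ W (ρ q) = _
    rw [LinearMap.trace_eq_matrix_trace ℂ b, hdiag _ μ fun i => (hb i).1, Matrix.trace_diagonal]
  have hv2 : (χ : G → ℂ) (q * q) = ∑ i, μ i * μ i := by
    rw [← hval]
    show LinearMap.trace ℂ W (ρ (q * q)) = _
    rw [LinearMap.trace_eq_matrix_trace ℂ b, hdiag _ _ hb2, Matrix.trace_diagonal]
  have hperf : commutator G = ⊤ := by
    rcases (inferInstance : (commutator G).Normal).eq_bot_or_eq_top with h | h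
    · exfalso
      refine hG ⟨⟨fun x y => ?_⟩⟩
      have := commutator_mem_commutator (mem_top x) (mem_top y)
      rw [← commutator_def G, h, mem_bot] at this
      exact commutatorElement_eq_one_iff_mul_comm.1 this
    · exact h
  have hdet : ∏ i, μ i = 1 := by
    let f : G →* ℂˣ := ((LinearMap.det : (W →ₗ[ℂ] W) →* ℂ).comp ρ).toHomUnits
    have hk : q ∈ f.ker := Abelianization.commutator_subset_ker f (hperf ▸ Subgroup.mem_top q)
    have h1 : LinearMap.det (ρ q) = 1 := congrArg Units.val (MonoidHom.mem_ker.mp hk)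
    rw [← LinearMap.det_toMatrix b, hdiag _ μ fun i => (hb i).1, Matrix.det_diagonal] at h1
    exact h1
  have h4 : ∀ i, μ i = 1 ∨ μ i = -1 ∨ μ i = Complex.I ∨ μ i = -Complex.I := by
    intro i
    have h := (hb i).2
    rw [hq] at h
    have hI : Complex.I * Complex.I = -1 := Complex.I_mul_I
    have h2 : (μ i - 1) * (μ i + 1) * ((μ i - Complex.I) * (μ i + Complex.I)) = 0 := by
      linear_combination h + (1 - μ i * μ i) * hI
    rcases mul_eq_zero.1 h2 with h3 | h3 <;> rcases mul_eq_zero.1 h3 with h5 | h5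
    · exact Or.inl (sub_eq_zero.1 h5)
    · exact Or.inr (Or.inl (eq_neg_of_add_eq_zero_left h5))
    · exact Or.inr (Or.inr (Or.inl (sub_eq_zero.1 h5)))
    · exact Or.inr (Or.inr (Or.inr (eq_neg_of_add_eq_zero_left h5)))
  let N : ℂ → ℕ := fun w => (Finset.univ.filter fun i => μ i = w).card
  have hsum : ∀ f : ℂ → ℂ, ∑ i, f (μ i) =
      N 1 * f 1 + N (-1) * f (-1) + N Complex.I * f Complex.I + N (-Complex.I) * f (-Complex.I) := by
    intro f
    have hsplit : ∀ i, f (μ i) = (if μ i = 1 then f 1 else 0) + (if μ i = -1 then f (-1) else 0) +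
        (if μ i = Complex.I then f Complex.I else 0) + (if μ i = -Complex.I then f (-Complex.I) else 0) := by
      intro i
      have e1 : (1 : ℂ) ≠ -1 := by norm_num
      have e2 : (1 : ℂ) ≠ Complex.I := fun h => by simpa using congrArg Complex.im h
      have e3 : (1 : ℂ) ≠ -Complex.I := fun h => by simpa using congrArg Complex.im h
      have e4 : (-1 : ℂ) ≠ Complex.I := fun h => by simpa using congrArg Complex.im h
      have e5 : (-1 : ℂ) ≠ -Complex.I := fun h => by simpa using congrArg Complex.im h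
      have e6 : Complex.I ≠ -Complex.I := fun h => by
        have := congrArg Complex.im h
        norm_num at this
      rcases h4 i with h | h | h | h <;> rw [h] <;>
        simp [e1, e2, e3, e4, e5, e6, e1.symm, e2.symm, e3.symm, e4.symm, e5.symm, e6.symm]
    simp only [hsplit, Finset.sum_add_distrib, ← Finset.sum_filter, Finset.sum_const, nsmul_eq_mul, N]
  have hcount : N 1 + N (-1) + N Complex.I + N (-Complex.I) = H12.degree (χ : G → ℂ) := by
    have h := hsum fun _ => 1
    simp only [Finset.sum_const, Finset.card_univ, Fintype.card_fin, nsmul_eq_mul, mul_one] at h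
    rw [hrank] at h
    exact_mod_cast h.symm
  have hq1 : (χ : G → ℂ) q = ((N 1 : ℂ) - N (-1)) + ((N Complex.I : ℂ) - N (-Complex.I)) * Complex.I := by
    rw [hv1, hsum fun w => w]; ring
  have hq2 : (χ : G → ℂ) (q * q) = (N 1 : ℂ) + N (-1) - N Complex.I - N (-Complex.I) := by
    rw [hv2, hsum fun w => w * w]
    simp only [mul_neg, neg_mul, mul_one, neg_neg, Complex.I_mul_I]
    ring
  -- the value at `q` is real
  have hreal : conj ((χ : G → ℂ) q) = (χ : G → ℂ) q := by
    rw [← H12.irr_inv]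
    obtain ⟨c, hc⟩ := isConj_iff.1 (F.conj_inv_four hq)
    rw [← hc, H12.irr_isClassFunction χ q c]
  have hII : N Complex.I = N (-Complex.I) := by
    rw [hq1] at hreal
    have him := congrArg Complex.im hreal
    simp at him
    have : (N Complex.I : ℝ) = N (-Complex.I) := by linarith
    exact_mod_cast this
  -- the determinant
  have hB : Even (N (-1)) := by
    have hpow : ∀ i, μ i = μ i := fun i => rfl
    have hprod : ∏ i, μ i = (1 : ℂ) ^ N 1 * (-1) ^ N (-1) * Complex.I ^ N Complex.I *
        (-Complex.I) ^ N (-Complex.I) := by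
      have hsplit : ∀ i, μ i = (if μ i = 1 then (1 : ℂ) else 1) * (if μ i = -1 then -1 else 1) *
          (if μ i = Complex.I then Complex.I else 1) * (if μ i = -Complex.I then -Complex.I else 1) := by
        intro i
        have e4 : (-1 : ℂ) ≠ Complex.I := fun h => by simpa using congrArg Complex.im h
        have e5 : (-1 : ℂ) ≠ -Complex.I := fun h => by simpa using congrArg Complex.im h
        have e6 : Complex.I ≠ -Complex.I := fun h => by
          have := congrArg Complex.im h
          norm_num at this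
        rcases h4 i with h | h | h | h <;> rw [h] <;>
          norm_num [e4, e5, e6, e4.symm, e5.symm, e6.symm, Complex.ext_iff]
      rw [Finset.prod_congr rfl fun i _ => hsplit i]
      simp only [Finset.prod_mul_distrib, ← Finset.prod_filter, Finset.prod_const, N]
    rw [hdet, hII, one_pow, one_mul, mul_assoc, ← mul_pow] at hprod
    simp only [mul_neg, Complex.I_mul_I, neg_neg, one_pow, mul_one] at hprod
    rcases Nat.even_or_odd (N (-1)) with h | h
    · exact h
    · exfalso
      rw [h.neg_one_pow] at hprod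
      norm_num at hprod
  have hj : orderOf (q * q) = 2 := by rw [← sq, orderOf_pow, hq]; rfl
  have hjne : q * q ≠ 1 := fun h => by rw [h, orderOf_one] at hj; omega
  have hC : N Complex.I ≠ 0 := by
    intro h0
    refine hχ (irr_eq_one_of_apply_eq_degree χ hjne ?_)
    rw [hq2, ← hII, h0, ← hcount, ← hII, h0]
    push_cast
    ring
  have hA : N 1 + N (-1) ≠ 0 := by
    intro h0
    have hneg : ∀ i, μ i * μ i = -1 := by
      intro i
      rcases h4 i with h | h | h | h
      · exfalso
        have : 0 < N 1 := Finset.card_pos.2 ⟨i, by simp [h]⟩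
        omega
      · exfalso
        have : 0 < N (-1) := Finset.card_pos.2 ⟨i, by simp [h]⟩
        omega
      · rw [h, Complex.I_mul_I]
      · rw [h, neg_mul_neg, Complex.I_mul_I]
    have hscal : ρ (q * q) = (-1 : ℂ) • (LinearMap.id : W →ₗ[ℂ] W) :=
      b.ext fun i => by rw [hb2, hneg]; simp
    have hcen : q * q ∈ center G := by
      rw [mem_center_iff]
      intro g
      by_contra hne
      refine hχ (irr_eq_one_of_apply_eq_degree χ
        (g := g * (q * q) * g⁻¹ * (q * q)⁻¹) (fun h => hne ?_) ?_)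
      · rw [mul_inv_eq_one] at h
        exact mul_inv_eq_iff_eq_mul.1 h
      · have h1 : ρ (g * (q * q) * g⁻¹) = ρ (q * q) := by
          rw [map_mul, map_mul, hscal, mul_smul_comm, smul_mul_assoc]
          congr 1
          rw [show (LinearMap.id : W →ₗ[ℂ] W) = 1 from rfl, mul_one, ← map_mul, mul_inv_cancel, map_one]
        have h2 : ρ (g * (q * q) * g⁻¹ * (q * q)⁻¹) = 1 := by
          rw [map_mul, h1, ← map_mul, mul_inv_cancel, map_one]
        have hd1 : (χ : G → ℂ) 1 = (H12.degree (χ : G → ℂ) : ℂ) := H12.irr_apply_one χ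
        rw [← hd1, ← hval]
        show LinearMap.trace ℂ W (ρ _) = LinearMap.trace ℂ W (ρ 1)
        rw [h2, show ρ 1 = 1 from map_one ρ]
    rw [center_eq_bot_of_simple hG, mem_bot] at hcen
    exact hjne hcen
  -- the norm
  obtain ⟨S, hS, hSc⟩ := exists_class q
  rw [F.card_centralizer_four hq, hh.card_eq] at hSc
  have hn1 : (1 : G) ∉ S := by
    rw [hS]
    intro h
    obtain ⟨c, hc⟩ := isConj_iff.1 h
    rw [conj_eq_one_iff.1 hc, orderOf_one] at hq
    omega
  have hle := norm_le_card χ (insert 1 S)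
  rw [Finset.sum_insert hn1, Finset.sum_congr rfl (fun g hg => show
    Complex.normSq ((χ : G → ℂ) g) = Complex.normSq ((χ : G → ℂ) q) by
      obtain ⟨c, rfl⟩ := isConj_iff.1 ((hS g).1 hg)
      rw [H12.irr_isClassFunction χ q c]), Finset.sum_const, nsmul_eq_mul, hh.card_eq,
    show S.card = 630 by omega, hq1, hII, sub_self, zero_mul, add_zero, H12.irr_apply_one] at hle
  have e1 : Complex.normSq ((H12.degree (χ : G → ℂ) : ℕ) : ℂ) =
      (H12.degree (χ : G → ℂ) : ℝ) * (H12.degree (χ : G → ℂ) : ℝ) := Complex.normSq_natCast _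
  have e2 : Complex.normSq ((N 1 : ℂ) - N (-1)) = ((((N 1 : ℤ) - N (-1)) * ((N 1 : ℤ) - N (-1)) : ℤ) : ℝ) := by
    rw [Int.cast_mul, ← Complex.normSq_intCast]
    push_cast
    rfl
  rw [e1, e2] at hle
  set A : ℤ := (N 1 : ℤ) - N (-1) with hAdef
  have hle' : ((H12.degree (χ : G → ℂ) : ℤ) * (H12.degree (χ : G → ℂ)) + 630 * (A * A)) ≤ 2520 := by
    exact_mod_cast hle
  have hAA : A * A ≤ 3 := by
    rcases hd with h | h <;> rw [h] at hle' <;> push_cast at hle' <;> omega
  have hA1 : -1 ≤ A ∧ A ≤ 1 := by constructor <;> nlinarith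
  obtain ⟨r, hr⟩ := hB
  have hd6 : H12.degree (χ : G → ℂ) = 6 ∧ N 1 = 2 ∧ N (-1) = 2 ∧ N Complex.I = 1 := by
    rcases hd with h | h <;> rw [h] at hcount ⊢ <;> omega
  obtain ⟨h6, n1, n2, n3⟩ := hd6
  refine ⟨h6, ?_, ?_⟩
  · rw [hq1, ← hII, n1, n2]; simp
  · rw [hq2, ← hII, n1, n2, n3]; norm_num

/-- A character of degree six. -/
theorem Frame'.exists_six (F : Frame' G P R a t V v z) :
    ∃ χ : IrrCharacter G, χ ≠ H12.oneIrr G ∧ H12.degree (χ : G → ℂ) = 6 := by
  classical
  by_contra hno
  push Not at hno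
  have hh := F.toFrame.hyp
  have hG := hh.notComm
  have heven : Even (Nat.card G) := by rw [hh.card_eq]; decide
  haveI : Fact (Nat.Prime 7) := ⟨by norm_num⟩
  have hF := (facts hh).1
  obtain ⟨Q⟩ := (inferInstance : Nonempty (Sylow 7 G))
  have hQ := hF.card_P Q
  obtain ⟨M, hM⟩ := H20.exists_isPModular (p := 7) (by norm_num)
  haveI := H20.isPrime_of_modular hM
  obtain ⟨d0⟩ := H20.PrimeSylow.exists_primeData (P := Q) hQ hM
  have he : Nat.card (H20.autG (Q : Subgroup G)) = 3 := by
    rw [H20.card_autG]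
    have h1 := (centralizer ((Q : Subgroup G) : Set G)).relIndex_mul_index
      (centralizer_le_normalizer (s := ((Q : Subgroup G) : Set G)))
    have h2 := (centralizer ((Q : Subgroup G) : Set G)).card_mul_index
    rw [hF.card_C Q, hh.card_eq] at h2
    rw [show (normalizer ((Q : Subgroup G) : Set G)).index = 120 from
      Q.card_eq_index_normalizer.symm.trans hF.card_sylow] at h1
    omega
  generalize Nat.card (H20.autG (Q : Subgroup G)) = e at he d0
  subst he
  obtain ⟨x, hx, hxo⟩ := H70.exists_mem_orderOf (Q : Subgroup G) 7 (by norm_num) (by rw [hQ])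
  have hx1 : x ≠ 1 := H70.ne_one_of_orderOf_prime (by norm_num) hxo
  have hdX : ∀ χ ∈ d0.X, (H12.degree (χ : G → ℂ) : ℤ) ≡ d0.εX χ [ZMOD 7] := fun χ hχ =>
    H20.PrimeSylow.degree_modEq hM χ hx (by rw [d0.valX χ hχ x hx hx1, sub_self]; exact H20.memIdeal_zero)
  set one := H12.oneIrr G with hone
  have hone1 : (one : G → ℂ) x = 1 := by rw [hone, H12.oneIrr_apply]
  have honed : H12.degree (one : G → ℂ) = 1 := by
    have : (one : G → ℂ) 1 = (H12.degree (one : G → ℂ) : ℂ) := H12.irr_apply_one one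
    rw [hone, H12.oneIrr_apply] at this
    exact_mod_cast this.symm
  have hdY1 : ∀ θ ∈ d0.Y, θ ≠ one := by
    intro θ hθ heq
    have h1 := d0.degY θ hθ
    rw [heq, honed] at h1
    rcases d0.ε_eq with h' | h' <;> rw [h'] at h1 <;> revert h1 <;> decide
  have hmem : one ∈ d0.X := by
    have : one ∈ principalBlock M G := H20.mem_blockOf_self (M := M) (H12.oneIrr G)
    rw [d0.union] at this
    exact this.resolve_right fun h => hdY1 one h rfl
  have hεone : d0.εX one = 1 := by
    have := d0.valX one hmem x hx hx1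
    rw [hone1] at this
    exact_mod_cast this.symm
  have h7val : ∀ χ ∈ d0.X, ∀ g : G, orderOf g = 7 → Complex.normSq ((χ : G → ℂ) g) = 1 := by
    intro χ hχ g hg
    obtain ⟨Q', hQ'⟩ := (IsPGroup.of_card (p := 7) (n := 1)
      (by rw [Nat.card_zpowers, hg, pow_one]) : IsPGroup 7 (zpowers g)).exists_le_sylow
    obtain ⟨c, rfl⟩ := MulAction.exists_smul_eq G Q Q'
    obtain ⟨y, hy, rfl⟩ := (Subgroup.mem_smul_pointwise_iff_exists g (MulAut.conj c) _).1 (hQ' (mem_zpowers g))
    simp only [MulAut.smul_def, MulAut.conj_apply] at hg ⊢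
    have hy1 : y ≠ 1 := fun h => by rw [h, mul_one, mul_inv_cancel, orderOf_one] at hg; omega
    rw [H12.irr_isClassFunction χ y c, d0.valX χ hχ y hy hy1]
    rcases d0.εX_eq χ hχ with h | h <;> rw [h] <;> simp
  let L : List ℕ := (H32.ExactSieve.divList [2, 2, 2, 3, 3, 5, 7]).filter
    fun d => decide (2 < d ∧ d * d < 2520 ∧ d ≠ 6)
  have hcand : ∀ χ : IrrCharacter G, χ ≠ one → H12.degree (χ : G → ℂ) ∈ L.filter (fun d => d != 4) := by
    intro χ hne
    obtain ⟨hd2, hdn, hdsq⟩ := degree_bounds hG heven hne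
    rw [hh.card_eq] at hdn hdsq
    have h6 := hno χ hne
    have h4 : H12.degree (χ : G → ℂ) ≠ 4 := by
      intro h4
      haveI : Fact (Nat.Prime 2) := ⟨Nat.prime_two⟩
      obtain ⟨T, hT⟩ := F.toFrame.exists_sylow
      -- an element of order four
      have hq : orderOf (t * v) = 4 := by
        have hsq : (t * v) ^ 2 = z := by
          rw [sq]
          calc t * v * (t * v) = (t * v * t⁻¹) * (t * t) * v := by group
            _ = (t * v * t⁻¹) * v := by rw [F.toFrame.tt, mul_one]
            _ = (v * (t * v * t⁻¹))⁻¹ := by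
              rw [mul_inv_rev, inv_eq_of_mul_eq_one_right (F.exponent _ (F.toFrame.t_conj_mem F.vV)),
                inv_eq_of_mul_eq_one_right (F.exponent v F.vV)]
            _ = z := by rw [← F.z_eq, inv_eq_of_mul_eq_one_right (F.exponent z F.zV)]
        refine orderOf_eq_prime_pow (p := 2) (n := 1) ?_ ?_
        · rw [pow_one, hsq]; exact F.z_ne
        · show (t * v) ^ (2 * 2) = 1
          rw [pow_mul, hsq, sq, F.exponent z F.zV]
      have := (F.values χ hne (Or.inl h4) hq).1
      omega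
    simp only [L, List.mem_filter, decide_eq_true_eq, bne_iff_ne]
    exact ⟨⟨H32.ExactSieve.mem_divList _ (by norm_num) _ (by simpa using hdn), hd2, hdsq, h6⟩, h4⟩
  let LX : List ℤ := ((L.filter fun d => d != 4 && d != 8 && d % 7 == 1).map fun d : ℕ => (d : ℤ)) ++
    ((L.filter fun d => d != 4 && d != 8 && d % 7 == 6).map fun d : ℕ => -(d : ℤ))
  let LY : List ℤ := ((L.filter fun d => d != 4 && d % 7 == 3).map fun d : ℕ => (d : ℤ)) ++
    ((L.filter fun d => d != 4 && d % 7 == 4).map fun d : ℕ => -(d : ℤ))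
  have hT : ∀ χ ∈ d0.X.toFinset.erase one, d0.εX χ * (H12.degree (χ : G → ℂ) : ℤ) ∈ LX := by
    intro χ hχ
    have hX := Set.mem_toFinset.1 (Finset.mem_of_mem_erase hχ)
    have hd := hcand χ (Finset.ne_of_mem_erase hχ)
    have h8 := F.degree_ne_eight χ (h7val χ hX)
    have hmod := hdX χ hX
    simp only [List.mem_filter, bne_iff_ne] at hd
    simp only [LX, List.mem_append, List.mem_map, List.mem_filter, Bool.and_eq_true, bne_iff_ne, beq_iff_eq]
    rcases d0.εX_eq χ hX with h' | h' <;> rw [h'] at hmod ⊢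
    · exact Or.inl ⟨_, ⟨hd.1, ⟨hd.2, h8⟩, by unfold Int.ModEq at hmod; omega⟩, by ring⟩
    · exact Or.inr ⟨_, ⟨hd.1, ⟨hd.2, h8⟩, by unfold Int.ModEq at hmod; omega⟩, by ring⟩
  obtain ⟨θ, hθ⟩ : d0.Y.Nonempty := by
    have hY := d0.card_Y
    refine Set.nonempty_iff_ne_empty.2 fun h0 => ?_
    rw [h0] at hY
    simp at hY
  have hY : d0.ε * (H12.degree (θ : G → ℂ) : ℤ) ∈ LY := by
    have hd := hcand θ (hdY1 θ hθ)
    have hmod := d0.degY θ hθ
    simp only [List.mem_filter, bne_iff_ne] at hd
    simp only [LY, List.mem_append, List.mem_map, List.mem_filter, Bool.and_eq_true, bne_iff_ne, beq_iff_eq]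
    rcases d0.ε_eq with h' | h' <;> rw [h'] at hmod ⊢
    · exact Or.inl ⟨_, ⟨hd.1, hd.2, by unfold Int.ModEq at hmod; push_cast at hmod; omega⟩, by ring⟩
    · exact Or.inr ⟨_, ⟨hd.1, hd.2, by unfold Int.ModEq at hmod; push_cast at hmod; omega⟩, by ring⟩
  have hcard : (d0.X.toFinset.erase one).card = 2 := by
    rw [Finset.card_erase_of_mem (Set.mem_toFinset.2 hmem), ← Nat.card_eq_card_toFinset, d0.card_X]
  obtain ⟨χ2, χ3, hne, hset⟩ := Finset.card_eq_two.1 hcard
  have hrel1 := d0.rel θ hθ 1 (by rw [orderOf_one]; norm_num)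
  rw [finsum_mem_eq_toFinset_sum, ← Finset.add_sum_erase _ _ (Set.mem_toFinset.2 hmem), hεone,
    hset, Finset.sum_pair hne, H12.irr_apply_one, H12.irr_apply_one, H12.irr_apply_one,
    H12.irr_apply_one, honed] at hrel1
  have hrel2 : d0.ε * (H12.degree (θ : G → ℂ) : ℤ) =
      1 + (d0.εX χ2 * (H12.degree (χ2 : G → ℂ) : ℤ) + d0.εX χ3 * (H12.degree (χ3 : G → ℂ) : ℤ)) := by
    have h3 : ((d0.ε * (H12.degree (θ : G → ℂ) : ℤ) : ℤ) : ℂ) =
        ((1 + (d0.εX χ2 * (H12.degree (χ2 : G → ℂ) : ℤ) + d0.εX χ3 * (H12.degree (χ3 : G → ℂ) : ℤ)) : ℤ) : ℂ) := by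
      push_cast
      linear_combination hrel1
    exact_mod_cast h3
  have key : ∀ x ∈ LX, ∀ y ∈ LX, (1 + (x + y)) ∉ LY := by decide +kernel
  exact key _ (hT χ2 (by simp [hset])) _ (hT χ3 (by simp [hset])) (hrel2 ▸ hY)

end AltSeven
end H62
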