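/-
A simple group of order 2520 has a subgroup of index seven.
-/
import Cfsg.Agent.H62.AltSevenChar

set_option autoImplicit false
set_option linter.unusedSectionVars false
set_option linter.style.haveILetI false

open Cfsg

namespace H62
namespace AltSeven

open Subgroup

universe u

variable {G : Type u} [Group G] [Fintype G] [IsSimpleGroup G]

/-- The dimension of the fixed space of a subgroup. -/
theorem sum_eq_card_mul_finrank {n : ℕ} (ρ : Representation ℂ G (Fin n → ℂ)) (H : Subgroup G)
    (S : Finset G) (hS : ∀ g, g ∈ S ↔ g ∈ H) :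
    ∑ g ∈ S, ρ.character g =
      (Nat.card H : ℂ) * (Module.finrank ℂ (Representation.invariants (ρ.comp H.subtype)) : ℂ) := by
  classical
  haveI := Fintype.ofFinite H
  have hne : (Nat.card H : ℂ) ≠ 0 := Nat.cast_ne_zero.2 Nat.card_pos.ne'
  haveI : Invertible (Nat.card H : ℂ) := invertibleOfNonzero hne
  rw [← Representation.card_inv_mul_sum_char_eq_finrank (ρ.comp H.subtype), ← mul_assoc,
    mul_inv_cancel₀ hne, one_mul, Finset.sum_subtype S hS (fun g => ρ.character g)]
  rfl

theorem false_of_hyp (hh : Hyp G) : False := by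
  classical
  haveI : Fact (Nat.Prime 3) := ⟨Nat.prime_three⟩
  haveI : Fact (Nat.Prime 2) := ⟨Nat.prime_two⟩
  have hG := hh.notComm
  obtain ⟨P, R, a, t, V, v, z, F⟩ := exists_frame' hh
  set K := normalizer ((P : Subgroup G) : Set G) with hK
  have hKc : Nat.card K = 36 := card_normalizer_three hh P
  -- elements of the normaliser outside the Sylow subgroup
  have hout : ∀ g ∈ K, g ∉ (P : Subgroup G) → orderOf g = 2 ∨ orderOf g = 4 := by
    intro g hg hgP
    have hd36 : orderOf g ∣ 36 := by
      have := orderOf_dvd_natCard (⟨g, hg⟩ : K)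
      rwa [orderOf_mk, hKc] at this
    have h3 : ¬ 3 ∣ orderOf g := by
      intro h3
      set d := g ^ (orderOf g / 3)
      have hd : orderOf d = 3 := orderOf_pow_orderOf_div (orderOf_pos g).ne' h3
      obtain ⟨P', hP'⟩ := (IsPGroup.of_card (p := 3) (n := 1)
        (by rw [Nat.card_zpowers, hd, pow_one]) : IsPGroup 3 (zpowers d)).exists_le_sylow
      have hdP : d ∈ (P : Subgroup G) := mem_of_normalize hh P P' (hP' (mem_zpowers d)) (pow_mem hg _)
      by_cases h2 : 2 ∣ orderOf g
      · set j := g ^ (orderOf g / 2)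
        have hj : orderOf j = 2 := orderOf_pow_orderOf_div (orderOf_pos g).ne' h2
        have hjd : Commute j d := (Commute.refl g).pow_pow _ _
        obtain ⟨R', hp⟩ := F.pair_of_commute hj hd hjd P hdP
        have hjP : j ∈ (P : Subgroup G) := by
          rw [← hp.spec.2]
          exact ⟨mem_centralizer_singleton_iff.2 hjd.eq, pow_mem hg _⟩
        have h1 := orderOf_dvd_natCard (⟨j, hjP⟩ : (P : Subgroup G))
        rw [orderOf_mk, card_three hh P, hj] at h1
        norm_num at h1
      · have h9 : orderOf g ∣ 3 ^ 2 := by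
          have hc : Nat.Coprime (orderOf g) 4 :=
            Nat.Coprime.pow_right 2 ((Nat.prime_two.coprime_iff_not_dvd).2 h2).symm
          exact hc.dvd_of_dvd_mul_right (show orderOf g ∣ 3 ^ 2 * 4 from hd36)
        obtain ⟨i, -, hi⟩ := (Nat.dvd_prime_pow Nat.prime_three).1 h9
        obtain ⟨P'', hP''⟩ := (IsPGroup.of_card (p := 3) (n := i)
          (by rw [Nat.card_zpowers, hi]) : IsPGroup 3 (zpowers g)).exists_le_sylow
        exact hgP (mem_of_normalize hh P P'' (hP'' (mem_zpowers g)) hg)
    have h4 : orderOf g ∣ 4 := by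
      have hc : Nat.Coprime (orderOf g) 9 :=
        Nat.Coprime.pow_right 2 ((Nat.prime_three.coprime_iff_not_dvd).2 h3).symm
      exact hc.dvd_of_dvd_mul_left (show orderOf g ∣ 9 * 4 from hd36)
    have hg1 : orderOf g ≠ 1 := fun h => hgP (by rw [orderOf_eq_one_iff.1 h]; exact one_mem _)
    have := Nat.le_of_dvd (by norm_num) h4
    interval_cases h : orderOf g <;> omega
  -- an element of order four of the normaliser
  obtain ⟨q, hqK, hqo⟩ : ∃ q ∈ K, orderOf q = 4 := by
    by_contra hno
    push Not at hno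
    obtain ⟨U⟩ := (inferInstance : Nonempty (Sylow 2 K))
    have hUc : Nat.card (U : Subgroup K) = 4 := by
      simpa using card_sylow_coe (a := 2) (m := 9) (by rw [hKc]; norm_num) (by decide) U
    have hinv : ∀ u : (U : Subgroup K), u ≠ 1 → ∀ x ∈ (P : Subgroup G),
        ((u : K) : G) * x * ((u : K) : G)⁻¹ = x⁻¹ := by
      intro u hu x hx
      set j : G := ((u : K) : G)
      have hjP : j ∉ (P : Subgroup G) := by
        intro h
        have h1 := orderOf_dvd_natCard (⟨j, h⟩ : (P : Subgroup G))
        have h2 := orderOf_dvd_natCard u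
        rw [orderOf_mk, card_three hh P, orderOf_coe, orderOf_coe] at h1
        rw [hUc] at h2
        exact hu (orderOf_eq_one_iff.1 (Nat.dvd_one.1 ((show Nat.gcd 9 4 = 1 by norm_num) ▸ Nat.dvd_gcd h1 h2)))
      have hj : orderOf j = 2 := (hout j (u : K).2 hjP).resolve_right (hno j (u : K).2)
      have hjj : j * j = 1 := by rw [← sq, ← hj, pow_orderOf_eq_one]
      have hji : j⁻¹ = j := inv_eq_of_mul_eq_one_right hjj
      have hx' : j * x * j⁻¹ ∈ (P : Subgroup G) := (mem_normalizer_iff.1 (u : K).2 x).1 hx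
      set y := x * (j * x * j⁻¹)
      have hy : y ∈ (P : Subgroup G) := mul_mem hx hx'
      have hjy : Commute j y := by
        show j * y = y * j
        have h1 : j * x * j⁻¹ * x = x * (j * x * j⁻¹) := mul_comm_three hh P hx' hx
        calc j * y = (j * x * j⁻¹) * (j * j * x * (j * j)⁻¹) * j := by simp only [y]; group
          _ = y * j := by rw [hjj, one_mul, inv_one, mul_one, h1]
      by_cases hy1 : y = 1
      · exact eq_inv_of_mul_eq_one_right hy1
      exfalso
      have hy9 : orderOf y ∣ 3 ^ 2 := by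
        have := orderOf_dvd_natCard (⟨y, hy⟩ : (P : Subgroup G))
        rwa [orderOf_mk, card_three hh P] at this
      obtain ⟨i, -, hi⟩ := (Nat.dvd_prime_pow Nat.prime_three).1 hy9
      have h3 : 3 ∣ orderOf y := by
        rcases Nat.eq_zero_or_pos i with h | h
        · rw [h, pow_zero] at hi
          exact absurd (orderOf_eq_one_iff.1 hi) hy1
        · rw [hi]; exact dvd_pow_self 3 (by omega)
      set d := y ^ (orderOf y / 3)
      have hd : orderOf d = 3 := orderOf_pow_orderOf_div (orderOf_pos y).ne' h3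
      obtain ⟨R', hp⟩ := F.pair_of_commute hj hd (hjy.pow_right _) P (pow_mem hy _)
      exact hjP (hp.spec.2 ▸ ⟨mem_centralizer_singleton_iff.2 (hjy.pow_right _).eq, (u : K).2⟩)
    haveI := Fintype.ofFinite (U : Subgroup K)
    obtain ⟨u, w, hu, hw, huw⟩ : ∃ u w : (U : Subgroup K), u ≠ 1 ∧ w ≠ 1 ∧ u ≠ w := by
      have hc : 1 < ((Finset.univ : Finset (U : Subgroup K)).erase 1).card := by
        rw [Finset.card_erase_of_mem (Finset.mem_univ _), Finset.card_univ, ← Nat.card_eq_fintype_card, hUc]
        norm_num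
      obtain ⟨u, hu, w, hw, hne⟩ := Finset.one_lt_card.1 hc
      exact ⟨u, w, Finset.ne_of_mem_erase hu, Finset.ne_of_mem_erase hw, hne⟩
    set g : G := ((u : K) : G)⁻¹ * ((w : K) : G)
    have hgC : g ∈ centralizer ((P : Subgroup G) : Set G) := by
      rw [mem_centralizer_iff]
      intro x hx
      have h1 := hinv u hu x hx
      have h2 := hinv w hw x hx
      have h3 : ((u : K) : G) * x * ((u : K) : G)⁻¹ = ((w : K) : G) * x * ((w : K) : G)⁻¹ := h1.trans h2.symm
      calc x * g = ((u : K) : G)⁻¹ * (((u : K) : G) * x * ((u : K) : G)⁻¹) * ((w : K) : G) := by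
            simp only [g]; group
        _ = g * x := by rw [h3]; simp only [g]; group
    rw [centralizer_three hh P] at hgC
    have h1 := orderOf_dvd_natCard (⟨g, hgC⟩ : (P : Subgroup G))
    have h2 := orderOf_dvd_natCard (u⁻¹ * w)
    rw [orderOf_mk, card_three hh P] at h1
    rw [hUc, ← orderOf_coe, ← orderOf_coe] at h2
    simp only [Subgroup.coe_mul, InvMemClass.coe_inv] at h2
    have hg1 : g = 1 := orderOf_eq_one_iff.1
      (Nat.dvd_one.1 ((show Nat.gcd 9 4 = 1 by norm_num) ▸ Nat.dvd_gcd h1 h2))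
    exact huw (Subtype.ext (Subtype.ext (inv_mul_eq_one.1 hg1)))
  -- the Sylow 2-subgroup through it
  have hZ4 : Nat.card (zpowers q) = 4 := by rw [Nat.card_zpowers, hqo]
  obtain ⟨T, hT⟩ := (IsPGroup.of_card (p := 2) (n := 2) (by rw [hZ4]; rfl) :
    IsPGroup 2 (zpowers q)).exists_le_sylow
  have hTc : Nat.card (T : Subgroup G) = 8 := by
    simpa using card_sylow_coe (a := 3) (m := 315) (by rw [hh.card_eq]; norm_num) (by decide) T
  have hqT : q ∈ (T : Subgroup G) := hT (mem_zpowers q)
  have hq2 : orderOf (q * q) = 2 := by rw [← sq, orderOf_pow, hqo]; rfl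
  -- the character and the representation
  obtain ⟨χ, hχ1, hχ6⟩ := F.exists_six
  obtain ⟨n, ρ, -, hval⟩ := χ.2
  have hv4 : ∀ g : G, orderOf g = 4 → (χ : G → ℂ) g = 0 := fun g hg => (F.values χ hχ1 (Or.inr hχ6) hg).2.1
  have hv2 : ∀ g : G, orderOf g = 2 → (χ : G → ℂ) g = 2 := by
    intro g hg
    obtain ⟨c, hc⟩ := isConj_iff.1 ((F.isConj_z hq2).symm.trans (F.isConj_z hg))
    rw [← hc, H12.irr_isClassFunction χ (q * q) c]
    exact (F.values χ hχ1 (Or.inr hχ6) hqo).2.2
  have hv1 : (χ : G → ℂ) 1 = 6 := by rw [H12.irr_apply_one, hχ6]; norm_num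
  -- the fixed space of the cyclic subgroup
  let SQ : Finset G := Finset.univ.filter fun g => g ∈ zpowers q
  let ST : Finset G := Finset.univ.filter fun g => g ∈ (T : Subgroup G)
  have hnot4 : ∀ x ∈ (T : Subgroup G), x ∉ zpowers q → orderOf x = 2 := by
    intro x hx hxq
    have hd : orderOf x ∣ 2 ^ 3 := by
      have := orderOf_dvd_natCard (⟨x, hx⟩ : (T : Subgroup G))
      rwa [orderOf_mk, hTc] at this
    obtain ⟨i, hi, hie⟩ := (Nat.dvd_prime_pow Nat.prime_two).1 hd
    interval_cases i
    · exact absurd (by rw [orderOf_eq_one_iff.1 hie]; exact one_mem _) hxq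
    · exact hie
    · exfalso
      rcases F.four_in_sylow T hqT hqo hx hie with h | h
      · exact hxq (h ▸ mem_zpowers q)
      · exact hxq (h ▸ inv_mem (mem_zpowers q))
    · exfalso
      have hx2 : orderOf (x * x) = 4 := by rw [← sq, orderOf_pow, hie]; rfl
      have h4 := card_dvd_of_le (show zpowers x ≤ centralizer ({x * x} : Set G) from
        zpowers_le.2 (mem_centralizer_singleton_iff.2 (by group)))
      rw [Nat.card_zpowers, hie, F.card_centralizer_four hx2] at h4
      norm_num at h4
  have hQelts : ∀ x ∈ zpowers q, x = 1 ∨ x = q * q ∨ orderOf x = 4 := by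
    intro x hx
    rw [mem_zpowers_iff_mem_range_orderOf, hqo] at hx
    obtain ⟨i, hi, rfl⟩ := Finset.mem_image.1 hx
    rw [Finset.mem_range] at hi
    interval_cases i
    · exact Or.inl (pow_zero q)
    · exact Or.inr (Or.inr (by rw [pow_one, hqo]))
    · exact Or.inr (Or.inl (sq q))
    · exact Or.inr (Or.inr (by rw [Nat.Coprime.orderOf_pow (by rw [hqo]; norm_num), hqo]))
  have hsumQ : ∑ g ∈ SQ, ρ.character g = 8 := by
    have h1 : (1 : G) ∈ SQ := by simp [SQ, one_mem]
    have h2 : q * q ∈ SQ.erase 1 := Finset.mem_erase.2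
      ⟨fun h => by rw [h, orderOf_one] at hq2; omega, by simp [SQ, mul_mem, mem_zpowers]⟩
    rw [hval, ← Finset.add_sum_erase _ _ h1, ← Finset.add_sum_erase _ _ h2, hv1, hv2 _ hq2,
      Finset.sum_eq_zero fun x hx => hv4 x ?_]
    · norm_num
    simp only [SQ, Finset.mem_erase, Finset.mem_filter, Finset.mem_univ, true_and] at hx
    rcases hQelts x hx.2.2 with h | h | h
    · exact absurd h hx.2.1
    · exact absurd h hx.1
    · exact h
  have hsub : SQ ⊆ ST := fun x hx => by
    simp only [SQ, ST, Finset.mem_filter, Finset.mem_univ, true_and] at hx ⊢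
    exact hT hx
  have hcardS : ∀ (H : Subgroup G), (Finset.univ.filter fun g => g ∈ H).card = Nat.card H := fun H => by
    rw [← Fintype.card_subtype, ← Nat.card_eq_fintype_card]
  have hsumT : ∑ g ∈ ST, ρ.character g = 16 := by
    rw [← Finset.sum_sdiff hsub, hsumQ, hval, Finset.sum_congr rfl (fun x hx => hv2 x ?_), Finset.sum_const,
      Finset.card_sdiff_of_subset hsub, hcardS, hcardS, hTc, hZ4]
    · norm_num
    simp only [ST, SQ, Finset.mem_sdiff, Finset.mem_filter, Finset.mem_univ, true_and] at hx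
    exact hnot4 x hx.1 hx.2
  -- fixed spaces
  let I : Subgroup G → Submodule ℂ (Fin n → ℂ) := fun H => Representation.invariants (ρ.comp H.subtype)
  have hmem : ∀ (H : Subgroup G) (w : Fin n → ℂ), w ∈ I H ↔ ∀ g ∈ H, ρ g w = w := fun H w =>
    ⟨fun h g hg => h ⟨g, hg⟩, fun h g => h g g.2⟩
  have hIQ : Module.finrank ℂ (I (zpowers q)) = 2 := by
    have h := sum_eq_card_mul_finrank ρ (zpowers q) SQ (fun g => by simp [SQ])
    rw [hsumQ, hZ4] at h
    have : ((4 * 2 : ℕ) : ℂ) = ((4 * Module.finrank ℂ (I (zpowers q)) : ℕ) : ℂ) := by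
      simp only [I]; push_cast at h ⊢; linear_combination h
    have := (Nat.cast_injective (R := ℂ)) this
    omega
  have hIT : Module.finrank ℂ (I (T : Subgroup G)) = 2 := by
    have h := sum_eq_card_mul_finrank ρ (T : Subgroup G) ST (fun g => by simp [ST])
    rw [hsumT, hTc] at h
    have : ((8 * 2 : ℕ) : ℂ) = ((8 * Module.finrank ℂ (I (T : Subgroup G)) : ℕ) : ℂ) := by
      simp only [I]; push_cast at h ⊢; linear_combination h
    have := (Nat.cast_injective (R := ℂ)) this
    omega
  have hle : I (T : Subgroup G) ≤ I (zpowers q) := fun w hw =>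
    (hmem _ w).2 fun g hg => (hmem _ w).1 hw g (hT hg)
  have hTQ : I (T : Subgroup G) = I (zpowers q) :=
    Submodule.eq_of_le_of_finrank_le hle (by rw [hIT, hIQ])
  have hIK : I K ≠ ⊥ := by
    intro h
    have hK0 := sum_eq_card_mul_finrank ρ K (Finset.univ.filter fun g => g ∈ K) (fun g => by simp)
    rw [show Representation.invariants (ρ.comp K.subtype) = I K from rfl, h, finrank_bot] at hK0
    have hP0 := sum_eq_card_mul_finrank ρ (P : Subgroup G) (Finset.univ.filter fun g => g ∈ (P : Subgroup G))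
      (fun g => by simp)
    have hsubP : (Finset.univ.filter fun g => g ∈ (P : Subgroup G)) ⊆
        (Finset.univ.filter fun g => g ∈ K) := fun x hx => by
      simp only [Finset.mem_filter, Finset.mem_univ, true_and] at hx ⊢
      exact Subgroup.le_normalizer hx
    rw [← Finset.sum_sdiff hsubP, hP0, hval] at hK0
    have hqq : q * q ∈ (Finset.univ.filter fun g => g ∈ K) \
        (Finset.univ.filter fun g => g ∈ (P : Subgroup G)) := by
      simp only [Finset.mem_sdiff, Finset.mem_filter, Finset.mem_univ, true_and]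
      refine ⟨mul_mem hqK hqK, fun h => ?_⟩
      have h1 := orderOf_dvd_natCard (⟨q * q, h⟩ : (P : Subgroup G))
      rw [orderOf_mk, card_three hh P, hq2] at h1
      norm_num at h1
    have hnat : ∀ x ∈ (Finset.univ.filter fun g => g ∈ K) \
        (Finset.univ.filter fun g => g ∈ (P : Subgroup G)),
        (χ : G → ℂ) x = ((if orderOf x = 2 then 2 else 0 : ℕ) : ℂ) := by
      intro x hx
      simp only [Finset.mem_sdiff, Finset.mem_filter, Finset.mem_univ, true_and] at hx
      rcases hout x hx.1 hx.2 with h | h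
      · rw [if_pos h, hv2 x h]; norm_num
      · rw [if_neg (by omega), hv4 x h]; norm_num
    rw [Finset.sum_congr rfl hnat, ← Nat.cast_sum, ← Nat.cast_mul, ← Nat.cast_mul, ← Nat.cast_add,
      mul_zero] at hK0
    have h0 := (Nat.cast_injective (R := ℂ)) hK0
    have hge := Finset.single_le_sum (f := fun x : G => if orderOf x = 2 then 2 else 0)
      (fun i _ => Nat.zero_le _) hqq
    simp only [if_pos hq2] at hge
    omega
  obtain ⟨w, hw, hw0⟩ := Submodule.exists_mem_ne_zero_of_ne_bot hIK
  let H : Subgroup G :=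
    { carrier := {g | ρ g w = w}
      one_mem' := by simp
      mul_mem' := fun {x y} hx hy => by
        show ρ (x * y) w = w
        rw [map_mul, Module.End.mul_apply, show ρ y w = w from hy, show ρ x w = w from hx]
      inv_mem' := fun {x} hx => by
        show ρ x⁻¹ w = w
        conv_lhs => rw [← show ρ x w = w from hx]
        rw [← Module.End.mul_apply, ← map_mul, inv_mul_cancel, map_one]
        rfl }
  have hKH : K ≤ H := fun g hg => (hmem K w).1 hw g hg
  have hwT : w ∈ I (T : Subgroup G) := by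
    rw [hTQ, hmem]
    intro g hg
    exact (hmem K w).1 hw g ((zpowers_le.2 hqK) hg)
  have hTH : (T : Subgroup G) ≤ H := fun g hg => (hmem _ w).1 hwT g hg
  have hHt : H ≠ ⊤ := by
    intro h
    have h0 := sum_eq_card_mul_finrank ρ (⊤ : Subgroup G) Finset.univ (fun g => by simp)
    have hs : ∑ g : G, ρ.character g = 0 := by
      have h1 := H12.Glauberman.irr_sum_mul_conj χ (H12.oneIrr G)
      rw [if_neg hχ1] at h1
      rw [← h1, hval]
      exact Finset.sum_congr rfl fun g _ => by rw [H12.oneIrr_apply, map_one, mul_one]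
    rw [hs] at h0
    have hfin : Module.finrank ℂ (I ⊤) = 0 := by
      rcases mul_eq_zero.1 h0.symm with h1 | h1
      · exact absurd h1 (Nat.cast_ne_zero.2 Nat.card_pos.ne')
      · exact_mod_cast h1
    have hbot := Submodule.finrank_eq_zero.1 hfin
    have hwI : w ∈ I ⊤ := (hmem _ w).2 fun g _ => show g ∈ H by rw [h]; exact mem_top g
    rw [hbot, Submodule.mem_bot] at hwI
    exact hw0 hwI
  obtain ⟨hHd, hH315⟩ := hh.proper H hHt
  have h36 : 36 ∣ Nat.card H := hKc ▸ card_dvd_of_le hKH
  have h8 : 8 ∣ Nat.card H := hTc ▸ card_dvd_of_le hTH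
  obtain ⟨k, hk, hk3⟩ := H70.sylow_count_in P H (Subgroup.le_normalizer.trans hKH)
  rw [← hK, inf_eq_right.2 hKH, hKc] at hk
  have key : ∀ k ∈ Finset.range 9, 36 * k ∣ 2520 → 8 ∣ 36 * k → k % 3 = 1 → False := by decide
  exact key k (Finset.mem_range.2 (by omega)) (by rw [mul_comm, ← hk]; exact hHd)
    (by rw [mul_comm, ← hk]; exact h8) hk3

/-- A simple group of order `2520` is the alternating group of degree seven. -/
theorem iso_of_card {G : Type u} [Group G] [Finite G] [IsSimpleGroup G] (hn : Nat.card G = 2520) :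
    Nonempty (G ≃* ↥(alternatingGroup (Fin 7))) := by
  haveI := Fintype.ofFinite G
  by_contra hne
  exact false_of_hyp ⟨hn, fun H hH => hne (iso_of_index_seven hn H hH)⟩

end AltSeven
end H62
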