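import Cfsg.Agent.H67.CAIdent
import Cfsg.Agent.H37.SmallIsoBase
import Cfsg.Agent.H62.Basic

/-!
# Recognition of `PSL(2, 2 ^ s)` from element counts
-/

set_option autoImplicit false
set_option linter.unusedSectionVars false

namespace H62

open Subgroup

variable {G : Type*} [Group G]

theorem eq_one_of_pow_coprime {g : G} {a b : ℕ} (hab : Nat.Coprime a b) (ha : g ^ a = 1)
    (hb : g ^ b = 1) : g = 1 := by
  have := pow_gcd_eq_one.2 ⟨ha, hb⟩
  rwa [hab.gcd_eq_one, pow_one] at this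

/-- If the counts of three kinds of elements add up to all nontrivial elements, every element is
of one of the three kinds. -/
theorem cover_of_count [Finite G] {k₁ k₂ k₃ n₁ n₂ n₃ : ℕ} (h12 : Nat.Coprime k₁ k₂)
    (h13 : Nat.Coprime k₁ k₃) (h23 : Nat.Coprime k₂ k₃)
    (c₁ : n₁ ≤ Nat.card {g : G // g ≠ 1 ∧ g ^ k₁ = 1})
    (c₂ : n₂ ≤ Nat.card {g : G // g ≠ 1 ∧ g ^ k₂ = 1})
    (c₃ : n₃ ≤ Nat.card {g : G // g ≠ 1 ∧ g ^ k₃ = 1})
    (hn : Nat.card G ≤ n₁ + n₂ + n₃ + 1) (g : G) :
    g ^ k₁ = 1 ∨ g ^ k₂ = 1 ∨ g ^ k₃ = 1 := by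
  by_contra hg
  simp only [not_or] at hg
  let f : (({g : G // g ≠ 1 ∧ g ^ k₁ = 1} ⊕ {g : G // g ≠ 1 ∧ g ^ k₂ = 1}) ⊕
      {g : G // g ≠ 1 ∧ g ^ k₃ = 1}) ⊕ Bool → G :=
    Sum.elim (Sum.elim (Sum.elim Subtype.val Subtype.val) Subtype.val) (fun b => if b then g else 1)
  have hinj : Function.Injective f := by
    have e1 : ∀ {a b : ℕ}, Nat.Coprime a b → ∀ (x : {g : G // g ≠ 1 ∧ g ^ a = 1})
        (y : {g : G // g ≠ 1 ∧ g ^ b = 1}), x.1 ≠ y.1 := fun hab x y e =>
      x.2.1 (eq_one_of_pow_coprime hab x.2.2 (e ▸ y.2.2))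
    have e2 : ∀ {a : ℕ}, g ^ a ≠ 1 → ∀ (x : {g : G // g ≠ 1 ∧ g ^ a = 1}) (b : Bool),
        x.1 ≠ (if b then g else 1) := fun ha x b e => by
      cases b
      · exact x.2.1 (by simpa using e)
      · exact ha (by rw [show g = x.1 by simpa using e.symm]; exact x.2.2)
    refine Function.Injective.sumElim (Function.Injective.sumElim (Function.Injective.sumElim
      Subtype.val_injective Subtype.val_injective (e1 h12)) Subtype.val_injective ?_) ?_ ?_
    · rintro (x | x) y
      · exact e1 h13 x y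
      · exact e1 h23 x y
    · intro a b hab
      cases a <;> cases b <;> first
        | rfl
        | (exfalso
           simp only [if_true, Bool.false_eq_true, if_false] at hab
           first
             | exact hg.1 (by rw [← hab, one_pow])
             | exact hg.1 (by rw [hab, one_pow]))
    · rintro ((x | x) | x) b
      · exact e2 hg.1 x b
      · exact e2 hg.2.1 x b
      · exact e2 hg.2.2 x b
  have h1 := Nat.card_le_card_of_injective f hinj
  rw [Nat.card_sum, Nat.card_sum, Nat.card_sum, Nat.card_eq_fintype_card (α := Bool),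
    Fintype.card_bool] at h1
  omega

/-- A simple group in which the centralisers of involutions have order `q`, the full power of two,
and in which all elements of `2`-power order square to one is `PSL(2, q)`. -/
theorem iso_PSL_of_centralizers [Finite G] [IsSimpleGroup G] {n q s m : ℕ}
    (hn : Nat.card G = n) (hq : n = 2 ^ s * m) (hm : ¬ 2 ∣ m) (hqs : q = 2 ^ s) (hs : 2 ≤ s)
    (hm1 : 1 < m)
    (hc : ∀ t : G, orderOf t = 2 → Nat.card (centralizer ({t} : Set G)) = q)
    (hexp : ∀ g : G, g ^ q = 1 → g ^ 2 = 1)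
    {F : Type*} [Field F] [Fintype F] (hF : Fintype.card F = q) :
    Nonempty (G ≃* Matrix.ProjectiveSpecialLinearGroup (Fin 2) F) := by
  haveI : Fact (Nat.Prime 2) := ⟨Nat.prime_two⟩
  obtain ⟨T⟩ : Nonempty (Sylow 2 G) := inferInstance
  have hT : Nat.card (T : Subgroup G) = q := (card_sylow_coe (hn.trans hq) hm T).trans hqs.symm
  have hsq : ∀ (K : Subgroup G), Nat.card K = q → ∀ x ∈ K, x ^ 2 = 1 := fun K hK x hx =>
    hexp x (by
      have := pow_card_eq_one' (x := (⟨x, hx⟩ : K))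
      rw [hK] at this
      exact congrArg Subtype.val this)
  have hq4 : 4 ≤ q := hqs ▸ (by
    calc 4 = 2 ^ 2 := rfl
      _ ≤ 2 ^ s := Nat.pow_le_pow_right (by norm_num) hs)
  have hd : H67.CAData T := by
    refine ⟨fun hcyc => ?_, fun hnor => ?_, fun t ht => ⟨⟨⟨fun a b => ?_⟩⟩, hsq _ (hc t ht)⟩⟩
    · obtain ⟨w, hw⟩ := IsCyclic.exists_ofOrder_eq_natCard (α := (T : Subgroup G))
      rw [hT] at hw
      have h1 : orderOf w ∣ 2 := orderOf_dvd_of_pow_eq_one (Subtype.ext (hsq _ hT _ w.2))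
      have := Nat.le_of_dvd (by norm_num) h1
      omega
    · rcases hnor.eq_bot_or_eq_top with h | h
      · rw [h, card_bot] at hT; omega
      · rw [h, card_top, hn, hq, hqs] at hT
        have := Nat.eq_of_mul_eq_mul_left (Nat.two_pow_pos s) (hT.trans (mul_one _).symm)
        omega
    · have hab := hsq _ (hc t ht) _ (mul_mem a.2 b.2)
      have ha := hsq _ (hc t ht) _ a.2
      have hb := hsq _ (hc t ht) _ b.2
      rw [pow_two] at hab ha hb
      apply Subtype.ext
      calc (a : G) * b = ((a : G) * b)⁻¹ := eq_inv_of_mul_eq_one_left hab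
        _ = (b : G) * a := by
          rw [mul_inv_rev, inv_eq_of_mul_eq_one_right ha, inv_eq_of_mul_eq_one_right hb]
  obtain ⟨F', i1, i2, hF', ⟨e⟩⟩ := hd.exists_iso_PSL
  exact ⟨e.trans (H37.pslCongr (FiniteField.ringEquivOfCardEq (hF'.trans (hT.trans hF.symm))))⟩

end H62
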