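import Cfsg.Agent.H62.SelfCentralNumber
import Cfsg.Agent.H62.DihedralCases
import Cfsg.Agent.H62.CAFromCount
import Cfsg.Agent.H62.Intersect
import Cfsg.Agent.H62.PermSylow

/-!
# Simple groups of order `504`
-/

set_option autoImplicit false
set_option linter.unusedSectionVars false

namespace H62

open Subgroup

variable {G : Type*} [Group G] [Finite G]

theorem card_involutions_ge {n q : ℕ} (hn : Nat.card G = n) {t : G} (ht : orderOf t = 2)
    (hc : Nat.card (centralizer ({t} : Set G)) = q) :
    n / q ≤ Nat.card {g : G // g ≠ 1 ∧ g ^ 2 = 1} := by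
  have h := H65.card_class_mul t
  rw [hn, hc] at h
  have hq0 : 0 < q := hc ▸ Nat.card_pos
  rw [← h, Nat.mul_div_cancel _ hq0]
  refine Nat.card_le_card_of_injective (fun x => ⟨x.1, ?_⟩)
    (fun a b e => Subtype.ext (congrArg Subtype.val e :))
  obtain ⟨b, hb⟩ := isConj_iff.1 x.2
  have ho : orderOf x.1 = 2 := by rw [← hb, ← MulAut.conj_apply, MulEquiv.orderOf_eq, ht]
  exact ⟨fun h1 => by rw [h1, orderOf_one] at ho; omega, by rw [← ho]; exact pow_orderOf_eq_one _⟩

theorem card_prime_pow_eq_one_ge {p : ℕ} [hp : Fact p.Prime] (P : Sylow p G)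
    (hP : Nat.card (P : Subgroup G) = p) :
    Nat.card (Sylow p G) * (p - 1) ≤ Nat.card {g : G // g ≠ 1 ∧ g ^ p = 1} := by
  rw [← card_orderOf_eq_prime P hP]
  refine Nat.card_le_card_of_injective (fun x => ⟨x.1, ?_⟩)
    (fun a b e => Subtype.ext (congrArg Subtype.val e :))
  exact ⟨fun h1 => by
    have := x.2
    rw [h1, orderOf_one] at this
    exact hp.out.ne_one this.symm, orderOf_dvd_iff_pow_eq_one.1 (dvd_of_eq x.2)⟩

/-- A simple group of order `504` is `PSL(2, 8)`. -/
theorem iso_PSL_of_card_504 [IsSimpleGroup G] (h : Nat.card G = 504)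
    {F : Type*} [Field F] [Fintype F] (hF : Fintype.card F = 8) :
    Nonempty (G ≃* Matrix.ProjectiveSpecialLinearGroup (Fin 2) F) := by
  classical
  haveI : Fact (Nat.Prime 7) := ⟨by norm_num⟩
  haveI : Fact (Nat.Prime 3) := ⟨Nat.prime_three⟩
  have hG : ¬ IsMulCommutative G := not_comm_of_not_prime (by rw [h]; norm_num)
  have hall : ∀ P : Sylow 7 G, Nat.card (P : Subgroup G) = 7 ∧
      centralizer ((P : Subgroup G) : Set G) = (P : Subgroup G) ∧
      ∃ e ∈ selfCentralIndices (2 ^ 3 * 3 ^ 2 * 7) 7,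
        Nat.card (normalizer ((P : Subgroup G) : Set G)) = 7 * e := fun P =>
    normalizer_threePrimes Nat.prime_two Nat.prime_three (by decide) (by decide) (by decide)
      (h.trans (by norm_num)) (by norm_num) P
  obtain ⟨P⟩ := (inferInstance : Nonempty (Sylow 7 G))
  obtain ⟨hP, hC, e, he, hN⟩ := hall P
  rw [show selfCentralIndices (2 ^ 3 * 3 ^ 2 * 7) 7 = {2} by decide +kernel,
    Finset.mem_singleton] at he
  rw [he] at hN
  obtain ⟨X, hX, D, c, A, hXD, hqc, hA, hAX, -, heq, hc, -⟩ := dihedral_cases (q := 8) (s := 3)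
    (m := 63) hG h hP hC (by rw [hN]) (by norm_num) (by norm_num) (by norm_num) (by norm_num)
  rw [show dihedralCands 504 7 8 = {8} by decide +kernel, Finset.mem_singleton] at hX
  subst hX
  obtain rfl : D = 9 := by rcases hXD with ⟨h1, h2⟩ | ⟨h1, -⟩ <;> omega
  have hc8 : c = 8 := by
    obtain ⟨k, rfl⟩ := hqc
    obtain ⟨h1, h2⟩ := abs_le.1 hA
    have h3 : ((8 : ℤ) - A) ^ 2 = ((8 * k : ℕ) : ℤ) ^ 2 := by
      push_cast at heq ⊢
      linarith
    have h4 : (8 : ℤ) - A = 8 * k := by
      rcases sq_eq_sq_iff_eq_or_eq_neg.1 h3 with h4 | h4 <;> push_cast at h4 <;> omega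
    have : k = 1 ∨ k = 2 := by push_cast at *; omega
    rcases this with rfl | rfl
    · rfl
    · exfalso
      -- then `A = -8`, and the centraliser of an involution would have order `16`
      haveI : Fact (Nat.Prime 2) := ⟨Nat.prime_two⟩
      obtain ⟨t, ht⟩ := exists_prime_orderOf_dvd_card' (G := G) 2 (by rw [h]; norm_num)
      have hd := Subgroup.card_subgroup_dvd_card (centralizer ({t} : Set G))
      rw [hc t ht, h] at hd
      norm_num at hd
  subst hc8
  obtain ⟨t, ht⟩ := exists_prime_orderOf_dvd_card' (G := G) 2 (by rw [h]; norm_num)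
  -- centralisers of elements of three-power order
  have hC3 : ∀ x : G, x ≠ 1 → x ^ 9 = 1 → Nat.card (centralizer ({x} : Set G)) ∣ 9 := by
    intro x hx1 hx9
    have hd := Subgroup.card_subgroup_dvd_card (centralizer ({x} : Set G))
    rw [h] at hd
    have h7 : ¬ 7 ∣ Nat.card (centralizer ({x} : Set G)) := fun h7 => by
      obtain ⟨⟨y, hyx⟩, hy⟩ := exists_prime_orderOf_dvd_card' 7 h7
      rw [Subgroup.orderOf_mk] at hy
      have hxy : x ∈ centralizer ({y} : Set G) :=
        mem_centralizer_singleton_iff.2 (mem_centralizer_singleton_iff.1 hyx).symm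
      rw [centralizer_singleton_eq_zpowers (fun Q => (hall Q).1) (fun Q => (hall Q).2.1) hy] at hxy
      have h1 := pow_card_eq_one' (x := (⟨x, hxy⟩ : zpowers y))
      rw [Nat.card_zpowers, hy] at h1
      exact hx1 (eq_one_of_pow_coprime (by norm_num : Nat.Coprime 9 7) hx9
        (congrArg Subtype.val h1))
    have h2 : ¬ 2 ∣ Nat.card (centralizer ({x} : Set G)) := fun h2 => by
      obtain ⟨⟨y, hyx⟩, hy⟩ := exists_prime_orderOf_dvd_card' 2 h2
      rw [Subgroup.orderOf_mk] at hy
      have hxy : x ∈ centralizer ({y} : Set G) :=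
        mem_centralizer_singleton_iff.2 (mem_centralizer_singleton_iff.1 hyx).symm
      have h1 := pow_card_eq_one' (x := (⟨x, hxy⟩ : centralizer ({y} : Set G)))
      rw [hc y hy] at h1
      exact hx1 (eq_one_of_pow_coprime (by norm_num : Nat.Coprime 9 8) hx9
        (congrArg Subtype.val h1))
    have hcop : Nat.Coprime (Nat.card (centralizer ({x} : Set G))) (8 * 7) :=
      Nat.Coprime.mul_right ((Nat.prime_two.coprime_iff_not_dvd.2 h2).symm.pow_right 3)
        ((Nat.Prime.coprime_iff_not_dvd (by norm_num)).2 h7).symm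
    exact hcop.dvd_of_dvd_mul_left (n := 9) (by norm_num at hd ⊢; exact hd)
  -- the Sylow three-subgroups
  have hn3 := sylow_number (p := 3) (a := 2) (m := 56) hG (h.trans (by norm_num)) (by norm_num)
    (by norm_num) 6 (by rw [h]; decide)
  rw [show (Nat.divisors 56).filter (fun d => d % 3 = 1 ∧ 6 < d) = {7, 28} by decide +kernel,
    Finset.mem_insert, Finset.mem_singleton] at hn3
  have hcard3 : ∀ Q : Sylow 3 G, Nat.card (Q : Subgroup G) = 9 := fun Q => by
    rw [card_sylow_coe (a := 2) (m := 56) (h.trans (by norm_num)) (by norm_num) Q]; norm_num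
  have hn28 : Nat.card (Sylow 3 G) = 28 := by
    refine hn3.resolve_left fun h7 => ?_
    obtain ⟨Q⟩ := (inferInstance : Nonempty (Sylow 3 G))
    set M := normalizer ((Q : Subgroup G) : Set G) with hM
    have hMi : M.index = 7 := (Q.card_eq_index_normalizer.symm.trans h7 :)
    obtain ⟨f, hf⟩ := exists_alternating_embedding hG M (fun hT => by
      rw [hT, index_top] at hMi; omega)
    have hd := two_mul_card_normalizer_dvd ((alternatingGroup (Fin M.index)).subtype.comp f)
      (Subtype.val_injective.comp hf) (fun g => (f g).2) (p := 7) (by norm_num)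
      (by rw [Fintype.card_fin, hMi]) (by rw [Fintype.card_fin, hMi]; norm_num) (P : Subgroup G) hP
    rw [hN, Fintype.card_fin, hMi] at hd
    norm_num at hd
  -- they intersect trivially
  have hTI : ∀ Q R : Sylow 3 G, ∀ x : G, x ∈ (Q : Subgroup G) → x ∈ (R : Subgroup G) → x ≠ 1 →
      Q = R := by
    intro Q R x hxQ hxR hx1
    have hx9 : x ^ 9 = 1 := by
      have := pow_card_eq_one' (x := (⟨x, hxQ⟩ : (Q : Subgroup G)))
      rw [hcard3 Q] at this
      exact congrArg Subtype.val this
    have hle : ∀ Q' : Sylow 3 G, x ∈ (Q' : Subgroup G) →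
        (Q' : Subgroup G) = centralizer ({x} : Set G) := by
      intro Q' hxQ'
      have hab := IsPGroup.isMulCommutative_of_card_eq_prime_sq (p := 3) (G := (Q' : Subgroup G))
        (by rw [hcard3 Q']; norm_num)
      refine eq_of_le_of_card_ge (fun y hy => mem_centralizer_singleton_iff.2
        (congrArg Subtype.val (hab.is_comm.comm ⟨y, hy⟩ ⟨x, hxQ'⟩))) ?_
      rw [hcard3 Q']
      exact Nat.le_of_dvd (by norm_num) (hC3 x hx1 hx9)
    exact Sylow.ext ((hle Q hxQ).trans (hle R hxR).symm)
  have hc9 : 224 ≤ Nat.card {g : G // g ≠ 1 ∧ g ^ 9 = 1} := by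
    let f : (Σ Q : Sylow 3 G, {x : (Q : Subgroup G) // x ≠ 1}) → {g : G // g ≠ 1 ∧ g ^ 9 = 1} :=
      fun x => ⟨((x.2.1 : (x.1 : Subgroup G)) : G), fun h1 => x.2.2 (Subtype.ext h1), by
        have := pow_card_eq_one' (x := (x.2.1 : (x.1 : Subgroup G)))
        rw [hcard3] at this
        exact congrArg Subtype.val this⟩
    have hinj : Function.Injective f := by
      rintro ⟨Q, x, hx⟩ ⟨R, y, hy⟩ hxy
      have hxy' : (x : G) = (y : G) := congrArg Subtype.val hxy
      obtain rfl := hTI Q R x x.2 (hxy' ▸ y.2) (fun h1 => hx (Subtype.ext h1))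
      simp [Subtype.ext hxy']
    have h1 := Nat.card_le_card_of_injective f hinj
    have h2 : ∀ Q : Sylow 3 G, Nat.card {x : (Q : Subgroup G) // x ≠ 1} = 8 := by
      intro Q
      have : Fintype (Q : Subgroup G) := Fintype.ofFinite _
      rw [Nat.card_eq_fintype_card, Fintype.card_subtype_compl, Fintype.card_subtype_eq,
        ← Nat.card_eq_fintype_card, hcard3 Q]
    have : Fintype (Sylow 3 G) := Fintype.ofFinite _
    rw [Nat.card_sigma, Finset.sum_congr rfl (fun Q _ => h2 Q), Finset.sum_const, Finset.card_univ,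
      ← Nat.card_eq_fintype_card, hn28] at h1
    simpa using h1
  have hn7 : Nat.card (Sylow 7 G) = 36 := by
    have := card_normalizer_mul P
    rw [hN, h] at this
    omega
  have hcov := cover_of_count (G := G) (k₁ := 2) (k₂ := 9) (k₃ := 7) (by norm_num) (by norm_num)
    (by norm_num) (card_involutions_ge h ht (hc t ht)) hc9 (card_prime_pow_eq_one_ge P hP)
    (by rw [h, hn7])
  refine iso_PSL_of_centralizers (s := 3) (m := 63) h (by norm_num) (by norm_num) (by norm_num)
    (by norm_num) (by norm_num) hc (fun g hg => ?_) hF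
  rcases hcov g with h1 | h1 | h1
  · exact h1
  · rw [eq_one_of_pow_coprime (by norm_num : Nat.Coprime 8 9) hg h1, one_pow]
  · rw [eq_one_of_pow_coprime (by norm_num : Nat.Coprime 8 7) hg h1, one_pow]

end H62
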