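import Cfsg.Agent.H65.PSLRecognition

/-!
The finite checks for `p = 17, 19, 23`.
-/

set_option autoImplicit false
set_option synthInstance.maxSize 2048
set_option synthInstance.maxHeartbeats 200000

namespace H62

instance instFactPrimeSeventeen : Fact (Nat.Prime 17) := ⟨by norm_num⟩
instance instFactPrimeNineteen : Fact (Nat.Prime 19) := ⟨by norm_num⟩
instance instFactPrimeTwentyThree : Fact (Nat.Prime 23) := ⟨by norm_num⟩

theorem checkW_17 : H65.CheckW (p := 17) 3 [0, 0, 14, 1, 12, 5, 15, 11, 10, 2, 3, 7, 13, 4, 9, 6, 8] none := by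
  unfold H65.CheckW
  decide +kernel

theorem checkW_19 : H65.CheckW (p := 19) 2 [0, 0, 1, 13, 2, 16, 14, 6, 3, 8, 17, 12, 15, 5, 7, 11, 4, 10, 9] none := by
  unfold H65.CheckW
  decide +kernel

theorem checkW_23 : H65.CheckW (p := 23) 5 [0, 0, 2, 16, 4, 1, 18, 19, 6, 10, 3, 9, 20, 14, 21, 17, 8, 7, 12, 15, 5, 13, 11] none := by
  unfold H65.CheckW
  decide +kernel

end H62
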