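/-
No simple group has order 4200, 5400 or 5880.
-/
import Cfsg.Agent.H62.SmallRangeCases
import Cfsg.Agent.H65.BrauerFowler
import Cfsg.Agent.H62.Intersect

set_option autoImplicit false

namespace H62
namespace SmallRange

open Subgroup
open scoped Pointwise

/-- A group of order `25 k` with `k ≡ 2 mod 4` and no admissible divisor of `k / 2` has one Sylow
`5`-subgroup. -/
theorem card_sylow_five_eq_one {M : Type*} [Group M] [Finite M] {k : ℕ} (hk : Nat.card M = 25 * k)
    (h4 : k % 4 = 2) (h5 : ¬ 5 ∣ k) (hd : ∀ d ∈ (k / 2).divisors, d % 5 = 1 → d = 1) :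
    Nat.card (Sylow 5 M) = 1 := by
  haveI : Fact (Nat.Prime 5) := ⟨by norm_num⟩
  obtain ⟨K, hK⟩ := H65.exists_index_two_of_card_mod_four (G := M) (by omega)
  have hKn : K.Normal := Subgroup.normal_of_index_eq_two hK
  have hKc : Nat.card K = 25 * (k / 2) := by
    have h := K.card_mul_index
    rw [hK, hk] at h
    omega
  have h5' : ¬ 5 ∣ k / 2 := fun h => h5 (h.trans (Nat.div_dvd_of_dvd (by omega)))
  have h1 : Nat.card (Sylow 5 K) = 1 :=
    hd _ (Nat.mem_divisors.2 ⟨card_sylow_dvd (a := 2) (by rw [hKc]; norm_num) h5', by omega⟩)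
      card_sylow_mod
  obtain ⟨R⟩ := (inferInstance : Nonempty (Sylow 5 K))
  haveI hRn : (R : Subgroup K).Normal :=
    Subgroup.normalizer_eq_top_iff.1 ((card_sylow_eq_one_iff R).1 h1)
  haveI := R.characteristic_of_normal hRn
  have hn : ((R : Subgroup K).map K.subtype).Normal := inferInstance
  obtain ⟨Q, hQ⟩ := (R.isPGroup'.map K.subtype).exists_le_sylow
  have hQe : (R : Subgroup K).map K.subtype = (Q : Subgroup M) := by
    refine Subgroup.eq_of_le_of_card_ge hQ ?_
    rw [Subgroup.card_map_of_injective K.subtype_injective,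
      card_sylow_coe (a := 2) (m := k / 2) (by rw [hKc]; norm_num) h5' R,
      card_sylow_coe (a := 2) (m := k) (by rw [hk]; norm_num) h5 Q]
  rw [card_sylow_eq_one_iff Q, ← hQe]
  exact normalizer_eq_top_iff.2 hn

variable {G : Type*} [Group G] [Finite G] [IsSimpleGroup G]

theorem card_ne_4200 : Nat.card G ≠ 4200 := by
  intro hn
  have hG : ¬ IsMulCommutative G := not_comm_of_not_prime (hn ▸ by norm_num)
  haveI : Fact (Nat.Prime 5) := ⟨by norm_num⟩
  have hc : Nat.card G = 5 ^ 2 * 168 := by rw [hn]; norm_num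
  have hk := H65.sylow_candidate (p := 5) hG hn (m := 168) (a := 2) (by norm_num) (by norm_num) (by norm_num)
  rw [show (Nat.divisors 168).filter (fun d => d % 5 = 1 ∧ 1 < d ∧ 2 * 4200 ∣ d.factorial) = {21, 56}
    from by decide +kernel] at hk
  obtain ⟨D, M, hD, hM, hMtop, k, d, hMk, hik, hdk, hd1, hd5, hdc⟩ :=
    exists_index_of_not_modEq (p := 5) hc (by norm_num) (le_refl 2) (by
      simp only [Finset.mem_insert, Finset.mem_singleton] at hk
      rcases hk with h | h <;> rw [h] <;> decide)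
  have hi := H65.index_candidate hG hn M hMtop
  have hidx : M.index = 14 ∨ (k % 4 = 2 ∧ ¬ 5 ∣ k ∧ ∀ e ∈ (k / 2).divisors, e % 5 = 1 → e = 1) := by
    have hkd : k ∈ Nat.divisors 168 := Nat.mem_divisors.2 ⟨Dvd.intro_left _ hik, by norm_num⟩
    have key : ∀ k ∈ Nat.divisors 168, ∀ i ∈ (Nat.divisors 4200).filter
        (fun d => 1 < d ∧ 2 * 4200 ∣ d.factorial), i * k = 168 →
        ∀ d ∈ k.divisors, 1 < d → d % 5 = 1 →
        i = 14 ∨ (k % 4 = 2 ∧ ¬ 5 ∣ k ∧ ∀ e ∈ (k / 2).divisors, e % 5 = 1 → e = 1) := by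
      decide +kernel
    exact key k hkd _ hi hik d (Nat.mem_divisors.2 ⟨hdk, fun h => by rw [h] at hkd; simp at hkd⟩) hd1 hd5
  rcases hidx with h14 | ⟨h4, h5, he⟩
  swap
  · have := card_sylow_five_eq_one (M := M) (k := k) (by rw [hMk]; norm_num) h4 h5 he
    omega
  have hMc : Nat.card M = 300 := by
    have := M.card_mul_index
    rw [h14, hn] at this
    omega
  have hpr : ∀ p ∈ [7], p.Prime ∧ p ≠ 2 ∧ p ∣ Nat.card G ∧ Nat.card G % (p * p) ≠ 0 := by
    intro p hp
    rw [List.mem_singleton] at hp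
    subst hp
    rw [hn]; norm_num
  obtain ⟨acc, hacc, hf⟩ := exists_sol hG (H32.ExactSieve.divList [2, 2, 2, 3, 5, 5, 7])
    (fun d hd => H32.ExactSieve.mem_divList _ (by norm_num) d (by simpa [hn] using hd)) [7]
    (by simp) hpr
  rw [hn] at hacc
  have hev : ∃ t ∈ acc, t.1 = 7 ∧ t.2.2 % 2 = 0 := by
    have key : ∀ acc ∈ sols (H32.ExactSieve.divList [2, 2, 2, 3, 5, 5, 7]) 4200 [7] [],
        ∃ t ∈ acc, t.1 = 7 ∧ t.2.2 % 2 = 0 := by decide +kernel
    exact key acc hacc
  obtain ⟨⟨p, k', c'⟩, ht, hp7, hc2⟩ := hev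
  have hF := hf _ ht
  simp only at hp7 hc2
  subst hp7
  haveI : Fact (Nat.Prime 7) := ⟨by norm_num⟩
  haveI : Fact (Nat.Prime 2) := ⟨Nat.prime_two⟩
  obtain ⟨P⟩ := (inferInstance : Nonempty (Sylow 7 G))
  obtain ⟨x, hx, hxo⟩ := H70.exists_mem_orderOf (P : Subgroup G) 7 (by norm_num) (by rw [hF.card_P P])
  obtain ⟨u, hu, huo⟩ := H70.exists_mem_orderOf (centralizer ((P : Subgroup G) : Set G)) 2
    Nat.prime_two (by rw [hF.card_C P]; exact Nat.dvd_of_mod_eq_zero hc2)
  exact false_of_involution hG M hMtop (p := 7) (by norm_num) (by norm_num) (by rw [hMc]; norm_num)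
    (by rw [h14]; norm_num) (by rw [h14]; norm_num) hxo huo (hu x hx)

theorem card_ne_5880 : Nat.card G ≠ 5880 := by
  intro hn
  have hG : ¬ IsMulCommutative G := not_comm_of_not_prime (hn ▸ by norm_num)
  haveI : Fact (Nat.Prime 7) := ⟨by norm_num⟩
  have hc : Nat.card G = 7 ^ 2 * 120 := by rw [hn]; norm_num
  obtain ⟨Q⟩ := (inferInstance : Nonempty (Sylow 7 G))
  have hQ : Nat.card (Q : Subgroup G) = 7 ^ 2 := card_sylow_coe hc (by norm_num) Q
  have hab : IsMulCommutative (Q : Subgroup G) := IsPGroup.isMulCommutative_of_card_eq_prime_sq hQ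
  have hk := H65.sylow_candidate (p := 7) hG hn (m := 120) (a := 2) (by norm_num) (by norm_num) (by norm_num)
  rw [show (Nat.divisors 120).filter (fun d => d % 7 = 1 ∧ 1 < d ∧ 2 * 5880 ∣ d.factorial) = {15, 120}
    from by decide +kernel] at hk
  have hlt := card_sylow_lt_card_normalizer hG (hn ▸ by norm_num) Q hab
  have hN := card_normalizer_mul Q
  have hk15 : Nat.card (Sylow 7 G) = 15 := by
    simp only [Finset.mem_insert, Finset.mem_singleton] at hk
    rcases hk with h | h
    · exact h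
    · rw [h, hn] at hN
      rw [hQ] at hlt
      omega
  set H := normalizer ((Q : Subgroup G) : Set G) with hH
  have hHi : H.index = 15 := by rw [← hk15]; exact Q.card_eq_index_normalizer.symm
  have hHc : Nat.card H = 392 := by rw [hk15, hn] at hN; omega
  have hHtop : H ≠ ⊤ := fun h => by rw [h, index_top] at hHi; omega
  have hpr : ∀ p ∈ [5, 3], p.Prime ∧ p ≠ 2 ∧ p ∣ Nat.card G ∧ Nat.card G % (p * p) ≠ 0 := by
    intro p hp
    fin_cases hp <;> rw [hn] <;> norm_num
  have hD : ∀ d, d ∣ Nat.card G → d ∈ H32.ExactSieve.divList [2, 2, 2, 3, 5, 7, 7] :=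
    fun d hd => H32.ExactSieve.mem_divList _ (by norm_num) d (by simpa [hn] using hd)
  obtain ⟨acc, hacc, hf⟩ := exists_sol hG _ hD [5, 3] (by simp) hpr
  rw [hn] at hacc
  have key : ∀ acc ∈ sols (H32.ExactSieve.divList [2, 2, 2, 3, 5, 7, 7]) 5880 [5, 3] [],
      (acc.any (badCand (H32.ExactSieve.divList [2, 2, 2, 3, 5, 7, 7]) [7] 5880) = true) ∨
        ((5, 196, 15) ∈ acc ∧ (3, 196, 15) ∈ acc) := by decide +kernel
  rcases key acc hacc with hbad | ⟨h5, h3⟩
  · obtain ⟨⟨p, k, c⟩, ht, hb⟩ := List.any_eq_true.1 hbad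
    have hF := hf _ ht
    simp only [badCand, Bool.or_eq_true, Bool.and_eq_true, beq_iff_eq, List.any_eq_true,
      decide_eq_true_eq, bne_iff_ne] at hb
    rcases hb with (hb | ⟨q, hq, ⟨hqp, hqc⟩, hkq⟩) | ⟨h8, -⟩
    · exact false_of_blockDead hG (by rw [hn]; decide) hD hF (by rw [hn]; exact hb)
    · rw [List.mem_singleton] at hq
      subst hq
      haveI := Fact.mk hF.prime
      obtain ⟨P⟩ := (inferInstance : Nonempty (Sylow p G))
      exact false_of_orbit hG hF (hF.card_P P ▸ Subgroup.card_subgroup_dvd_card _) (by norm_num) hqp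
        (Nat.dvd_of_mod_eq_zero hqc) hkq
    · norm_num at h8
  have hF5 : H32.ExactSieve.Facts G 5 196 15 := hf _ h5
  have hF3 : H32.ExactSieve.Facts G 3 196 15 := hf _ h3
  haveI : Fact (Nat.Prime 5) := ⟨by norm_num⟩
  haveI : Fact (Nat.Prime 3) := ⟨Nat.prime_three⟩
  haveI : Fact (Nat.Prime 2) := ⟨Nat.prime_two⟩
  obtain ⟨P⟩ := (inferInstance : Nonempty (Sylow 5 G))
  set C := centralizer ((P : Subgroup G) : Set G) with hC
  have hCc : Nat.card C = 15 := hF5.card_C P
  have hfree : ∀ c ∈ C, ∀ α : G ⧸ H, c • α = α → c = 1 := by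
    intro c hc α hα
    by_contra hc1
    obtain ⟨r, hr, hrd⟩ := Nat.exists_prime_and_dvd (fun h => hc1 (orderOf_eq_one_iff.1 h))
    have hr15 : r ∣ 15 := hrd.trans (by
      have := orderOf_dvd_natCard (⟨c, hc⟩ : C); rwa [orderOf_mk, hCc] at this)
    have hrH : ¬ r ∣ Nat.card H := by
      intro h
      rw [hHc] at h
      exact hr.ne_one (Nat.dvd_one.1 ((show Nat.gcd 15 392 = 1 by norm_num) ▸ Nat.dvd_gcd hr15 h))
    refine fixed_none H hr (orderOf_pow_orderOf_div (orderOf_pos c).ne' hrd) hrH α ?_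
    have hpow : ∀ j : ℕ, c ^ j • α = α := by
      intro j
      induction j with
      | zero => simp
      | succ j ih => rw [pow_succ, mul_smul, hα, ih]
    exact hpow _
  have hNc : Nat.card (normalizer ((P : Subgroup G) : Set G)) = 30 := by
    have := card_normalizer_mul P
    rw [hF5.card_sylow, hn] at this
    omega
  obtain ⟨t, ht, hto⟩ := H70.exists_mem_orderOf (normalizer ((P : Subgroup G) : Set G)) 2 Nat.prime_two
    (by rw [hNc]; norm_num)
  obtain ⟨hlt', h4⟩ := H65.involution_fixedBy hG H hHtop hto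
  rw [hHi] at hlt' h4
  obtain ⟨α, β, hne⟩ : ∃ α β : MulAction.fixedBy (G ⧸ H) t, α ≠ β := by
    haveI : Nontrivial (MulAction.fixedBy (G ⧸ H) t) :=
      Finite.one_lt_card_iff_nontrivial.1 (by omega)
    exact exists_pair_ne _
  have hα : t • (α : G ⧸ H) = α := α.2
  have hβ : t • (β : G ⧸ H) = β := β.2
  let f : C → G ⧸ H := fun c => (c : G) • (α : G ⧸ H)
  have hinj : Function.Injective f := by
    intro a b hab
    apply Subtype.ext
    have := hfree _ (mul_mem (inv_mem b.2) a.2) α (by
      rw [mul_smul]; simp only [f] at hab; rw [hab, inv_smul_smul])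
    exact (inv_mul_eq_one.1 this).symm
  obtain ⟨c, hcb⟩ := ((Nat.bijective_iff_injective_and_card f).2 ⟨hinj, by
    rw [hCc]; exact hHi.symm⟩).2 (β : G ⧸ H)
  simp only [f] at hcb
  have hc1 : (c : G) ≠ 1 := fun h => hne (Subtype.ext (by rw [← hcb, h, one_smul]))
  have htC : t * c * t⁻¹ ∈ C := by
    refine mem_centralizer_iff.2 fun w hw => ?_
    have hw' : t⁻¹ * w * t ∈ (P : Subgroup G) := (mem_normalizer_iff''.1 ht w).1 hw
    have h1 : t⁻¹ * w * t * c = c * (t⁻¹ * w * t) := c.2 _ hw'
    calc w * (t * c * t⁻¹) = t * (t⁻¹ * w * t * c) * t⁻¹ := by group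
      _ = t * c * t⁻¹ * w := by rw [h1]; group
  have hcomm : (c : G)⁻¹ * (t * c * t⁻¹) = 1 := by
    refine hfree _ (mul_mem (inv_mem c.2) htC) α ?_
    have hti : t⁻¹ • (α : G ⧸ H) = α := by rw [inv_smul_eq_iff]; exact hα.symm
    rw [mul_smul, mul_smul, mul_smul, hti, hcb, hβ, ← hcb, inv_smul_smul]
  have htc : Commute t c := by
    have := (inv_mul_eq_one.1 hcomm).symm
    exact mul_inv_eq_iff_eq_mul.1 this
  obtain ⟨r, hr, hrd⟩ := Nat.exists_prime_and_dvd (fun h => hc1 (orderOf_eq_one_iff.1 h))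
  have hr15 : r ∣ 15 := hrd.trans (by
    have := orderOf_dvd_natCard c; rwa [← orderOf_coe, hCc] at this)
  set w := (c : G) ^ (orderOf (c : G) / r)
  have hwo : orderOf w = r := orderOf_pow_orderOf_div (orderOf_pos _).ne' hrd
  have htw : Commute t w := htc.pow_right _
  have hfin : ∀ (s : ℕ) [Fact s.Prime] (k : ℕ), H32.ExactSieve.Facts G s k 15 → orderOf w = s → False := by
    intro s hs k hF hws
    obtain ⟨R, hR⟩ := (IsPGroup.of_card (p := s) (n := 1)
      (by rw [Nat.card_zpowers, hws, pow_one]) : IsPGroup s (zpowers w)).exists_le_sylow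
    have hRe := eq_of_le_of_card_ge hR (by rw [hF.card_P R, Nat.card_zpowers, hws])
    have htR : t ∈ centralizer ((R : Subgroup G) : Set G) := by
      rw [← hRe, mem_centralizer_iff]
      intro v hv
      obtain ⟨j, rfl⟩ := mem_zpowers_iff.1 hv
      exact ((htw.zpow_right j).eq).symm
    have := orderOf_dvd_natCard (⟨t, htR⟩ : centralizer ((R : Subgroup G) : Set G))
    rw [orderOf_mk, hto, hF.card_C R] at this
    norm_num at this
  rcases (Nat.Prime.dvd_mul hr).1 (show r ∣ 3 * 5 by simpa using hr15) with h | h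
  · exact hfin 3 196 hF3 (hwo.trans ((Nat.prime_dvd_prime_iff_eq hr Nat.prime_three).1 h))
  · exact hfin 5 196 hF5 (hwo.trans ((Nat.prime_dvd_prime_iff_eq hr Nat.prime_five).1 h))

set_option maxHeartbeats 1000000 in
theorem card_ne_5400 : Nat.card G ≠ 5400 := by
  intro hn
  classical
  have hG : ¬ IsMulCommutative G := not_comm_of_not_prime (hn ▸ by norm_num)
  haveI : Fact (Nat.Prime 5) := ⟨by norm_num⟩
  have hc : Nat.card G = 5 ^ 2 * 216 := by rw [hn]; norm_num
  obtain ⟨P₀⟩ := (inferInstance : Nonempty (Sylow 5 G))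
  have hab : ∀ P : Sylow 5 G, IsMulCommutative (P : Subgroup G) := fun P =>
    IsPGroup.isMulCommutative_of_card_eq_prime_sq (card_sylow_coe hc (by norm_num) P)
  have hk := H65.sylow_candidate (p := 5) hG hn (m := 216) (a := 2) (by norm_num) (by norm_num) (by norm_num)
  rw [show (Nat.divisors 216).filter (fun d => d % 5 = 1 ∧ 1 < d ∧ 2 * 5400 ∣ d.factorial) = {36, 216}
    from by decide +kernel] at hk
  have hN0 := card_normalizer_mul P₀
  have hlt := card_sylow_lt_card_normalizer hG (hn ▸ by norm_num) P₀ (hab P₀)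
  rw [card_sylow_coe hc (by norm_num) P₀] at hlt
  have hn36 : Nat.card (Sylow 5 G) = 36 := by
    simp only [Finset.mem_insert, Finset.mem_singleton] at hk
    rcases hk with h | h
    · exact h
    · rw [h, hn] at hN0; omega
  obtain ⟨D, M, hDc, hM, hMtop, k, d, hMk, hik, hdk, hd1, hd5, hdc⟩ :=
    exists_index_of_not_modEq (p := 5) hc (by norm_num) (le_refl 2) (by rw [hn36]; decide)
  have hi := H65.index_candidate hG hn M hMtop
  have hidx : (M.index = 18 ∧ d = 6) ∨
      (k % 4 = 2 ∧ ¬ 5 ∣ k ∧ ∀ e ∈ (k / 2).divisors, e % 5 = 1 → e = 1) := by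
    have hkd : k ∈ Nat.divisors 216 := Nat.mem_divisors.2 ⟨Dvd.intro_left _ hik, by norm_num⟩
    have key : ∀ k ∈ Nat.divisors 216, ∀ i ∈ (Nat.divisors 5400).filter
        (fun d => 1 < d ∧ 2 * 5400 ∣ d.factorial), i * k = 216 →
        ∀ d ∈ k.divisors, 1 < d → d % 5 = 1 →
        (i = 18 ∧ d = 6) ∨ (k % 4 = 2 ∧ ¬ 5 ∣ k ∧ ∀ e ∈ (k / 2).divisors, e % 5 = 1 → e = 1) := by
      decide +kernel
    exact key k hkd _ hi hik d (Nat.mem_divisors.2 ⟨hdk, fun h => by rw [h] at hkd; simp at hkd⟩) hd1 hd5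
  rcases hidx with ⟨h18, hd6⟩ | ⟨h4, h5, he⟩
  swap
  · have := card_sylow_five_eq_one (M := M) (k := k) (by rw [hMk]; norm_num) h4 h5 he
    omega
  rw [hd6] at hdc
  have hMc : Nat.card M = 300 := by
    have := M.card_mul_index
    rw [h18, hn] at this
    omega
  norm_num at hDc
  have hDM : D ≤ M := hM ▸ D.le_normalizer
  -- the Sylow subgroups of `M`
  have hPM : ∀ R : Sylow 5 M, ∃ P : Sylow 5 G, (R : Subgroup M).map M.subtype = (P : Subgroup G) ∧
      (P : Subgroup G) ≤ M ∧ D ≤ (P : Subgroup G) := by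
    intro R
    obtain ⟨P, hP⟩ := (R.isPGroup'.map M.subtype).exists_le_sylow
    have he : (R : Subgroup M).map M.subtype = (P : Subgroup G) := eq_of_le_of_card_ge hP (by
      rw [card_map_of_injective M.subtype_injective,
        card_sylow_coe (a := 2) (m := 12) (by rw [hMc]; norm_num) (by norm_num) R,
        card_sylow_coe hc (by norm_num) P])
    refine ⟨P, he, he ▸ map_subtype_le _, ?_⟩
    haveI : (D.subgroupOf M).Normal := by rw [hM]; exact inferInstance
    have hDp : IsPGroup 5 (D.subgroupOf M) := IsPGroup.of_card (n := 1)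
      (by rw [Nat.card_congr (subgroupOfEquivOfLe hDM).toEquiv, hDc]; norm_num)
    have hle : D.subgroupOf M ≤ (R : Subgroup M) :=
      le_sup_left.trans (R.3 (hDp.to_sup_of_normal_left R.isPGroup') le_sup_right).le
    intro x hx
    exact he ▸ mem_map_of_mem M.subtype (hle (show (⟨x, hDM hx⟩ : M) ∈ D.subgroupOf M from hx))
  choose PP hPP hPPM hPPD using hPM
  -- `D` is central in `M`
  have hMD : ∀ x ∈ M, ∀ y ∈ D, y * x = x * y := by
    set Cd := (centralizer (D : Set G)).subgroupOf M with hCd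
    haveI : Cd.Normal := by rw [hCd, hM]; exact inferInstance
    have hRC : ∀ R : Sylow 5 M, (R : Subgroup M) ≤ Cd := by
      intro R x hx
      rw [hCd, mem_subgroupOf, mem_centralizer_iff]
      intro y hy
      have h1 : (x : G) ∈ (PP R : Subgroup G) := hPP R ▸ mem_map_of_mem M.subtype hx
      haveI := hab (PP R)
      exact congrArg Subtype.val
        (IsMulCommutative.is_comm.comm (⟨y, hPPD R hy⟩ : (PP R : Subgroup G)) ⟨_, h1⟩)
    suffices h : Cd = ⊤ by
      intro x hx y hy
      have := mem_subgroupOf.1 (h ▸ mem_top (⟨x, hx⟩ : M) : (⟨x, hx⟩ : M) ∈ Cd)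
      exact mem_centralizer_iff.1 this y hy
    by_contra hne
    obtain ⟨R₁⟩ := (inferInstance : Nonempty (Sylow 5 M))
    obtain ⟨j, hj⟩ : 25 ∣ Nat.card Cd := by
      have := Subgroup.card_dvd_of_le (hRC R₁)
      rwa [card_sylow_coe (a := 2) (m := 12) (by rw [hMc]; norm_num) (by norm_num) R₁] at this
    have hsub : Nat.card (Sylow 5 Cd) = 6 := by
      rw [← hdc]
      refine Nat.card_congr (Equiv.ofBijective
        (fun R : Sylow 5 Cd => Classical.choose ((R.isPGroup'.map Cd.subtype).exists_le_sylow)) ⟨?_, ?_⟩)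
      · intro R R' h
        have h1 := Classical.choose_spec ((R.isPGroup'.map Cd.subtype).exists_le_sylow)
        have h2 := Classical.choose_spec ((R'.isPGroup'.map Cd.subtype).exists_le_sylow)
        simp only at h
        have key : ∀ R : Sylow 5 Cd, ∀ Q : Sylow 5 M, (R : Subgroup Cd).map Cd.subtype ≤ Q →
            (R : Subgroup Cd) = (Q : Subgroup M).subgroupOf Cd := by
          intro R Q hle
          refine (R.3 (Q.isPGroup'.comap_subtype) fun x hx => ?_).symm
          exact hle (mem_map_of_mem Cd.subtype hx)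
        exact Sylow.ext ((key R _ h1).trans ((key R' _ (h ▸ h2)).symm))
      · intro Q
        refine ⟨Q.subtype (hRC Q), ?_⟩
        have h1 := Classical.choose_spec (((Q.subtype (hRC Q)).isPGroup'.map Cd.subtype).exists_le_sylow)
        refine Sylow.ext (Q.3 (Classical.choose (((Q.subtype (hRC Q)).isPGroup'.map Cd.subtype).exists_le_sylow)).isPGroup' fun x hx => h1 ?_)
        exact ⟨⟨x, hRC Q hx⟩, hx, rfl⟩
    have hj12 : j ∣ 12 := by
      have := Cd.card_subgroup_dvd_card
      rw [hj, hMc, show (300 : ℕ) = 25 * 12 from rfl] at this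
      exact Nat.dvd_of_mul_dvd_mul_left (by norm_num) this
    have h6 : 6 ∣ j := hsub ▸ card_sylow_dvd (a := 2) (by rw [hj]; norm_num)
      (fun h => by have := h.trans hj12; norm_num at this)
    have hj6 : j = 6 := by
      have hne12 : j ≠ 12 := fun h => hne (eq_top_of_card_eq _ (by rw [hj, h, hMc]))
      have := Nat.le_of_dvd (by norm_num) hj12
      have : j ≠ 0 := fun h => by rw [h] at hj; simp at hj; exact Nat.card_pos.ne' hj
      omega
    have := card_sylow_five_eq_one (M := Cd) (k := 6) (by rw [hj, hj6]) (by norm_num) (by norm_num)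
      (by decide +kernel)
    omega
  have hDtop : D ≠ ⊥ := fun h => by rw [h, card_bot] at hDc; norm_num at hDc
  obtain ⟨x, hxD, hx⟩ := H70.exists_mem_orderOf D 5 (by norm_num) (by rw [hDc])
  have hx1 : x ≠ 1 := H70.ne_one_of_orderOf_prime (by norm_num) hx
  have hDeq : D = zpowers x := (eq_of_le_of_card_ge (zpowers_le.2 hxD)
    (by rw [Nat.card_zpowers, hx, hDc])).symm
  have hCx : ∀ g : G, Commute g x → g ∈ M := by
    intro g hg
    rw [hM, hDeq]
    refine centralizer_le_normalizer _ (mem_centralizer_iff.2 fun v hv => ?_)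
    obtain ⟨j, rfl⟩ := mem_zpowers_iff.1 hv
    exact (hg.symm.zpow_left j).eq
  -- cosets fixed by `x`
  have hfixiff : ∀ g : G, x • (g : G ⧸ M) = g ↔ Commute x (g * x * g⁻¹) := by
    intro g
    rw [MulAction.Quotient.smul_mk, QuotientGroup.eq, smul_eq_mul, mul_inv_rev]
    constructor
    · intro h
      have h1 : g⁻¹ * x * g ∈ M := by
        have := inv_mem h; simpa [mul_assoc] using this
      have h2 : Commute (g⁻¹ * x * g) x := (hMD _ h1 x hxD).symm
      have h3 := (H99conj g _ _).2 h2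
      rwa [show g * (g⁻¹ * x * g) * g⁻¹ = x by group] at h3
    · intro h
      have h3 := (H99conj g⁻¹ _ _).2 h
      rw [inv_inv, show g⁻¹ * (g * x * g⁻¹) * g = x by group] at h3
      have h4 := inv_mem (hCx _ h3)
      simpa [mul_assoc] using h4
  have hmove : ∀ g : G, x • (g : G ⧸ M) ≠ g → g * x * g⁻¹ ∉ M := fun g hg h =>
    hg ((hfixiff g).2 (hMD _ h x hxD))
  -- at least thirteen fixed cosets
  set W := {α : G ⧸ M // x • α ≠ α} with hW
  have hfix : 13 ≤ Nat.card (MulAction.fixedBy (G ⧸ M) x) := by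
    have hA : ∀ R : Sylow 5 M, ∃ g₁ g₂ : G, g₁ ∈ normalizer ((PP R : Subgroup G) : Set G) ∧
        g₂ ∈ normalizer ((PP R : Subgroup G) : Set G) ∧ g₁ ∉ M ∧ g₂ ∉ M ∧
        (g₁ : G ⧸ M) ≠ (g₂ : G ⧸ M) := by
      intro R
      set N := normalizer ((PP R : Subgroup G) : Set G) with hN
      have hNc : Nat.card N = 150 := by
        have : Nat.card N * Nat.card (Sylow 5 G) = Nat.card G := card_normalizer_mul (PP R)
        rw [hn36, hn] at this
        omega
      have hNM : Nat.card (N ⊓ M : Subgroup G) = 50 := by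
        have h1 := card_normalizer_mul R
        rw [hdc, hMc] at h1
        have e : normalizer ((R : Subgroup M) : Set M) = (N ⊓ M).subgroupOf M := by
          ext z
          simp only [mem_subgroupOf, mem_inf, z.2, and_true, hN, mem_normalizer_iff, SetLike.mem_coe,
            Subgroup.coe_mul, Subgroup.coe_inv, ← hPP R]
          refine ⟨fun h v => ?_, fun h v => ?_⟩
          · by_cases hv : v ∈ M
            · simp [mem_map, hv, mul_mem, inv_mem, z.2]; exact h ⟨v, hv⟩
            · refine iff_of_false (fun h' => hv (map_subtype_le _ h')) fun h' => hv ?_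
              have h2 := mul_mem (mul_mem (inv_mem z.2) (map_subtype_le _ h')) z.2
              rwa [show (z : G)⁻¹ * ((z : G) * v * (z : G)⁻¹) * (z : G) = v by group] at h2
          · have h1 := h (v : G); simp [mem_map, mul_mem, inv_mem, z.2, v.2] at h1; exact h1
        rw [e, Nat.card_congr (subgroupOfEquivOfLe inf_le_right).toEquiv] at h1
        omega
      have hidx : (M.subgroupOf N).index = 3 := by
        have h1 := (M.subgroupOf N).card_mul_index
        rw [← inf_subgroupOf_left, Nat.card_congr (subgroupOfEquivOfLe inf_le_left).toEquiv, hNc,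
          hNM] at h1
        rw [← inf_subgroupOf_left]
        omega
      have h3 : 2 < Nat.card (N ⧸ M.subgroupOf N) := by
        show 2 < (M.subgroupOf N).index
        omega
      haveI : Nontrivial (N ⧸ M.subgroupOf N) := Finite.one_lt_card_iff_nontrivial.1 (by omega)
      have hex : ∃ a b : N ⧸ M.subgroupOf N, a ≠ ((1 : N) : N ⧸ M.subgroupOf N) ∧
          b ≠ ((1 : N) : N ⧸ M.subgroupOf N) ∧ a ≠ b := by
        haveI := Fintype.ofFinite (N ⧸ M.subgroupOf N)
        rw [Nat.card_eq_fintype_card] at h3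
        obtain ⟨a, b, c, hab, hac, hbc⟩ := Fintype.two_lt_card_iff.1 h3
        by_cases ha : a = ((1 : N) : N ⧸ M.subgroupOf N)
        · exact ⟨b, c, ha ▸ hab.symm, ha ▸ hac.symm, hbc⟩
        by_cases hb : b = ((1 : N) : N ⧸ M.subgroupOf N)
        · exact ⟨a, c, ha, hb ▸ hbc.symm, hac⟩
        exact ⟨a, b, ha, hb, hab⟩
      obtain ⟨a, b, ha, hb, hab⟩ := hex
      induction a using QuotientGroup.induction_on with
      | H a =>
        induction b using QuotientGroup.induction_on with
        | H b =>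
          refine ⟨a, b, a.2, b.2, fun h => ha ?_, fun h => hb ?_, fun h => hab ?_⟩
          · rw [QuotientGroup.eq, mul_one]; exact inv_mem (show a ∈ M.subgroupOf N from h)
          · rw [QuotientGroup.eq, mul_one]; exact inv_mem (show b ∈ M.subgroupOf N from h)
          · rw [QuotientGroup.eq] at h ⊢
            exact h
    choose g₁ g₂ hg₁ hg₂ hg₁M hg₂M hg₁₂ using hA
    have hinP : ∀ (R : Sylow 5 M) (g : G), g ∈ normalizer ((PP R : Subgroup G) : Set G) →
        g * x * g⁻¹ ∈ (PP R : Subgroup G) := fun R g hg =>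
      (mem_normalizer_iff.1 hg x).1 (hPPD R hxD)
    have hfixed : ∀ (R : Sylow 5 M) (g : G), g ∈ normalizer ((PP R : Subgroup G) : Set G) →
        x • (g : G ⧸ M) = g := fun R g hg =>
      (hfixiff g).2 (hMD _ (hPPM R (hinP R g hg)) x hxD)
    have hsame : ∀ (R R' : Sylow 5 M) (g g' : G), g ∈ normalizer ((PP R : Subgroup G) : Set G) →
        g' ∈ normalizer ((PP R' : Subgroup G) : Set G) → g ∉ M → (g : G ⧸ M) = g' → R = R' := by
      intro R R' g g' hg hg' hgM heq
      by_contra hne
      have hne' : (PP R : Subgroup G) ≠ (PP R' : Subgroup G) := fun h => hne (Sylow.ext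
        (Subgroup.map_injective M.subtype_injective (by rw [hPP R, hPP R', h])))
      have hmem : g * x * g⁻¹ ∈ (PP R' : Subgroup G) := by
        obtain ⟨m, hm, rfl⟩ : ∃ m ∈ M, g = g' * m :=
          ⟨g'⁻¹ * g, QuotientGroup.eq.1 heq.symm, by group⟩
        have : g' * m * x * (g' * m)⁻¹ = g' * x * g'⁻¹ := by
          calc g' * m * x * (g' * m)⁻¹ = g' * (m * x) * m⁻¹ * g'⁻¹ := by group
            _ = g' * (x * m) * m⁻¹ * g'⁻¹ := by rw [hMD m hm x hxD]
            _ = _ := by group
        rw [this]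
        exact hinP R' g' hg'
      have hI : ((PP R : Subgroup G) ⊓ (PP R' : Subgroup G)) = D := by
        refine (eq_of_le_of_card_ge (le_inf (hPPD R) (hPPD R')) ?_).symm
        set I : Subgroup G := (PP R : Subgroup G) ⊓ (PP R' : Subgroup G)
        have h1 : Nat.card I ∣ 5 ^ 2 := by
          rw [← card_sylow_coe hc (by norm_num) (PP R)]
          exact card_dvd_of_le inf_le_left
        obtain ⟨i, hi2, hIc⟩ := (Nat.dvd_prime_pow (by norm_num)).1 h1
        rw [hIc, hDc]
        rcases Nat.lt_or_ge i 2 with h | h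
        · calc 5 ^ i ≤ 5 ^ 1 := Nat.pow_le_pow_right (by norm_num) (by omega)
            _ = 5 := by norm_num
        · exfalso
          obtain rfl : i = 2 := by omega
          have e1 : I = (PP R : Subgroup G) := eq_of_le_of_card_ge inf_le_left
            (by rw [hIc, card_sylow_coe hc (by norm_num) (PP R)])
          exact hne' (eq_of_le_of_card_ge (e1 ▸ inf_le_right)
            (by rw [card_sylow_coe hc (by norm_num) (PP R), card_sylow_coe hc (by norm_num) (PP R')]))
      have hgx : g * x * g⁻¹ ∈ D := hI ▸ ⟨hinP R g hg, hmem⟩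
      refine hgM ?_
      rw [hM, hDeq] at *
      exact mem_normalizer_zpowers x g hgx (by rw [hx]; norm_num)
    let φ : Option (Sylow 5 M × Bool) → MulAction.fixedBy (G ⧸ M) x := fun o =>
      o.elim ⟨((1 : G) : G ⧸ M), (hfixiff 1).2 (by simp)⟩ fun q =>
        if q.2 then ⟨(g₁ q.1 : G ⧸ M), hfixed q.1 _ (hg₁ q.1)⟩
        else ⟨(g₂ q.1 : G ⧸ M), hfixed q.1 _ (hg₂ q.1)⟩
    have hno1 : ∀ g : G, g ∉ M → (g : G ⧸ M) ≠ ((1 : G) : G ⧸ M) := fun g hg h => hg (by
      rw [QuotientGroup.eq, mul_one] at h; exact inv_mem_iff.1 h)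
    have hφ : Function.Injective φ := by
      intro o o' h
      rcases o with _ | ⟨R, b⟩ <;> rcases o' with _ | ⟨R', b'⟩
      · rfl
      · exfalso
        cases b' <;> simp only [φ, Option.elim, Subtype.ext_iff] at h
        · exact hno1 _ (hg₂M R') h.symm
        · exact hno1 _ (hg₁M R') h.symm
      · exfalso
        cases b <;> simp only [φ, Option.elim, Subtype.ext_iff] at h
        · exact hno1 _ (hg₂M R) h
        · exact hno1 _ (hg₁M R) h
      · cases b <;> cases b' <;> simp only [φ, Option.elim, Subtype.ext_iff] at h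
        · rw [hsame R R' _ _ (hg₂ R) (hg₂ R') (hg₂M R) h]
        · obtain rfl := hsame R R' _ _ (hg₂ R) (hg₁ R') (hg₂M R) h
          exact absurd h.symm (hg₁₂ R)
        · obtain rfl := hsame R R' _ _ (hg₁ R) (hg₂ R') (hg₁M R) h
          exact absurd h (hg₁₂ R)
        · rw [hsame R R' _ _ (hg₁ R) (hg₁ R') (hg₁M R) h]
    have := Nat.card_le_card_of_injective φ hφ
    rw [Finite.card_option, Nat.card_prod, hdc] at this
    simpa using this
  -- five moved cosets
  have hW5 : Nat.card W = 5 := by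
    have hsum : Nat.card (MulAction.fixedBy (G ⧸ M) x) + Nat.card W = 18 := by
      have := Nat.card_congr (Equiv.sumCompl (fun α : G ⧸ M => x • α = α))
      rw [Nat.card_sum] at this
      rw [← h18]
      exact this
    have hmod := H70.fixedBy_modEq_index (p := 5) M (hx ▸ pow_orderOf_eq_one x)
    rw [h18] at hmod
    have hpos : 0 < Nat.card W := by
      obtain ⟨z, hz⟩ := H65.exists_not_fixed hMtop hx1
      haveI : Nonempty W := ⟨⟨z, hz⟩⟩
      exact Nat.card_pos
    omega
  -- the action of `M` on them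
  have hcomm : ∀ m ∈ M, Commute x m := fun m hm => hMD m hm x hxD
  let act : M →* Equiv.Perm W :=
    { toFun := fun m => (MulAction.toPerm (m : G)).subtypePerm fun α => by
        simp only [MulAction.toPerm_apply, ne_eq]
        rw [← mul_smul, (hcomm m m.2).eq, mul_smul]
        exact not_congr (MulAction.injective (m : G)).eq_iff
      map_one' := by ext α; simp
      map_mul' := fun a b => by ext α; simp [mul_smul] }
  set K := act.ker with hK
  have hxM : x ∈ M := hDM hxD
  have hrange : Nat.card act.range ≤ 5 := by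
    obtain ⟨w₀⟩ : Nonempty W := (Nat.card_pos_iff.1 (by omega)).1
    have horb : ∀ w : W, ∃ j : ℕ, j < 5 ∧ x ^ j • (w₀ : G ⧸ M) = w := by
      let f : Fin 5 → W := fun j => ⟨x ^ (j : ℕ) • (w₀ : G ⧸ M), by
        rw [← mul_smul, ← pow_succ', pow_succ, mul_smul]
        exact fun h => w₀.2 ((MulAction.injective (x ^ (j : ℕ))).eq_iff.1 h)⟩
      have hf : Function.Injective f := by
        intro a b hab
        by_contra hne
        have hab : x ^ (a : ℕ) • (w₀ : G ⧸ M) = x ^ (b : ℕ) • (w₀ : G ⧸ M) := congrArg Subtype.val hab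
        have key : ∀ a b : ℕ, a < b → b < 5 → x ^ a • (w₀ : G ⧸ M) ≠ x ^ b • (w₀ : G ⧸ M) := by
          intro a b hlt hb hEq
          obtain ⟨c, rfl⟩ : ∃ c, b = a + c := ⟨b - a, by omega⟩
          rw [pow_add, mul_smul, (MulAction.injective (x ^ a)).eq_iff] at hEq
          have hcop : Nat.Coprime c 5 :=
            ((Nat.Prime.coprime_iff_not_dvd (by norm_num)).2 fun h => by
              have := Nat.le_of_dvd (by omega) h; omega).symm
          obtain ⟨e, he⟩ := Nat.exists_mul_mod_eq_one_of_coprime hcop (by norm_num)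
          have hpow : ∀ j : ℕ, (x ^ c) ^ j • (w₀ : G ⧸ M) = w₀ := fun j => by
            induction j with
            | zero => simp
            | succ j ih => rw [pow_succ, mul_smul, ← hEq, ih]
          apply w₀.2
          have h1 := hpow e
          rw [← pow_mul, ← pow_mod_orderOf, hx, he.2, pow_one] at h1
          exact h1
        rcases lt_trichotomy (a : ℕ) b with h | h | h
        · exact key _ _ h b.2 hab
        · exact hne (Fin.ext h)
        · exact key _ _ h a.2 hab.symm
      intro w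
      obtain ⟨j, hj⟩ := ((Nat.bijective_iff_injective_and_card f).2
        ⟨hf, by rw [Nat.card_fin, hW5]⟩).2 w
      exact ⟨j, j.2, congrArg Subtype.val hj⟩
    rw [← hW5]
    refine Nat.card_le_card_of_injective (fun σ => (σ : Equiv.Perm W) w₀) fun σ τ h => ?_
    obtain ⟨_, m, rfl⟩ := σ
    obtain ⟨_, m', rfl⟩ := τ
    refine Subtype.ext (Equiv.ext fun w => Subtype.ext ?_)
    obtain ⟨j, -, hj⟩ := horb w
    have h' : (m : G) • (w₀ : G ⧸ M) = (m' : G) • (w₀ : G ⧸ M) := congrArg Subtype.val h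
    show (m : G) • (w : G ⧸ M) = (m' : G) • (w : G ⧸ M)
    rw [← hj, ← mul_smul, ← mul_smul, ← ((hcomm m m.2).pow_left j).eq,
      ← ((hcomm m' m'.2).pow_left j).eq, mul_smul, mul_smul, h']
  have hKc : 60 ≤ Nat.card K := by
    have h1 := K.card_mul_index
    rw [hK, index_ker, hMc] at h1
    rw [hK]
    nlinarith
  set K' := K.map M.subtype with hK'
  have hK'M : K' ≤ M := map_subtype_le _
  have hK'c : Nat.card K' = Nat.card K := card_map_of_injective M.subtype_injective
  obtain ⟨w⟩ : Nonempty W := (Nat.card_pos_iff.1 (by omega)).1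
  obtain ⟨α, hα⟩ := w
  induction α using QuotientGroup.induction_on with
  | H g =>
    have hyM := hmove g hα
    set y := g * x * g⁻¹ with hy
    have hyK : ∀ v ∈ K', Commute v y := by
      rintro _ ⟨v, hv, rfl⟩
      have h1 : (v : G) • (g : G ⧸ M) = g :=
        congrArg Subtype.val (Equiv.ext_iff.1 (MonoidHom.mem_ker.1 hv) ⟨(g : G ⧸ M), hα⟩)
      rw [MulAction.Quotient.smul_mk, QuotientGroup.eq, smul_eq_mul, mul_inv_rev] at h1
      have h2 : Commute (g⁻¹ * v * g) x := by
        have := (hcomm _ (inv_mem h1)).symm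
        simpa [mul_assoc] using this
      have h3 := (H99conj g _ _).2 h2
      rwa [show g * (g⁻¹ * v * g) * g⁻¹ = (v : G) by group] at h3
    have hyN : y ∈ normalizer (K' : Set G) := by
      rw [mem_normalizer_iff]
      intro v
      constructor
      · intro hv
        rw [(hyK v hv).symm.eq, mul_inv_cancel_right]; exact hv
      · intro hv
        have := (hyK _ hv).eq
        have e : y * v * y⁻¹ = v := by
          have h2 : y * (y * v * y⁻¹) * y⁻¹ = y * v * y⁻¹ := by
            rw [← this, mul_inv_cancel_right]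
          exact mul_left_cancel (mul_right_cancel h2)
        rwa [e] at hv
    have hMN : M ≤ normalizer (K' : Set G) := by
      intro m hm
      rw [mem_normalizer_iff]
      intro v
      have hKn : K.Normal := MonoidHom.normal_ker act
      constructor
      · rintro ⟨v, hv, rfl⟩
        exact ⟨⟨m, hm⟩ * v * ⟨m, hm⟩⁻¹, hKn.conj_mem v hv _, rfl⟩
      · rintro ⟨u, hu, hue⟩
        refine ⟨⟨m, hm⟩⁻¹ * u * ⟨m, hm⟩, ?_, ?_⟩
        · simpa using hKn.conj_mem u hu (⟨m, hm⟩⁻¹)
        · simp only [coe_subtype, Subgroup.coe_mul, Subgroup.coe_inv] at hue ⊢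
          rw [hue]; group
    set L := normalizer (K' : Set G) with hL
    have hLtop : L ≠ ⊤ := by
      intro h
      rcases (normalizer_eq_top_iff.1 h).eq_bot_or_eq_top with h1 | h1
      · rw [h1, card_bot] at hK'c; omega
      · exact hMtop (top_le_iff.1 (h1 ▸ hK'M))
    have hLi := H65.index_candidate hG hn L hLtop
    have hdvd : L.index ∣ 18 := h18 ▸ index_dvd_of_le hMN
    have hlt18 : L.index ≠ 18 := by
      intro h
      have h1 := relIndex_mul_index hMN
      rw [h, h18] at h1
      have h2 : M.relIndex L = 1 := by omega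
      exact hyM (relIndex_eq_one.1 h2 hyN)
    have key : ∀ i ∈ (Nat.divisors 5400).filter (fun d => 1 < d ∧ 2 * 5400 ∣ d.factorial),
        i ∣ 18 → i = 18 := by decide +kernel
    exact hlt18 (key _ hLi hdvd)
where
  H99conj (g a b : G) : Commute (g * a * g⁻¹) (g * b * g⁻¹) ↔ Commute a b := by
    constructor
    · intro h
      have := h.map (MulAut.conj g⁻¹).toMonoidHom
      simpa [MulAut.conj_apply, mul_assoc] using this
    · intro h
      have := h.map (MulAut.conj g).toMonoidHom
      simpa [MulAut.conj_apply] using this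
  mem_normalizer_zpowers (x g : G) (h : g * x * g⁻¹ ∈ zpowers x) (hx : 1 < orderOf x) :
      g ∈ normalizer (zpowers x : Set G) := by
    have hmap : (zpowers x).map (MulAut.conj g).toMonoidHom = zpowers x := by
      refine eq_of_le_of_card_ge ?_ (card_map_of_injective (MulAut.conj g).injective).ge
      rw [MonoidHom.map_zpowers, zpowers_le]
      simpa using h
    rw [mem_normalizer_iff_map_conj_eq]
    exact hmap

end SmallRange
end H62
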