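/-
The sieve for the orders between 3641 and 6232.
-/
import Cfsg.Agent.H65.SmallSimple2

set_option autoImplicit false

namespace H62
namespace SmallRange

/-- Orders needing further arguments. -/
def survivors : List ℕ := [3648, 3696, 3744, 3780, 3960, 4032, 4080, 4160, 4200, 4212, 4320, 4400, 4536, 4620, 4680, 4760, 4800, 4928, 4960, 5040, 5104, 5148, 5200, 5236, 5376, 5400, 5460, 5472, 5600, 5616, 5724, 5760, 5852, 5880, 5940, 6048, 6072, 6160]

/-- `k` passes the cheap tests. -/
def admissibleFast (n m p a k : ℕ) : Bool :=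
  (1 < k) && (m % k == 0) && (k % p == 1) && ((21 ≤ k) || (Nat.factorial k % (2 * n) == 0)) &&
    if a == 1 then
      (Nat.gcd (n / k / p) (p - 1) != 1) &&
        ((p == 2) || (2 * p ≤ k) || (p * (p - 1) * Nat.factorial (k - p) % (2 * (n / k)) == 0))
    else
      (k % (p * p) == 1) || (List.range (m + 1)).any fun i =>
        (1 < i) && (m % i == 0) && ((21 ≤ i) || (Nat.factorial i % (2 * n) == 0)) &&
          (List.range (m / i + 1)).any fun e => (1 < e) && (m / i % e == 0) && (e % p == 1)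

/-- Primality below 6400. -/
def primeFast (p : ℕ) : Bool :=
  (2 ≤ p) && (p < 6400) && (List.range 80).all fun d => (d < 2) || (p < d * d) || (p % d != 0)

/-- No admissible Sylow `p`-number, trying only `k ≡ 1 mod p`. -/
def killsFast (n p : ℕ) : Bool :=
  let m := H65.stripFactor p n n
  primeFast p && (n % p == 0) && (m % p != 0) &&
    (List.range (m / p + 1)).all fun j =>
      !admissibleFast n m p (if m * p == n then 1 else 2) (1 + j * p)

/-- At most two prime divisors. -/
def twoPrimes (n p q : ℕ) : Bool :=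
  primeFast p && primeFast q && (H65.stripFactor q n (H65.stripFactor p n n) == 1)

/-- The test of one order. -/
def checkOne (n c : ℕ) : Bool :=
  survivors.contains n || (n % 4 == 2) || (decide (c < 10000) && killsFast n c) ||
    twoPrimes n (c % 10000) (c / 10000)

/-- The test of consecutive orders. -/
def checkFrom : ℕ → List ℕ → Bool
  | _, [] => true
  | n, c :: l => checkOne n c && checkFrom (n + 1) l

theorem checkFrom_spec : ∀ (l : List ℕ) (lo : ℕ), checkFrom lo l = true → ∀ n, lo ≤ n →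
    n < lo + l.length → ∃ c, checkOne n c = true
  | [], lo, _, n, h1, h2 => by simp at h2; omega
  | c :: l, lo, h, n, h1, h2 => by
    rw [checkFrom, Bool.and_eq_true] at h
    rcases Nat.eq_or_lt_of_le h1 with rfl | hlt
    · exact ⟨c, h.1⟩
    · exact checkFrom_spec l (lo + 1) h.2 n hlt (by simp at h2 ⊢; omega)

theorem primeFast_spec {p : ℕ} (h : primeFast p = true) : p.Prime := by
  simp only [primeFast, Bool.and_eq_true, decide_eq_true_eq, List.all_eq_true, Bool.or_eq_true,
    bne_iff_ne, List.mem_range] at h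
  obtain ⟨⟨h2, hlt⟩, hall⟩ := h
  by_contra hnp
  have hd := Nat.minFac_dvd p
  have hsq := Nat.minFac_sq_le_self (by omega) hnp
  have h2' := (Nat.minFac_prime (show p ≠ 1 by omega)).two_le
  have hd80 : p.minFac < 80 := by nlinarith
  rcases hall _ hd80 with (h1 | h1) | h1
  · omega
  · rw [pow_two] at hsq; omega
  · exact h1 (Nat.mod_eq_zero_of_dvd hd)

theorem trialPrime_of_prime {p : ℕ} (hp : p.Prime) : H65.trialPrime p = true := by
  simp only [H65.trialPrime, Bool.and_eq_true, decide_eq_true_eq, List.all_eq_true, Bool.or_eq_true,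
    bne_iff_ne, List.mem_range]
  refine ⟨hp.two_le, fun d hd => ?_⟩
  by_cases h : d < 2
  · exact Or.inl h
  · refine Or.inr fun hmod => ?_
    rcases (Nat.dvd_prime hp).1 (Nat.dvd_of_mod_eq_zero hmod) with h' | h' <;> omega

theorem admissibleFast_of_admissible {n m p a k : ℕ} (h : H65.admissible n m p a k = true) :
    admissibleFast n m p a k = true := by
  unfold H65.admissible at h
  unfold admissibleFast
  split at h <;> rename_i ha
  · rw [if_pos ha]
    simp only [Bool.and_eq_true, Bool.or_eq_true] at h ⊢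
    exact ⟨⟨⟨⟨h.1.1.1.1, h.1.1.1.2⟩, h.1.1.2⟩, Or.inr h.1.2⟩, h.2⟩
  · rw [if_neg ha]
    simp only [Bool.and_eq_true, Bool.or_eq_true, List.any_eq_true] at h ⊢
    refine ⟨⟨⟨⟨h.1.1.1.1, h.1.1.1.2⟩, h.1.1.2⟩, Or.inr h.1.2⟩, ?_⟩
    rcases h.2 with h2 | ⟨i, hi, ⟨⟨a1, a2⟩, a3⟩, he⟩
    · exact Or.inl h2
    · exact Or.inr ⟨i, hi, ⟨⟨a1, a2⟩, Or.inr a3⟩, he⟩

theorem kills_of_killsFast {n p : ℕ} (h : killsFast n p = true) : H65.kills n p = true := by
  simp only [killsFast, H65.kills, Bool.and_eq_true, List.all_eq_true] at h ⊢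
  obtain ⟨⟨⟨hp, h1⟩, h2⟩, hall⟩ := h
  refine ⟨⟨⟨trialPrime_of_prime (primeFast_spec hp), h1⟩, h2⟩, fun k hk => ?_⟩
  rw [Bool.not_eq_true']
  by_contra hc
  rw [Bool.not_eq_false] at hc
  have hc' := admissibleFast_of_admissible hc
  have hkp : k % p = 1 := by
    simp only [H65.admissible, Bool.and_eq_true, beq_iff_eq] at hc
    exact hc.1.1.2
  have hkj : 1 + k / p * p = k := by
    have := Nat.div_add_mod k p
    rw [hkp, mul_comm] at this; omega
  have := hall (k / p) (List.mem_range.2 (Nat.lt_succ_of_le (Nat.div_le_div_right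
    (Nat.le_of_lt_succ (List.mem_range.1 hk)))))
  rw [hkj, hc'] at this
  exact Bool.false_ne_true this

theorem of_check {G : Type*} [Group G] [Finite G] [IsSimpleGroup G] (hG : ¬ IsMulCommutative G)
    {lo : ℕ} {l : List ℕ} (h : checkFrom lo l = true) (h1 : lo ≤ Nat.card G)
    (h2 : Nat.card G < lo + l.length) : Nat.card G ∈ survivors := by
  obtain ⟨c, hc⟩ := checkFrom_spec l lo h _ h1 h2
  simp only [checkOne, Bool.or_eq_true, Bool.and_eq_true] at hc
  rcases hc with ((hs | h4) | ⟨-, hk⟩) | ht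
  · exact List.contains_iff_mem.1 hs
  · exact (H65.false_of_sieve hG (by rw [H65.sieve, h4, Bool.true_or])).elim
  · exact (H65.false_of_kills hG (kills_of_killsFast hk)).elim
  · exfalso
    simp only [twoPrimes, Bool.and_eq_true, beq_iff_eq] at ht
    obtain ⟨⟨hp, hq⟩, hst⟩ := ht
    set n := Nat.card G
    obtain ⟨a, ha⟩ := H65.stripFactor_spec (c % 10000) n n
    obtain ⟨b, hb⟩ := H65.stripFactor_spec (c / 10000) n (H65.stripFactor (c % 10000) n n)
    rw [hb, hst, mul_one] at ha
    have hs : Group.IsSolvable G := H33.isSolvable_of_two_primes (primeFast_spec hp)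
      (primeFast_spec hq) fun r hr hd => by
        have hd' : r ∣ (c % 10000) ^ a * (c / 10000) ^ b := ha ▸ hd
        rcases (Nat.Prime.dvd_mul hr).1 hd' with h' | h'
        · exact Or.inl ((Nat.prime_dvd_prime_iff_eq hr (primeFast_spec hp)).1 (hr.dvd_of_dvd_pow h'))
        · exact Or.inr ((Nat.prime_dvd_prime_iff_eq hr (primeFast_spec hq)).1 (hr.dvd_of_dvd_pow h'))
    exact hG ⟨⟨IsSimpleGroup.comm_iff_isSolvable.2 hs⟩⟩


/-- Codes for the orders from 3641. -/
def codes3641 : List ℕ :=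
  [110331, 0, 23643, 20911, 30005, 0, 70521, 0, 410089, 0, 31217, 83, 130281, 0, 43, 20457, 53, 0, 23659, 61,
   70523, 0, 37, 20229, 50733, 0, 190193, 131, 31223, 0, 23671, 17, 23673, 0, 7, 20919, 23677, 0, 130283, 23,
   30409, 0, 290127, 307, 67, 0, 31229, 20461, 31, 0, 23691, 71, 31231, 0, 50739, 0, 23697, 0, 30137, 37,
   23701, 0, 70023, 20463, 19, 0, 110337, 103, 23709, 0, 31237, 20029, 470079, 0, 50743, 20929, 59, 0, 23719, 31,
   20061, 0, 73, 19, 50149, 0, 23727, 20233, 113, 0, 41, 311, 23733, 0, 83, 20467, 370101, 0, 23739, 17,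
   43, 0, 190197, 0, 107, 0, 31249, 20937, 230163, 0, 110031, 67, 30139, 0, 50751, 313, 130017, 0, 179, 47,
   23761, 0, 530071, 20941, 251, 0, 23767, 157, 23769, 0, 30419, 41, 70011, 0, 50151, 20059, 31259, 0, 23779, 0,
   190199, 0, 97, 43, 50757, 0, 70541, 20947, 30421, 0, 170223, 79, 23793, 0, 23, 73, 23797, 0, 290131, 19,
   181, 0, 23803, 317, 50761, 0, 30047, 17, 130293, 0, 370103, 20953, 41, 0, 109, 53, 110347, 0, 67, 191,
   23821, 0, 23823, 20239, 17, 0, 430089, 29, 70547, 0, 31277, 20479, 23833, 0, 59, 137, 31279, 0, 110349, 2]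

theorem check3641 : checkFrom 3641 codes3641 = true := by
  decide +kernel

/-- Codes for the orders from 3841. -/
def codes3841 : List ℕ :=
  [230167, 0, 61, 20031, 50769, 0, 23847, 37, 31283, 0, 23851, 107, 23853, 0, 257, 20241, 29, 0, 170227, 193,
   13, 0, 23863, 23, 50773, 0, 31289, 20967, 530073, 0, 70079, 20011, 31291, 0, 50031, 19, 23877, 0, 30431, 97,
   23881, 0, 110353, 20971, 37, 0, 130023, 20003, 23889, 0, 31297, 139, 170229, 0, 41, 20487, 30433, 0, 70557, 13,
   470083, 0, 31301, 20061, 71, 0, 23907, 20977, 31303, 0, 23911, 163, 43, 0, 29, 89, 23917, 0, 23919, 7,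
   31307, 0, 23923, 109, 50157, 0, 17, 20491, 23929, 0, 23931, 20983, 23, 0, 50787, 41, 310127, 0, 101, 197,
   70563, 0, 23943, 29, 263, 0, 23947, 47, 110359, 0, 30439, 19, 590067, 0, 113, 43, 31319, 0, 370107, 0,
   170233, 0, 31321, 20991, 61, 0, 23967, 20031, 30007, 0, 110019, 331, 290137, 0, 53, 71, 410097, 0, 230173, 199,
   31327, 0, 70569, 83, 50797, 0, 30443, 20997, 23989, 0, 130307, 20499, 30011, 0, 47, 37, 70571, 0, 43, 20005,
   24001, 0, 24003, 13, 89, 0, 24007, 167, 190211, 0, 191, 59, 24013, 0, 73, 20251, 103, 0, 24019, 67,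
   24021, 0, 30149, 20503, 23, 0, 24027, 53, 79, 0, 290139, 0, 370109, 0, 269, 21009, 110367, 0, 70577, 101]

theorem check3841 : checkFrom 3841 codes3841 = true := by
  decide +kernel

/-- Codes for the orders from 4041. -/
def codes4041 : List ℕ :=
  [30449, 0, 130311, 337, 50809, 0, 71, 23, 24049, 0, 24051, 21013, 193, 0, 50811, 13, 24057, 0, 41, 29,
   310131, 0, 170239, 20127, 271, 0, 70083, 113, 130313, 0, 59, 20509, 24073, 0, 50163, 21019, 30151, 0, 24079, 0,
   53, 0, 31361, 21021, 43, 0, 610067, 73, 47, 0, 24091, 31, 24093, 0, 5, 30002, 170241, 0, 24099, 41,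
   31367, 0, 110373, 19, 50821, 0, 30037, 79, 70587, 0, 24111, 20257, 30457, 0, 50823, 7, 230179, 0, 31373, 103,
   130317, 0, 31, 21031, 11, 0, 24127, 43, 24129, 0, 30017, 21033, 24133, 0, 50827, 47, 197, 0, 24139, 23,
   410101, 0, 31381, 37, 50829, 0, 29, 61, 30461, 0, 70593, 173, 24153, 0, 277, 21039, 24157, 0, 24159, 0,
   73, 0, 230181, 347, 17, 0, 30463, 20521, 110379, 0, 430097, 149, 107, 0, 50167, 29, 24177, 0, 199, 19,
   370113, 0, 470089, 20523, 31, 0, 530079, 349, 590071, 0, 127, 20131, 70599, 0, 50839, 21049, 31399, 0, 19, 0,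
   24201, 0, 30467, 21051, 50029, 0, 70601, 20263, 61, 0, 24211, 0, 110383, 0, 281, 31, 24217, 0, 24219, 211,
   67, 0, 410103, 11, 50013, 0, 31409, 151, 24229, 0, 24231, 20023, 83, 0, 11, 353, 190223, 0, 30157, 53]

theorem check4041 : checkFrom 4041 codes4041 = true := by
  decide +kernel

/-- Codes for the orders from 4241. -/
def codes4241 : List ℕ :=
  [24241, 0, 24243, 21061, 283, 0, 310137, 59, 70607, 0, 109, 21063, 24253, 0, 37, 19, 43, 0, 24259, 71,
   24261, 0, 29, 41, 50853, 0, 170251, 97, 31423, 0, 24271, 89, 24273, 0, 19, 21069, 47, 0, 110389, 107,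
   31427, 0, 24283, 17, 50857, 0, 31429, 20067, 24289, 0, 70613, 37, 30053, 0, 50859, 179, 24297, 0, 31433, 43,
   23, 0, 130331, 20269, 41, 0, 590073, 359, 310139, 0, 30479, 11, 190227, 0, 50863, 83, 31439, 0, 70617, 0,
   290149, 0, 131, 47, 50173, 0, 24327, 20541, 37, 0, 610071, 19, 70619, 0, 17, 20271, 24337, 0, 24339, 31,
   31447, 0, 430101, 181, 79, 0, 23, 21087, 24349, 0, 190229, 20017, 31451, 0, 67, 11, 24357, 0, 31453, 109,
   70089, 0, 24363, 21091, 97, 0, 110397, 13, 170257, 0, 47, 21093, 24373, 0, 50007, 20547, 31459, 0, 290151, 73,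
   130337, 0, 30487, 20137, 50877, 0, 410107, 21097, 11, 0, 24391, 61, 230191, 0, 293, 157, 24397, 0, 530083, 0,
   30163, 0, 37, 367, 50881, 0, 113, 29, 24409, 0, 110401, 21103, 31471, 0, 50883, 23, 70631, 0, 30491, 17,
   24421, 0, 24423, 79, 59, 0, 190233, 41, 430103, 0, 211, 20277, 31, 0, 50887, 21109, 29, 0, 230193, 37]

theorem check4241 : checkFrom 4241 codes4241 = true := by
  decide +kernel

/-- Codes for the orders from 4441. -/
def codes4441 : List ℕ :=
  [24441, 0, 31481, 101, 127, 0, 24447, 20139, 31483, 0, 24451, 53, 610073, 0, 11, 20557, 24457, 0, 70013, 223,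
   31487, 0, 24463, 31, 47, 0, 31489, 21117, 410109, 0, 170263, 43, 71, 0, 50179, 373, 110037, 0, 31493, 2,
   24481, 0, 24483, 59, 23, 0, 70641, 17, 20067, 0, 30499, 21123, 24493, 0, 31, 20281, 31499, 0, 110409, 5,
   70643, 0, 79, 20563, 53, 0, 24507, 23, 30167, 0, 130347, 47, 24513, 0, 43, 21129, 24517, 0, 24519, 113,
   137, 0, 24523, 29, 50181, 0, 30503, 20283, 70647, 0, 230197, 103, 31511, 0, 50907, 0, 130349, 0, 89, 227,
   190239, 0, 59, 20071, 101, 0, 24547, 379, 24549, 0, 41, 20569, 290157, 0, 50911, 67, 31, 0, 470097, 19,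
   24561, 0, 30013, 163, 83, 0, 24567, 20571, 31523, 0, 70653, 127, 170269, 0, 61, 13, 230199, 0, 190241, 229,
   30509, 0, 24583, 191, 131, 0, 139, 37, 130353, 0, 24591, 41, 31531, 0, 50919, 383, 24597, 0, 73, 23,
   430107, 0, 24603, 21151, 307, 0, 170271, 20003, 110419, 0, 53, 21153, 70659, 0, 71, 20577, 30019, 0, 310149, 0,
   24621, 0, 67, 20017, 50037, 0, 70661, 89, 31543, 0, 110421, 193, 410113, 0, 103, 61, 24637, 0, 24639, 29]

theorem check4441 : checkFrom 4441 codes4441 = true := by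
  decide +kernel

/-- Codes for the orders from 4641. -/
def codes4641 : List ℕ :=
  [17, 0, 24643, 43, 50929, 0, 31549, 83, 24649, 0, 24651, 21163, 47, 0, 19, 97, 24657, 0, 31553, 233,
   590079, 0, 24663, 53, 311, 0, 130359, 389, 29, 0, 30173, 20073, 24673, 0, 17, 167, 31559, 0, 24679, 0,
   310151, 0, 223, 21171, 50937, 0, 430109, 20293, 30521, 0, 24691, 23, 130019, 0, 313, 20587, 61, 0, 370127, 47,
   31567, 0, 24703, 7, 50941, 0, 30523, 107, 170277, 0, 70673, 31, 31571, 0, 41, 131, 530089, 0, 13, 59,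
   24721, 0, 24723, 21181, 5, 0, 290163, 197, 24729, 0, 83, 13, 24733, 0, 50947, 20037, 31579, 0, 70677, 79,
   110431, 0, 31, 20593, 73, 0, 470101, 21187, 31583, 0, 24751, 11, 70097, 0, 317, 41, 670071, 0, 24759, 0,
   30023, 0, 110433, 397, 50953, 0, 227, 20149, 190251, 0, 130367, 21193, 43, 0, 50191, 199, 170281, 0, 30059, 239,
   70683, 0, 24783, 23, 29, 0, 24787, 19, 24789, 0, 31597, 20599, 24793, 0, 137, 109, 41, 0, 24799, 0,
   24801, 0, 31601, 21201, 50031, 0, 23, 20601, 229, 0, 170283, 401, 24813, 0, 107, 43, 24817, 0, 610079, 241,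
   31607, 0, 53, 67, 50193, 0, 31609, 71, 110439, 0, 24831, 20151, 30179, 0, 50967, 31, 70691, 0, 31613, 11]

theorem check4641 : checkFrom 4641 codes4641 = true := by
  decide +kernel

/-- Codes for the orders from 4841. -/
def codes4841 : List ℕ :=
  [470103, 0, 290167, 173, 19, 0, 370131, 101, 130373, 0, 11, 21213, 230211, 0, 50971, 20607, 31619, 0, 430113, 3,
   24861, 0, 31621, 20019, 139, 0, 310157, 21217, 30541, 0, 24871, 29, 110443, 0, 13, 53, 24877, 0, 41, 61,
   31627, 0, 190257, 37, 50977, 0, 30181, 47, 24889, 0, 670073, 21223, 233, 0, 89, 17, 590083, 0, 71, 5,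
   130029, 0, 24903, 20613, 109, 0, 70701, 409, 24909, 0, 31637, 20307, 20017, 0, 50983, 21229, 149, 0, 24919, 41,
   37, 0, 30547, 21231, 50197, 0, 130379, 0, 53, 0, 24931, 137, 24933, 0, 47, 20617, 24937, 0, 110449, 19,
   30061, 0, 24943, 103, 43, 0, 97, 21237, 70101, 0, 24951, 20619, 127, 0, 50991, 59, 24957, 0, 29, 0,
   110041, 0, 70709, 73, 331, 0, 24967, 23, 24969, 0, 31657, 113, 24973, 0, 50199, 20311, 79, 0, 130383, 83,
   170293, 0, 151, 89, 50997, 0, 24987, 43, 31663, 0, 31, 13, 24993, 0, 37, 21249, 190263, 0, 24999, 20005,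
   31667, 0, 25003, 139, 13, 0, 31669, 20313, 25009, 0, 25011, 179, 30557, 0, 59, 19, 290173, 0, 239, 251,
   25021, 0, 25023, 20157, 67, 0, 110457, 419, 470107, 0, 43, 37, 70719, 0, 53, 21259, 73, 0, 25039, 0]

theorem check4841 : checkFrom 4841 codes4841 = true := by
  decide +kernel

/-- Codes for the orders from 5041. -/
def codes5041 : List ℕ :=
  [20071, 0, 30041, 97, 51009, 0, 70103, 20631, 17, 0, 25051, 421, 310163, 0, 337, 20079, 130389, 0, 25059, 23,
   241, 0, 610083, 211, 51013, 0, 30563, 181, 370137, 0, 110461, 20317, 89, 0, 29, 47, 25077, 0, 31693, 127,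
   25081, 0, 23, 41, 113, 0, 25087, 53, 70727, 0, 31697, 67, 110463, 0, 51019, 7, 31699, 0, 25099, 17,
   25101, 0, 30007, 0, 51021, 0, 25107, 21277, 131, 0, 190269, 71, 25113, 0, 31, 21279, 43, 0, 25119, 20005,
   30569, 0, 470109, 61, 50041, 0, 31709, 20641, 230223, 0, 70733, 21283, 59, 0, 79, 107, 110467, 0, 30571, 257,
   530097, 0, 370139, 20643, 7, 0, 25147, 0, 190271, 0, 101, 23, 25153, 0, 51031, 21289, 30191, 0, 67, 43,
   130397, 0, 31721, 21291, 51033, 0, 25167, 19, 31723, 0, 25171, 431, 70739, 0, 23, 20647, 310167, 0, 25179, 37,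
   157, 0, 710073, 20003, 61, 0, 19, 21297, 25189, 0, 290179, 59, 30577, 0, 51039, 433, 25197, 0, 31733, 0,
   70743, 0, 110043, 21301, 347, 0, 410127, 31, 25209, 0, 30193, 21303, 130401, 0, 149, 20163, 47, 0, 170307, 29,
   230227, 0, 31741, 20653, 19, 0, 25227, 21307, 83, 0, 25231, 109, 25233, 0, 349, 0, 25237, 0, 130031, 131]

theorem check5041 : checkFrom 5041 codes5041 = true := by
  decide +kernel

/-- Codes for the orders from 5241. -/
def codes5241 : List ℕ :=
  [31747, 0, 70107, 23, 51049, 0, 53, 20041, 290181, 0, 590089, 101, 103, 0, 51051, 73, 70751, 0, 31753, 263,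
   25261, 0, 190277, 47, 5, 0, 230229, 439, 110479, 0, 251, 20659, 25273, 0, 50211, 21319, 31759, 0, 25279, 11,
   25281, 0, 30587, 21321, 151, 0, 170311, 20661, 43, 0, 37, 7, 670079, 0, 353, 20331, 25297, 0, 70757, 53,
   31, 0, 25303, 13, 51061, 0, 61, 21327, 25309, 0, 470113, 20083, 23, 0, 51063, 443, 130409, 0, 30197, 19,
   170313, 0, 25323, 20011, 71, 0, 70761, 37, 20073, 0, 31777, 43, 25333, 0, 97, 29, 30593, 0, 190281, 89,
   70109, 0, 137, 20167, 51069, 0, 25347, 191, 31783, 0, 25351, 223, 530101, 0, 17, 103, 110487, 0, 230233, 67,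
   31787, 0, 310173, 149, 37, 0, 31789, 61, 59, 0, 410131, 79, 30199, 0, 50043, 0, 190283, 0, 163, 269,
   25381, 0, 70769, 20673, 359, 0, 25387, 449, 170317, 0, 30599, 20337, 25393, 0, 83, 71, 257, 0, 25399, 0,
   110491, 0, 31801, 193, 47, 0, 25407, 20013, 30601, 0, 70773, 41, 25413, 0, 19, 20677, 25417, 0, 25419, 271,
   139, 0, 29, 113, 31, 0, 30067, 59, 610089, 0, 25431, 97, 31811, 0, 51087, 151, 25437, 0, 37, 17]

theorem check5241 : checkFrom 5241 codes5241 = true := by
  decide +kernel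

/-- Codes for the orders from 5441. -/
def codes5441 : List ℕ :=
  [25441, 0, 25443, 21361, 11, 0, 130419, 227, 25449, 0, 79, 47, 41, 0, 51091, 31, 107, 0, 530103, 0,
   430127, 0, 30607, 20683, 51093, 0, 71, 21367, 31823, 0, 25471, 0, 130421, 0, 73, 20037, 25477, 0, 25479, 137,
   29, 0, 25483, 457, 51097, 0, 59, 20007, 110499, 0, 170019, 21373, 31831, 0, 157, 229, 230239, 0, 47, 5,
   25501, 0, 25503, 20043, 367, 0, 25507, 17, 70787, 0, 167, 53, 370149, 0, 51103, 197, 30613, 0, 25519, 23,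
   25521, 0, 263, 21381, 17, 0, 25527, 20691, 97, 0, 25531, 461, 110503, 0, 41, 20173, 70113, 0, 290191, 277,
   31847, 0, 230241, 11, 51109, 0, 30043, 73, 310179, 0, 61, 20347, 30617, 0, 101, 463, 25557, 0, 109, 139,
   670083, 0, 25563, 107, 53, 0, 190293, 29, 25569, 0, 30619, 199, 25573, 0, 50223, 41, 13, 0, 70797, 31,
   25581, 0, 31861, 20349, 51117, 0, 370151, 127, 30023, 0, 25591, 233, 47, 0, 373, 21399, 290193, 0, 110509, 0,
   31867, 0, 130431, 467, 59, 0, 89, 20701, 710079, 0, 310181, 61, 31871, 0, 51123, 0, 410137, 0, 31873, 281,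
   73, 0, 25623, 37, 30005, 0, 170331, 67, 130433, 0, 31877, 20011, 430131, 0, 23, 21409, 31879, 0, 25639, 47]

theorem check5441 : checkFrom 5441 codes5441 = true := by
  decide +kernel

/-- Codes for the orders from 5641. -/
def codes5641 : List ℕ :=
  [25641, 0, 19, 83, 51129, 0, 25647, 20353, 269, 0, 25651, 157, 25653, 0, 29, 101, 25657, 0, 25659, 283,
   37, 0, 70809, 59, 103, 0, 31889, 109, 25669, 0, 530107, 20709, 61, 0, 50227, 11, 70811, 0, 30631, 71,
   23, 0, 25683, 29, 379, 0, 110047, 79, 25689, 0, 271, 21423, 25693, 0, 67, 20089, 30211, 0, 410139, 19,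
   25701, 0, 31901, 31, 163, 0, 130439, 21427, 173, 0, 25711, 17, 290197, 0, 127, 21429, 25717, 0, 43, 13,
   31907, 0, 590097, 0, 50229, 0, 83, 20179, 170337, 0, 110521, 21433, 13, 0, 37, 239, 25737, 0, 31913, 41,
   25741, 0, 25743, 20359, 383, 0, 70821, 479, 25749, 0, 30071, 20719, 110523, 0, 51151, 21439, 101, 0, 130443, 0,
   70823, 0, 113, 131, 51153, 0, 730079, 103, 30641, 0, 290199, 37, 230251, 0, 11, 20019, 530109, 0, 25779, 17,
   47, 0, 25783, 241, 89, 0, 30643, 21447, 70827, 0, 25791, 20181, 31931, 0, 61, 23, 31, 0, 31933, 29,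
   25801, 0, 70829, 21451, 43, 0, 25807, 11, 370157, 0, 149, 21453, 25813, 0, 51163, 20727, 277, 0, 110023, 97,
   25821, 0, 30647, 13, 50233, 0, 25827, 47, 67, 0, 70017, 20003, 190307, 0, 389, 21459, 130449, 0, 25839, 73]

theorem check5641 : checkFrom 5641 codes5641 = true := by
  decide +kernel

/-- Codes for the orders from 5841. -/
def codes5841 : List ℕ :=
  [59, 0, 25843, 487, 167, 0, 31949, 43, 25849, 0, 25851, 0, 31951, 0, 51171, 61, 25857, 0, 7, 293,
   25861, 0, 41, 20733, 23, 0, 25867, 163, 25869, 0, 103, 20367, 70839, 0, 50047, 113, 30653, 0, 25879, 0,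
   25881, 0, 53, 21471, 107, 0, 70029, 20023, 151, 0, 430137, 491, 710083, 0, 131, 67, 25897, 0, 170347, 59,
   281, 0, 25903, 41, 51181, 0, 179, 211, 190311, 0, 230257, 20739, 30073, 0, 13, 29, 610097, 0, 31973, 37,
   310191, 0, 25923, 21481, 79, 0, 25927, 13, 70011, 0, 30659, 21483, 170349, 0, 51187, 53, 31979, 0, 25939, 0,
   130457, 0, 283, 20743, 41, 0, 190313, 21487, 30661, 0, 110541, 31, 25953, 0, 397, 21489, 37, 0, 590101, 149,
   31987, 0, 670089, 71, 51193, 0, 17, 20373, 470127, 0, 70853, 21493, 181, 0, 50239, 83, 430139, 0, 31993, 23,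
   25981, 0, 310193, 17, 19, 0, 25987, 499, 530113, 0, 31997, 107, 130461, 0, 109, 21499, 31999, 0, 70857, 5,
   170353, 0, 29, 79, 51201, 0, 26007, 20751, 32003, 0, 26011, 167, 70859, 0, 401, 20047, 110547, 0, 130463, 43,
   30223, 0, 190317, 251, 50241, 0, 41, 137, 26029, 0, 370163, 29, 32011, 0, 71, 503, 26037, 0, 61, 151]

theorem check5841 : checkFrom 5841 codes5841 = true := by
  decide +kernel

/-- Codes for the orders from 6041. -/
def codes6041 : List ℕ :=
  [70863, 0, 26043, 21511, 31, 0, 26047, 0, 230263, 0, 32017, 89, 26053, 0, 173, 20757, 30673, 0, 730083, 101,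
   29, 0, 47, 20379, 51213, 0, 26067, 41, 17, 0, 130467, 0, 26073, 0, 30005, 31, 590103, 0, 26079, 19,
   32027, 0, 79, 13, 51217, 0, 32029, 20761, 26089, 0, 26091, 21523, 30677, 0, 53, 127, 67, 0, 107, 61,
   26101, 0, 170359, 109, 37, 0, 310197, 509, 410149, 0, 97, 20191, 26113, 0, 51223, 139, 32039, 0, 290211, 17,
   26121, 0, 157, 21531, 50007, 0, 110557, 20383, 30227, 0, 26131, 73, 26133, 0, 409, 59, 170019, 0, 70877, 307,
   89, 0, 26143, 20003, 51229, 0, 30683, 53, 43, 0, 26151, 20769, 293, 0, 51231, 19, 470131, 0, 32053, 0,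
   610101, 0, 26163, 67, 137, 0, 70881, 257, 310199, 0, 17, 21543, 26173, 0, 19, 20193, 71, 0, 370167, 103,
   70883, 0, 30229, 20773, 51237, 0, 230269, 17, 32063, 0, 410151, 43, 110563, 0, 59, 21549, 26197, 0, 26199, 31,
   53, 0, 26203, 47, 73, 0, 32069, 20097, 70887, 0, 26211, 21553, 109, 0, 113, 37, 26217, 0, 30691, 311,
   26221, 0, 70127, 20389, 83, 0, 130479, 173, 26229, 0, 67, 41]

theorem check6041 : checkFrom 6041 codes6041 = true := by
  decide +kernel

/-- The orders left by the sieve. -/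
theorem card_mem {G : Type*} [Group G] [Finite G] [IsSimpleGroup G] (hG : ¬ IsMulCommutative G)
    (h1 : 3640 < Nat.card G) (h2 : Nat.card G ≤ 6232) : Nat.card G ∈ survivors := by
  by_cases h3641 : Nat.card G < 3841
  · exact of_check hG check3641 (by omega) (by rw [show codes3641.length = 200 by decide +kernel]; omega)
  by_cases h3841 : Nat.card G < 4041
  · exact of_check hG check3841 (by omega) (by rw [show codes3841.length = 200 by decide +kernel]; omega)
  by_cases h4041 : Nat.card G < 4241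
  · exact of_check hG check4041 (by omega) (by rw [show codes4041.length = 200 by decide +kernel]; omega)
  by_cases h4241 : Nat.card G < 4441
  · exact of_check hG check4241 (by omega) (by rw [show codes4241.length = 200 by decide +kernel]; omega)
  by_cases h4441 : Nat.card G < 4641
  · exact of_check hG check4441 (by omega) (by rw [show codes4441.length = 200 by decide +kernel]; omega)
  by_cases h4641 : Nat.card G < 4841
  · exact of_check hG check4641 (by omega) (by rw [show codes4641.length = 200 by decide +kernel]; omega)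
  by_cases h4841 : Nat.card G < 5041
  · exact of_check hG check4841 (by omega) (by rw [show codes4841.length = 200 by decide +kernel]; omega)
  by_cases h5041 : Nat.card G < 5241
  · exact of_check hG check5041 (by omega) (by rw [show codes5041.length = 200 by decide +kernel]; omega)
  by_cases h5241 : Nat.card G < 5441
  · exact of_check hG check5241 (by omega) (by rw [show codes5241.length = 200 by decide +kernel]; omega)
  by_cases h5441 : Nat.card G < 5641
  · exact of_check hG check5441 (by omega) (by rw [show codes5441.length = 200 by decide +kernel]; omega)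
  by_cases h5641 : Nat.card G < 5841
  · exact of_check hG check5641 (by omega) (by rw [show codes5641.length = 200 by decide +kernel]; omega)
  by_cases h5841 : Nat.card G < 6041
  · exact of_check hG check5841 (by omega) (by rw [show codes5841.length = 200 by decide +kernel]; omega)
  exact of_check hG check6041 (by omega) (by rw [show codes6041.length = 192 by decide +kernel]; omega)

end SmallRange
end H62
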