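import Mathlib
import Cfsg.Agent.H62.RuLatticeSpan

/-!
# Finite checks for the Rudvalis lattice
-/

set_option autoImplicit false

namespace H62.Ru

open Cfsg.Spor

/-- A word as a function. -/
def word (m : ℕ) (p : RuIdx) : ZMod 2 := if m.testBit (4 * (p.1 : ℕ) + (p.2 : ℕ)) then 1 else 0

/-- A bit of a mask. -/
def bit (m i : ℕ) : ZMod 2 := if m.testBit i then 1 else 0

/-- The parity word of a combination. -/
noncomputable def cwP (c : Fin 9 → ZMod 2) (p : RuIdx) : ZMod 2 :=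
  ∑ i : Fin 9, c i * word (xP.getD i 0) p

/-- The real parity word of a combination. -/
noncomputable def cwQ (d : Fin 10 → ZMod 2) (p : RuIdx) : ZMod 2 :=
  ∑ i : Fin 10, d i * word (yQ.getD i 0) p

theorem basis_code_check : ∀ bc ∈ basisData.zip coeffData, ∀ p : RuIdx,
    ((((ofList bc.1 p).re + (ofList bc.1 p).im : ℤ) : ZMod 2) = cwP (fun i => bit bc.2.1 i) p) ∧
    (((ofList bc.1 p).re : ℤ) : ZMod 2) =
      (∑ i : Fin 9, bit bc.2.1 i * word (xQ.getD i 0) p) + cwQ (fun i => bit bc.2.2 i) p := by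
  decide +kernel

theorem lengths_eq : basisData.length = coeffData.length := by decide +kernel

/-- Inner product of lists. -/
def dotList : List ℤ → List ℤ → ℤ
  | x :: a, y :: b => x * y + dotList a b
  | _, _ => 0

theorem dot_check : ∀ a ∈ basisData, (∀ b ∈ basisData, dotList a b % 4 = 0) ∧ dotList a a % 8 = 0 := by
  decide +kernel

/-- The support of a word. -/
def supp (w : RuIdx → ZMod 2) : Finset RuIdx := Finset.univ.filter fun p => w p = 1

theorem weight_check : ∀ c : Fin 9 → ZMod 2, (supp (cwP c)).card ≤ 8 →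
    (supp (cwP c) = ∅ ∧ c = 0) ∨ ((supp (cwP c)).card = 8 ∧ ∃ ab ∈ certData,
      (∀ p, cwP c p = 1 → word ab.2 p = 0) ∧ (∑ p, word ab.1 p * cwP c p) = 1) := by
  decide +kernel

theorem cert_check : ∀ ab ∈ certData,
    (∀ i : Fin 9, ∑ p : RuIdx, (word ab.1 p * word (xP.getD i 0) p + word ab.2 p * word (xQ.getD i 0) p) = 0) ∧
    (∀ i : Fin 10, ∑ p : RuIdx, word ab.2 p * word (yQ.getD i 0) p = 0) := by
  decide +kernel

theorem real_weight_check : ∀ d : Fin 10 → ZMod 2, (supp (cwQ d)).card ≤ 4 →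
    supp (cwQ d) = ∅ ∨ ∃ s ∈ fourData, supp (cwQ d) = s.toFinset := by
  decide +kernel

/-- The four values of norm two. -/
def normTwoVals : List (ℤ × ℤ) := [(1, 1), (1, -1), (-1, 1), (-1, -1)]

/-- The four values of norm one. -/
def normOneVals : List (ℤ × ℤ) := [(1, 0), (-1, 0), (0, 1), (0, -1)]

/-- One term of an inner product. -/
def term (b : List ℤ) (e : RuIdx × ℤ × ℤ) : ℤ := e.2.1 * (ofList b e.1).re + e.2.2 * (ofList b e.1).im

theorem four_check : ∀ s ∈ fourData, ∀ a ∈ normTwoVals, ∀ b ∈ normTwoVals, ∀ c ∈ normTwoVals,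
    ∀ e ∈ normTwoVals, s.Nodup ∧ s.length = 4 ∧
      ∃ l ∈ basisData, ((s.zip [a, b, c, e]).map (term l)).sum % 4 ≠ 0 := by
  decide +kernel

theorem pair_check : ∀ p q : RuIdx, p ≠ q → ∀ a ∈ normOneVals, ∀ b ∈ normOneVals,
    ∃ l ∈ basisData, (2 * term l (p, a) + 2 * term l (q, b)) % 4 ≠ 0 := by
  decide +kernel

theorem single_check : ∀ p : RuIdx, ∀ a ∈ normTwoVals, ∃ l ∈ basisData, (2 * term l (p, a)) % 4 ≠ 0 := by
  decide +kernel

end H62.Ru
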