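import Mathlib
import Cfsg.Agent.H62.RuLatticeChecks

/-!
# The minimal norm of the Rudvalis lattice
-/

set_option autoImplicit false

namespace H62.Ru

open Cfsg.Spor

/-- The real inner product. -/
def dot (x y : RuVec) : ℤ := ∑ p, ((x p).re * (y p).re + (x p).im * (y p).im)

/-- Parity of the coordinates, and of their real parts. -/
def parityHom : RuVec →+ (RuIdx → ZMod 2) × (RuIdx → ZMod 2) :=
  AddMonoidHom.mk' (fun v => (fun p => (((v p).re + (v p).im : ℤ) : ZMod 2), fun p => (((v p).re : ℤ) : ZMod 2)))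
    (fun x y => Prod.ext (funext fun p => by simp; ring) (funext fun p => by simp))

/-- The code of the lattice modulo two. -/
noncomputable def codeHom : (Fin 9 → ZMod 2) × (Fin 10 → ZMod 2) →+ (RuIdx → ZMod 2) × (RuIdx → ZMod 2) :=
  AddMonoidHom.mk' (fun cd => (cwP cd.1, fun p => (∑ i : Fin 9, cd.1 i * word (xQ.getD i 0) p) + cwQ cd.2 p))
    (fun a b => Prod.ext (funext fun p => by simp [cwP, add_mul, Finset.sum_add_distrib])
      (funext fun p => by simp [cwQ, add_mul, Finset.sum_add_distrib]; ring))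

theorem exists_code {v : RuVec} (hv : v ∈ ruLattice) :
    ∃ c d, parityHom v = codeHom (c, d) := by
  have h : spanLattice ≤ (codeHom.range).comap parityHom := (AddSubgroup.closure_le _).2 <| by
    rintro _ ⟨b, hb, rfl⟩
    obtain ⟨i, hi, rfl⟩ := List.getElem_of_mem hb
    have hi' : i < coeffData.length := lengths_eq ▸ hi
    have hmem : (basisData[i], coeffData[i]) ∈ basisData.zip coeffData := by
      exact List.mem_iff_getElem.2 ⟨i, by simp [hi, hi'], List.getElem_zip⟩
    refine ⟨(fun j => bit coeffData[i].1 j, fun j => bit coeffData[i].2 j), ?_⟩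
    exact Prod.ext (funext fun p => ((basis_code_check _ hmem p).1).symm)
      (funext fun p => ((basis_code_check _ hmem p).2).symm)
  obtain ⟨⟨c, d⟩, h'⟩ := h (ruLattice_le hv)
  exact ⟨c, d, h'.symm⟩

theorem dot_ofList (a b : List ℤ) :
    dot (ofList a) (ofList b) = ∑ i ∈ Finset.range 56, a.getD i 0 * b.getD i 0 := by
  simp [dot, ofList, Fintype.sum_prod_type, Fin.sum_univ_succ, Finset.sum_range_succ,
    -List.getD_eq_getElem?_getD]
  ring

theorem sum_range_eq_dotList : ∀ (a b : List ℤ), a.length = b.length →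
    ∑ i ∈ Finset.range a.length, a.getD i 0 * b.getD i 0 = dotList a b
  | [], [], _ => rfl
  | x :: a, y :: b, h => by
    rw [List.length_cons, Finset.sum_range_succ', dotList,
      ← sum_range_eq_dotList a b (by simpa using h), add_comm]
    simp

theorem dot_ofList_eq {a b : List ℤ} (ha : a ∈ basisData) (hb : b ∈ basisData) :
    dot (ofList a) (ofList b) = dotList a b := by
  rw [dot_ofList, ← sum_range_eq_dotList a b (by rw [basis_length a ha, basis_length b hb]),
    basis_length a ha]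

theorem dot_add (x y z : RuVec) : dot x (y + z) = dot x y + dot x z := by
  simp [dot, mul_add, Finset.sum_add_distrib]; ring

theorem dot_neg (x y : RuVec) : dot x (-y) = -dot x y := by
  simp [dot, ← Finset.sum_neg_distrib]; exact Finset.sum_congr rfl fun p _ => by ring

theorem dot_comm (x y : RuVec) : dot x y = dot y x :=
  Finset.sum_congr rfl fun p _ => by ring

theorem four_dvd_dot_left {v : RuVec} (hv : v ∈ spanLattice) {a : List ℤ} (ha : a ∈ basisData) :
    (4 : ℤ) ∣ dot (ofList a) v := by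
  induction hv using AddSubgroup.closure_induction with
  | mem x hx =>
    obtain ⟨b, hb, rfl⟩ := hx
    rw [dot_ofList_eq ha hb]
    exact Int.dvd_of_emod_eq_zero ((dot_check a ha).1 b hb)
  | zero => simp [dot]
  | add x y _ _ hx hy => rw [dot_add]; exact dvd_add hx hy
  | neg x _ hx => rw [dot_neg]; exact hx.neg_right

theorem four_dvd_dot {v w : RuVec} (hv : v ∈ spanLattice) (hw : w ∈ spanLattice) :
    (4 : ℤ) ∣ dot v w := by
  induction hw using AddSubgroup.closure_induction with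
  | mem x hx =>
    obtain ⟨a, ha, rfl⟩ := hx
    rw [dot_comm]; exact four_dvd_dot_left hv ha
  | zero => simp [dot]
  | add x y _ _ hx hy => rw [dot_add]; exact dvd_add hx hy
  | neg x _ hx => rw [dot_neg]; exact hx.neg_right

theorem ruNorm_eq_dot (v : RuVec) : ruNorm v = dot v v :=
  Finset.sum_congr rfl fun p _ => by rw [Zsqrtd.norm_def]; ring

theorem eight_dvd_norm_span {v : RuVec} (hv : v ∈ spanLattice) : (8 : ℤ) ∣ ruNorm v := by
  induction hv using AddSubgroup.closure_induction with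
  | mem x hx =>
    obtain ⟨a, ha, rfl⟩ := hx
    rw [ruNorm_eq_dot, dot_ofList_eq ha ha]
    exact Int.dvd_of_emod_eq_zero (dot_check a ha).2
  | zero => simp [ruNorm]
  | add x y hx' hy' hx hy =>
    rw [ruNorm_eq_dot] at hx hy
    rw [ruNorm_eq_dot, dot_add, dot_comm (x + y) x, dot_comm (x + y) y, dot_add, dot_add, dot_comm y x]
    obtain ⟨k, hk⟩ := four_dvd_dot hx' hy'
    obtain ⟨i, hi⟩ := hx
    obtain ⟨j, hj⟩ := hy
    exact ⟨i + j + k, by rw [hi, hj, hk]; ring⟩
  | neg x _ hx => rwa [ruNorm_eq_dot, dot_neg, dot_comm, dot_neg, neg_neg, ← ruNorm_eq_dot]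

theorem gauss_norm_eq (z : GaussianInt) : z.norm = z.re * z.re + z.im * z.im := by
  rw [Zsqrtd.norm_def]; ring

theorem mem_normOne {z : GaussianInt} (h : z.norm = 1) : (z.re, z.im) ∈ normOneVals := by
  rw [gauss_norm_eq] at h
  have h1 : -1 ≤ z.re ∧ z.re ≤ 1 := ⟨by nlinarith, by nlinarith⟩
  have h2 : -1 ≤ z.im ∧ z.im ≤ 1 := ⟨by nlinarith, by nlinarith⟩
  obtain ⟨x, y⟩ := z
  simp only at h h1 h2
  obtain ⟨h1, h1'⟩ := h1
  obtain ⟨h2, h2'⟩ := h2
  interval_cases x <;> interval_cases y <;> simp_all [normOneVals]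

theorem mem_normTwo {z : GaussianInt} (h : z.norm = 2) : (z.re, z.im) ∈ normTwoVals := by
  rw [gauss_norm_eq] at h
  have h1 : -1 ≤ z.re ∧ z.re ≤ 1 := ⟨by nlinarith, by nlinarith⟩
  have h2 : -1 ≤ z.im ∧ z.im ≤ 1 := ⟨by nlinarith, by nlinarith⟩
  obtain ⟨x, y⟩ := z
  simp only at h h1 h2
  obtain ⟨h1, h1'⟩ := h1
  obtain ⟨h2, h2'⟩ := h2
  interval_cases x <;> interval_cases y <;> simp_all [normTwoVals]

theorem norm_nonneg' (z : GaussianInt) : 0 ≤ z.norm := GaussianInt.norm_nonneg z

/-- A combination of the weight function bounded by the norm which attains it. -/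
theorem norm_eq_of_bound {v : RuVec} {s : Finset RuIdx} {k : ℤ} (hs : ∀ p ∈ s, k ≤ (v p).norm)
    (htot : ruNorm v ≤ k * s.card) : (∀ p ∈ s, (v p).norm = k) ∧ ∀ p, p ∉ s → v p = 0 := by
  have hsplit : ruNorm v = ∑ p ∈ s, (v p).norm + ∑ p ∈ sᶜ, (v p).norm :=
    (Finset.sum_add_sum_compl s _).symm
  have h1 : k * s.card ≤ ∑ p ∈ s, (v p).norm := by
    have := Finset.sum_le_sum hs
    rwa [Finset.sum_const, nsmul_eq_mul, mul_comm] at this
  have h2 : 0 ≤ ∑ p ∈ sᶜ, (v p).norm := Finset.sum_nonneg fun p _ => norm_nonneg' _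
  constructor
  · intro p hp
    refine le_antisymm ?_ (hs p hp)
    by_contra hlt
    have := Finset.sum_lt_sum hs ⟨p, hp, lt_of_not_ge hlt⟩
    rw [Finset.sum_const, nsmul_eq_mul, mul_comm] at this
    omega
  · intro p hp
    have h3 : ∑ q ∈ sᶜ, (v q).norm = 0 := by omega
    have := (Finset.sum_eq_zero_iff_of_nonneg fun q _ => norm_nonneg' _).1 h3 p (Finset.mem_compl.2 hp)
    exact Zsqrtd.norm_eq_zero_iff (by norm_num) _ |>.1 this

theorem functional_vanish {n m : ℕ} (α β : RuIdx → ZMod 2) (X XQ : Fin n → RuIdx → ZMod 2)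
    (Y : Fin m → RuIdx → ZMod 2) (c : Fin n → ZMod 2) (d : Fin m → ZMod 2)
    (hX : ∀ i, ∑ p, (α p * X i p + β p * XQ i p) = 0) (hY : ∀ j, ∑ p, β p * Y j p = 0) :
    ∑ p, (α p * (∑ i, c i * X i p) + β p * ((∑ i, c i * XQ i p) + ∑ j, d j * Y j p)) = 0 := by
  have e : ∀ p, α p * (∑ i, c i * X i p) + β p * ((∑ i, c i * XQ i p) + ∑ j, d j * Y j p) =
      ∑ i, c i * (α p * X i p + β p * XQ i p) + ∑ j, d j * (β p * Y j p) := fun p => by
    rw [mul_add, ← add_assoc, Finset.mul_sum, Finset.mul_sum, Finset.mul_sum, ← Finset.sum_add_distrib]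
    refine congrArg₂ (· + ·) (Finset.sum_congr rfl fun i _ => ?_) (Finset.sum_congr rfl fun i _ => ?_)
    · ring
    · ring
  rw [Finset.sum_congr rfl fun p _ => e p, Finset.sum_add_distrib, Finset.sum_comm,
    Finset.sum_eq_zero (fun i _ => by rw [← Finset.mul_sum, hX i, mul_zero]), zero_add, Finset.sum_comm,
    Finset.sum_eq_zero (fun j _ => by rw [← Finset.mul_sum, hY j, mul_zero])]

theorem no_eight_units {v : RuVec} {c : Fin 9 → ZMod 2} {d : Fin 10 → ZMod 2}
    (hcd : parityHom v = codeHom (c, d)) (hN : ruNorm v = 8) (h8 : (supp (cwP c)).card = 8)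
    (ab : ℕ × ℕ) (hab : ab ∈ certData) (hb : ∀ p, cwP c p = 1 → word ab.2 p = 0)
    (ha : (∑ p, word ab.1 p * cwP c p) = 1) : False := by
  have hP : ∀ p, (((v p).re + (v p).im : ℤ) : ZMod 2) = cwP c p := fun p =>
    congrFun (congrArg Prod.fst hcd) p
  have hQ : ∀ p, (((v p).re : ℤ) : ZMod 2) = (∑ i : Fin 9, c i * word (xQ.getD i 0) p) + cwQ d p :=
    fun p => congrFun (congrArg Prod.snd hcd) p
  obtain ⟨hone, hzero⟩ := norm_eq_of_bound (v := v) (s := supp (cwP c)) (k := 1) (fun p hp => by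
    have h0 := norm_nonneg' (v p)
    by_contra hlt
    have hz : v p = 0 := (Zsqrtd.norm_eq_zero_iff (by norm_num) _).1 (by omega)
    have := hP p
    rw [(Finset.mem_filter.1 hp).2, hz] at this
    simp at this) (by rw [hN, h8]; norm_num)
  obtain ⟨hX, hY⟩ := cert_check ab hab
  have hzeroQ : ∀ p, word ab.2 p * (((v p).re : ℤ) : ZMod 2) = 0 := fun p => by
    by_cases hp : p ∈ supp (cwP c)
    · rw [hb p (Finset.mem_filter.1 hp).2, zero_mul]
    · rw [hzero p hp]; simp
  have hsum : ∑ p, (word ab.1 p * cwP c p + word ab.2 p * (((v p).re : ℤ) : ZMod 2)) = 0 := by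
    rw [Finset.sum_congr rfl fun p _ => by rw [hQ p]]
    exact functional_vanish (word ab.1) (word ab.2) (fun i p => word (xP.getD i 0) p)
      (fun i p => word (xQ.getD i 0) p) (fun i p => word (yQ.getD i 0) p) c d hX hY
  rw [Finset.sum_add_distrib, ha, Finset.sum_eq_zero fun p _ => hzeroQ p] at hsum
  simp at hsum

theorem dot_eq_sum_of_zero {v : RuVec} {s : Finset RuIdx} (hzero : ∀ p, p ∉ s → v p = 0) (l : List ℤ) :
    dot v (ofList l) = ∑ p ∈ s, term l (p, (v p).re, (v p).im) := by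
  symm
  refine Finset.sum_subset (Finset.subset_univ s) fun p _ hp => ?_
  simp [term, hzero p hp]

theorem basis_mem_span {l : List ℤ} (hl : l ∈ basisData) : ofList l ∈ spanLattice :=
  AddSubgroup.subset_closure (show ofList l ∈ {v | ∃ l ∈ basisData, v = ofList l} from ⟨l, hl, rfl⟩)

theorem no_four {v : RuVec} (hv : v ∈ spanLattice) (hN : ruNorm v = 8) {s : List RuIdx}
    (hs : s ∈ fourData) (hge : ∀ p ∈ s, 2 ≤ (v p).norm) : False := by
  obtain ⟨hnd, hlen, -⟩ := four_check s hs (1, 1) (by simp [normTwoVals]) (1, 1) (by simp [normTwoVals])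
    (1, 1) (by simp [normTwoVals]) (1, 1) (by simp [normTwoVals])
  obtain ⟨htwo, hzero⟩ := norm_eq_of_bound (v := v) (s := s.toFinset) (k := 2)
    (fun p hp => hge p (List.mem_toFinset.1 hp))
    (by rw [hN, List.toFinset_card_of_nodup hnd, hlen]; norm_num)
  obtain ⟨p₀, p₁, p₂, p₃, rfl⟩ : ∃ a b c d, s = [a, b, c, d] := by
    match s, hlen with
    | [a, b, c, d], _ => exact ⟨a, b, c, d, rfl⟩
  have hm : ∀ p ∈ [p₀, p₁, p₂, p₃], ((v p).re, (v p).im) ∈ normTwoVals := fun p hp =>
    mem_normTwo (htwo p (List.mem_toFinset.2 hp))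
  obtain ⟨-, -, l, hl, hne⟩ := four_check _ hs _ (hm p₀ (by simp)) _ (hm p₁ (by simp))
    _ (hm p₂ (by simp)) _ (hm p₃ (by simp))
  refine hne (Int.emod_eq_zero_of_dvd ?_)
  have h := four_dvd_dot hv (basis_mem_span hl)
  rw [dot_eq_sum_of_zero hzero, List.sum_toFinset _ hnd] at h
  simpa using h

theorem no_even {v : RuVec} (hv : v ∈ spanLattice) (hN : ruNorm v = 8)
    (heven : ∀ p, ∃ u : GaussianInt, v p = u + u) : False := by
  choose u hu using heven
  have hnorm : ∀ p, (v p).norm = 4 * (u p).norm := fun p => by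
    rw [hu p, gauss_norm_eq, gauss_norm_eq]; simp; ring
  have htot : ∑ p, (u p).norm = 2 := by
    have : ruNorm v = 4 * ∑ p, (u p).norm := by
      rw [Finset.mul_sum]; exact Finset.sum_congr rfl fun p _ => hnorm p
    omega
  obtain ⟨p, hp⟩ : ∃ p, (u p).norm ≠ 0 := by
    by_contra h
    simp only [not_exists, not_not] at h
    rw [Finset.sum_eq_zero fun p _ => h p] at htot
    omega
  have hle : ∀ q, (u q).norm ≤ 2 := fun q => by
    rw [← htot]
    exact Finset.single_le_sum (fun r _ => norm_nonneg' (u r)) (Finset.mem_univ q)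
  have hrest : (u p).norm + ∑ q ∈ Finset.univ.erase p, (u q).norm = 2 := by
    exact (Finset.add_sum_erase Finset.univ (fun q => (u q).norm) (Finset.mem_univ p)).trans htot
  have hp0 := norm_nonneg' (u p)
  rcases (by have := hle p; omega : (u p).norm = 2 ∨ (u p).norm = 1) with h | h
  · obtain ⟨l, hl, hne⟩ := single_check p _ (mem_normTwo h)
    refine hne (Int.emod_eq_zero_of_dvd ?_)
    have hd := four_dvd_dot hv (basis_mem_span hl)
    have hz : ∀ q, q ∉ ({p} : Finset RuIdx) → v q = 0 := by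
      intro q hq
      rw [Finset.mem_singleton] at hq
      have h0 : ∑ q ∈ Finset.univ.erase p, (u q).norm = 0 := by omega
      have := (Finset.sum_eq_zero_iff_of_nonneg fun r _ => norm_nonneg' (u r)).1 h0 q
        (Finset.mem_erase.2 ⟨hq, Finset.mem_univ q⟩)
      rw [hu q, (Zsqrtd.norm_eq_zero_iff (by norm_num) _).1 this, add_zero]
    rw [dot_eq_sum_of_zero hz, Finset.sum_singleton] at hd
    convert hd using 1
    simp [term, hu p]; ring
  · obtain ⟨q, hqm, hq⟩ : ∃ q ∈ Finset.univ.erase p, (u q).norm ≠ 0 :=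
      Finset.exists_ne_zero_of_sum_ne_zero (by omega)
    have hq0 := norm_nonneg' (u q)
    have hqle : (u q).norm ≤ ∑ r ∈ Finset.univ.erase p, (u r).norm :=
      Finset.single_le_sum (fun r _ => norm_nonneg' (u r)) hqm
    have hq1 : (u q).norm = 1 := by omega
    have hpq : p ≠ q := fun e => (Finset.mem_erase.1 hqm).1 e.symm
    have hrest2 : ∑ r ∈ (Finset.univ.erase p).erase q, (u r).norm = 0 := by
      have := Finset.add_sum_erase (Finset.univ.erase p) (fun r => (u r).norm) hqm
      omega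
    obtain ⟨l, hl, hne⟩ := pair_check p q hpq _ (mem_normOne h) _ (mem_normOne hq1)
    refine hne (Int.emod_eq_zero_of_dvd ?_)
    have hd := four_dvd_dot hv (basis_mem_span hl)
    have hz : ∀ r, r ∉ ({p, q} : Finset RuIdx) → v r = 0 := by
      intro r hr
      simp only [Finset.mem_insert, Finset.mem_singleton, not_or] at hr
      have := (Finset.sum_eq_zero_iff_of_nonneg fun r _ => norm_nonneg' (u r)).1 hrest2 r
        (by simp [hr.1, hr.2])
      rw [hu r, (Zsqrtd.norm_eq_zero_iff (by norm_num) _).1 this, add_zero]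
    rw [dot_eq_sum_of_zero hz, Finset.sum_pair hpq] at hd
    convert hd using 1
    simp [term, hu p, hu q]; ring

theorem norm_ne_eight {v : RuVec} (hv : v ∈ ruLattice) : ruNorm v ≠ 8 := by
  intro hN
  obtain ⟨c, d, hcd⟩ := exists_code hv
  have hP : ∀ p, (((v p).re + (v p).im : ℤ) : ZMod 2) = cwP c p := fun p =>
    congrFun (congrArg Prod.fst hcd) p
  have hcard : (supp (cwP c)).card ≤ 8 := by
    have h : ((supp (cwP c)).card : ℤ) ≤ ∑ p ∈ supp (cwP c), (v p).norm := by
      rw [Finset.card_eq_sum_ones, Nat.cast_sum]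
      refine Finset.sum_le_sum fun p hp => ?_
      have h0 := norm_nonneg' (v p)
      by_contra hlt
      have hz : v p = 0 := (Zsqrtd.norm_eq_zero_iff (by norm_num) _).1 (by simp at hlt; omega)
      have := hP p
      rw [(Finset.mem_filter.1 hp).2, hz] at this
      simp at this
    have h2 : ∑ p ∈ supp (cwP c), (v p).norm ≤ ruNorm v :=
      Finset.sum_le_sum_of_subset_of_nonneg (Finset.subset_univ _) fun p _ _ => norm_nonneg' _
    omega
  rcases weight_check c hcard with ⟨-, rfl⟩ | ⟨h8, ab, hab, hb, ha⟩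
  · have hP0 : ∀ p, (((v p).re + (v p).im : ℤ) : ZMod 2) = 0 := fun p => by
      rw [hP p]; simp [cwP]
    have hQ : ∀ p, (((v p).re : ℤ) : ZMod 2) = cwQ d p := fun p => by
      rw [show (((v p).re : ℤ) : ZMod 2) = _ from congrFun (congrArg Prod.snd hcd) p]
      simp [codeHom]
    have hodd : ∀ p ∈ supp (cwQ d), 2 ≤ (v p).norm := by
      intro p hp
      have h1 := hQ p
      rw [(Finset.mem_filter.1 hp).2] at h1
      have h2 := hP0 p
      rw [Int.cast_add, h1] at h2
      have hre : (v p).re ≠ 0 := fun e => by rw [e] at h1; simp at h1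
      have him : (v p).im ≠ 0 := fun e => by rw [e] at h2; simp at h2
      rw [gauss_norm_eq]
      have := mul_self_pos.2 hre
      have := mul_self_pos.2 him
      omega
    have hcard2 : (supp (cwQ d)).card ≤ 4 := by
      have h : ((supp (cwQ d)).card : ℤ) * 2 ≤ ∑ p ∈ supp (cwQ d), (v p).norm := by
        have := Finset.sum_le_sum hodd
        rwa [Finset.sum_const, nsmul_eq_mul] at this
      have h2 : ∑ p ∈ supp (cwQ d), (v p).norm ≤ ruNorm v :=
        Finset.sum_le_sum_of_subset_of_nonneg (Finset.subset_univ _) fun p _ _ => norm_nonneg' _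
      omega
    rcases real_weight_check d hcard2 with h | ⟨s, hs, hset⟩
    · refine no_even (ruLattice_le hv) hN fun p => ?_
      have hp : cwQ d p = 0 := by
        rcases (show ∀ x : ZMod 2, x = 0 ∨ x = 1 by decide) (cwQ d p) with e | e
        · exact e
        · exact absurd (h ▸ Finset.mem_filter.2 ⟨Finset.mem_univ p, e⟩) (Finset.notMem_empty p)
      have h1 := (hQ p).trans hp
      have h2 := hP0 p
      rw [Int.cast_add, h1, zero_add] at h2
      obtain ⟨a, ha⟩ := (ZMod.intCast_eq_zero_iff_even).1 h1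
      obtain ⟨b, hb⟩ := (ZMod.intCast_eq_zero_iff_even).1 h2
      exact ⟨⟨a, b⟩, Zsqrtd.ext ha hb⟩
    · exact no_four (ruLattice_le hv) hN hs fun p hp => hodd p (hset ▸ List.mem_toFinset.2 hp)
  · exact no_eight_units hcd hN h8 ab hab hb ha

theorem lattice_norms : (∀ x ∈ ruLattice, (8 : ℤ) ∣ ruNorm x) ∧ (∀ x ∈ ruLattice, ruNorm x ≠ 8) ∧
    (∀ x ∈ ruLattice, x ≠ 0 → 16 ≤ ruNorm x) ∧ ∃ x ∈ ruLattice, ruNorm x = 16 := by
  have h8 : ∀ x ∈ ruLattice, (8 : ℤ) ∣ ruNorm x := fun x hx => eight_dvd_norm_span (ruLattice_le hx)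
  refine ⟨h8, fun x hx => norm_ne_eight hx, fun x hx hne => ?_, ?_⟩
  · obtain ⟨k, hk⟩ := h8 x hx
    have := norm_ne_eight hx
    have hpos : 0 < ruNorm x := by
      refine lt_of_le_of_ne (Finset.sum_nonneg fun p _ => norm_nonneg' _) fun e => hne ?_
      funext p
      exact (Zsqrtd.norm_eq_zero_iff (by norm_num) _).1
        ((Finset.sum_eq_zero_iff_of_nonneg fun q _ => norm_nonneg' _).1 e.symm p (Finset.mem_univ p))
    omega
  · obtain ⟨v, hv, hN⟩ : ∃ v ∈ ruTable, ruNorm v = 16 := by decide +kernel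
    refine ⟨v, ?_, hN⟩
    rw [ruLattice, AddSubgroup.mem_sInf]
    exact fun L hL => hL.1 v hv

end H62.Ru
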