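import Mathlib

/-!
# Direct indecomposability of parity kernels of products
-/

set_option autoImplicit false

namespace H62

/-- A group is directly indecomposable. -/
def Indec (G : Type*) [Group G] : Prop :=
  ∀ A B : Subgroup G, (∀ a ∈ A, ∀ b ∈ B, a * b = b * a) → A ⊓ B = ⊥ → A ⊔ B = ⊤ → A = ⊥ ∨ B = ⊥

/-- A 2-group with sign and a centre `{1, z}` which is not a central product. -/
structure GoodSigned (W : Type*) [Group W] (s : W →* ℤˣ) : Prop where
  center : ∃ z : W, z ≠ 1 ∧ s z = 1 ∧ z ∈ commutator W ∧ ∀ x, x ∈ Subgroup.center W → x = 1 ∨ x = z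
  odd : ∃ c : W, s c = -1
  no_central_product : ∀ A B : Subgroup W, (∀ a ∈ A, ∀ b ∈ B, a * b = b * a) → A ⊔ B = ⊤ →
    A ≤ Subgroup.center W ∨ B ≤ Subgroup.center W

variable {G : Type*} [Group G]

theorem exists_mul_of_commuting {A B : Subgroup G} (hc : ∀ a ∈ A, ∀ b ∈ B, a * b = b * a)
    (htop : A ⊔ B = ⊤) (x : G) : ∃ a ∈ A, ∃ b ∈ B, x = a * b := by
  have hx : x ∈ A ⊔ B := htop ▸ Subgroup.mem_top x
  rw [Subgroup.sup_eq_closure] at hx
  induction hx using Subgroup.closure_induction with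
  | mem y hy =>
    rcases hy with hy | hy
    · exact ⟨y, hy, 1, one_mem _, (mul_one y).symm⟩
    · exact ⟨1, one_mem _, y, hy, (one_mul y).symm⟩
  | one => exact ⟨1, one_mem _, 1, one_mem _, (one_mul 1).symm⟩
  | mul y z _ _ ihy ihz =>
    obtain ⟨a, ha, b, hb, rfl⟩ := ihy
    obtain ⟨a', ha', b', hb', rfl⟩ := ihz
    refine ⟨a * a', mul_mem ha ha', b * b', mul_mem hb hb', ?_⟩
    rw [mul_assoc a b, ← mul_assoc b a', ← hc a' ha' b hb]
    group
  | inv y _ ihy =>
    obtain ⟨a, ha, b, hb, rfl⟩ := ihy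
    exact ⟨a⁻¹, inv_mem ha, b⁻¹, inv_mem hb, by rw [hc a ha b hb, mul_inv_rev]⟩

/-- A finite `p`-group with centre of order `p` is directly indecomposable. -/
theorem indec_of_center [Finite G] {p : ℕ} [Fact p.Prime] (hG : IsPGroup p G) {z : G}
    (hz : ∀ x, x ∈ Subgroup.center G → x = 1 ∨ x = z) : Indec G := by
  intro A B hc hinf htop
  by_contra hne
  simp only [not_or] at hne
  have hkey : ∀ C D : Subgroup G, C ≠ ⊥ → (∀ a ∈ C, ∀ b ∈ D, a * b = b * a) → C ⊔ D = ⊤ → z ∈ C := by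
    intro C D hC hcd ht
    haveI : Nontrivial C := (Subgroup.nontrivial_iff_ne_bot C).2 hC
    haveI := (hG.to_subgroup C).center_nontrivial
    obtain ⟨⟨⟨a, haC⟩, ha⟩, ha1⟩ := exists_ne (1 : Subgroup.center C)
    have hcen : a ∈ Subgroup.center G := Subgroup.mem_center_iff.2 fun x => by
      obtain ⟨c, hc', d, hd, rfl⟩ := exists_mul_of_commuting hcd ht x
      rw [mul_assoc, ← hcd a haC d hd, ← mul_assoc,
        show c * a = a * c from congrArg Subtype.val (Subgroup.mem_center_iff.1 ha ⟨c, hc'⟩),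
        mul_assoc]
    rcases hz a hcen with h | h
    · exact absurd (Subtype.ext (Subtype.ext h)) ha1
    · exact h ▸ haC
  have h1 := hkey A B hne.1 hc htop
  have h2 := hkey B A hne.2 (fun b hb a ha => (hc a ha b hb).symm) (by rw [sup_comm]; exact htop)
  have h3 : z = 1 := Subgroup.mem_bot.1 (hinf ▸ Subgroup.mem_inf.2 ⟨h1, h2⟩)
  obtain ⟨a, ha, ha1⟩ := (Subgroup.ne_bot_iff_exists_ne_one.1 hne.1 |> fun ⟨a, h⟩ => ⟨a.1, a.2, fun e => h (Subtype.ext e)⟩ : ∃ a ∈ A, a ≠ 1)
  haveI : Nontrivial G := ⟨⟨a, 1, ha1⟩⟩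
  haveI := hG.center_nontrivial
  obtain ⟨⟨w, hw⟩, hw1⟩ := exists_ne (1 : Subgroup.center G)
  rcases hz w hw with h | h
  · exact hw1 (Subtype.ext h)
  · exact hw1 (Subtype.ext (h.trans h3))

variable {ι : Type*} [Fintype ι] [DecidableEq ι] {W : ι → Type*} [∀ i, Group (W i)]

/-- The product of the signs of the factors. -/
def signProd (s : ∀ i, W i →* ℤˣ) : (∀ i, W i) →* ℤˣ where
  toFun f := ∏ i, s i (f i)
  map_one' := by simp
  map_mul' f g := by simp [Finset.prod_mul_distrib]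

theorem signProd_mulSingle (s : ∀ i, W i →* ℤˣ) (i : ι) (x : W i) :
    signProd s (Pi.mulSingle i x) = s i x := by
  show ∏ j, s j (Pi.mulSingle i x j) = _
  rw [Finset.prod_eq_single i (fun j _ hj => by rw [Pi.mulSingle_eq_of_ne hj, map_one])
    (by simp), Pi.mulSingle_eq_same]

/-- The parity kernel of a product of at least two good factors is indecomposable. -/
theorem indec_signProd_ker (s : ∀ i, W i →* ℤˣ) (hW : ∀ i, GoodSigned (W i) (s i))
    (h2 : ∀ i : ι, ∃ j : ι, j ≠ i) : Indec (signProd s).ker := by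
  classical
  intro A B hc hinf htop
  choose z hz1 hzs hzc hzZ using fun i => (hW i).center
  choose c hc' using fun i => (hW i).odd
  -- lifting elements with a compensating odd factor
  have hlift : ∀ i, ∀ x : W i, ∃ e : (signProd s).ker,
      (e : ∀ i, W i) i = x ∧ ∀ j, j ≠ i → ∃ j', j' ≠ i ∧
        ((e : ∀ i, W i) = Pi.mulSingle i x ∨ (e : ∀ i, W i) = Pi.mulSingle i x * Pi.mulSingle j' (c j')) := by
    intro i x
    obtain ⟨j, hj⟩ := h2 i
    rcases Int.units_eq_one_or (s i x) with h | h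
    · exact ⟨⟨Pi.mulSingle i x, by rw [MonoidHom.mem_ker, signProd_mulSingle, h]⟩,
        Pi.mulSingle_eq_same _ _, fun _ _ => ⟨j, hj, Or.inl rfl⟩⟩
    · refine ⟨⟨Pi.mulSingle i x * Pi.mulSingle j (c j), ?_⟩, ?_, fun _ _ => ⟨j, hj, Or.inr rfl⟩⟩
      · rw [MonoidHom.mem_ker, map_mul, signProd_mulSingle, signProd_mulSingle, h, hc' j]; rfl
      · simp [Pi.mulSingle_eq_of_ne (Ne.symm hj)]
  let π : ∀ i, (signProd s).ker →* W i := fun i =>
    (Pi.evalMonoidHom W i).comp (signProd s).ker.subtype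
  have hπ : ∀ i, Function.Surjective (π i) := fun i x =>
    let ⟨e, he, _⟩ := hlift i x; ⟨e, he⟩
  have hcp : ∀ i, A.map (π i) ≤ Subgroup.center (W i) ∨ B.map (π i) ≤ Subgroup.center (W i) := by
    intro i
    refine (hW i).no_central_product _ _ ?_ ?_
    · rintro _ ⟨a, ha, rfl⟩ _ ⟨b, hb, rfl⟩
      rw [← map_mul, hc a ha b hb, map_mul]
    · rw [← Subgroup.map_sup, htop, ← MonoidHom.range_eq_map, MonoidHom.range_eq_top.2 (hπ i)]
  have hcs : ∀ i, ∀ x : W i, x ∈ Subgroup.center (W i) → s i x = 1 := fun i x hx => by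
    rcases hzZ i x hx with rfl | rfl
    · exact map_one _
    · exact hzs i
  have hnot : ∀ i, ¬ (A.map (π i) ≤ Subgroup.center (W i) ∧ B.map (π i) ≤ Subgroup.center (W i)) := by
    intro i hh
    have htop' : A.map (π i) ⊔ B.map (π i) = ⊤ := by
      rw [← Subgroup.map_sup, htop, ← MonoidHom.range_eq_map, MonoidHom.range_eq_top.2 (hπ i)]
    have := hcs i (c i) (sup_le hh.1 hh.2 (htop' ▸ Subgroup.mem_top (c i)))
    rw [hc' i] at this
    exact absurd this (by decide)
  -- one of the factors is central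
  have key : ∀ C D : Subgroup (signProd s).ker, (∀ a ∈ C, ∀ b ∈ D, a * b = b * a) → C ⊓ D = ⊥ →
      C ⊔ D = ⊤ → (∀ i, D.map (π i) ≤ Subgroup.center (W i)) → D = ⊥ := by
    intro C D hcd hinf' ht hD
    have hcomm : ∀ x y : (signProd s).ker, x * y * x⁻¹ * y⁻¹ ∈ C := by
      intro x y
      obtain ⟨a, ha, b, hb, rfl⟩ := exists_mul_of_commuting hcd ht x
      obtain ⟨a', ha', b', hb', rfl⟩ := exists_mul_of_commuting hcd ht y
      have hbc : ∀ d ∈ D, ∀ w : (signProd s).ker, d * w = w * d := fun d hd w =>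
        Subtype.ext (funext fun i => ((Subgroup.mem_center_iff.1 (hD i ⟨d, hd, rfl⟩)) _).symm)
      have e : a * b * (a' * b') * (a * b)⁻¹ * (a' * b')⁻¹ = a * a' * a⁻¹ * a'⁻¹ := by
        simp only [mul_inv_rev]
        calc a * b * (a' * b') * (b⁻¹ * a⁻¹) * (b'⁻¹ * a'⁻¹)
            = a * (b * a') * (b' * b⁻¹) * a⁻¹ * b'⁻¹ * a'⁻¹ := by group
          _ = a * (a' * b) * (b⁻¹ * b') * a⁻¹ * b'⁻¹ * a'⁻¹ := by
            rw [hbc b hb a', hbc b' hb' b⁻¹]
          _ = a * a' * (b' * a⁻¹) * b'⁻¹ * a'⁻¹ := by group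
          _ = _ := by rw [hbc b' hb' a⁻¹]; group
      rw [e]
      exact mul_mem (mul_mem (mul_mem ha ha') (inv_mem ha)) (inv_mem ha')
    set C' := C.map (signProd s).ker.subtype with hC'
    have hsingle : ∀ i, Pi.mulSingle i (z i) ∈ C' := by
      intro i
      have hle : commutator (W i) ≤ C'.comap (MonoidHom.mulSingle W i) := by
        rw [commutator_def, Subgroup.commutator_le]
        intro x _ y _
        obtain ⟨ex, hex, hex'⟩ := hlift i x
        obtain ⟨ey, hey, hey'⟩ := hlift i y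
        rw [Subgroup.mem_comap]
        refine ⟨ex * ey * ex⁻¹ * ey⁻¹, hcomm _ _, funext fun l => ?_⟩
        by_cases hl : l = i
        · subst hl
          show (ex : ∀ i, W i) l * (ey : ∀ i, W i) l * ((ex : ∀ i, W i) l)⁻¹ *
            ((ey : ∀ i, W i) l)⁻¹ = (Pi.mulSingle l _ : ∀ i, W i) l
          rw [hex, hey, Pi.mulSingle_eq_same, commutatorElement_def]
        · show (ex : ∀ i, W i) l * (ey : ∀ i, W i) l * ((ex : ∀ i, W i) l)⁻¹ *
            ((ey : ∀ i, W i) l)⁻¹ = (Pi.mulSingle i _ : ∀ i, W i) l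
          rw [Pi.mulSingle_eq_of_ne hl]
          obtain ⟨j, hj, hx⟩ := hex' l hl
          obtain ⟨k, hk, hy⟩ := hey' l hl
          have hpow : ∀ (e : ∀ i, W i) (j : ι) (x : W i),
              (e = Pi.mulSingle i x ∨ e = Pi.mulSingle i x * Pi.mulSingle j (c j)) →
              e l = 1 ∨ e l = c l := by
            intro e j x he
            rcases he with rfl | rfl
            · exact Or.inl (Pi.mulSingle_eq_of_ne hl _)
            · rw [Pi.mul_apply, Pi.mulSingle_eq_of_ne hl, one_mul]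
              by_cases hlj : l = j
              · subst hlj; exact Or.inr (Pi.mulSingle_eq_same _ _)
              · exact Or.inl (Pi.mulSingle_eq_of_ne hlj _)
          rcases hpow _ j x hx with e1 | e1 <;> rcases hpow _ k y hy with e2 | e2 <;>
            rw [e1, e2] <;> group
      exact hle (hzc i)
    rw [Subgroup.eq_bot_iff_forall]
    intro d hd
    have hdC : (d : ∀ i, W i) ∈ C' := by
      refine Subgroup.pi_mem_of_mulSingle_mem _ fun i => ?_
      rcases hzZ i _ (hD i ⟨d, hd, rfl⟩) with h | h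
      · rw [show (d : ∀ i, W i) i = 1 from h, Pi.mulSingle_one]; exact one_mem _
      · rw [show (d : ∀ i, W i) i = z i from h]; exact hsingle i
    obtain ⟨d', hd', he⟩ := hdC
    have hdd : d' = d := Subtype.ext he
    exact Subgroup.mem_bot.1 (hinf' ▸ Subgroup.mem_inf.2 ⟨hdd ▸ hd', hd⟩)
  by_cases hall : ∀ i, B.map (π i) ≤ Subgroup.center (W i)
  · exact Or.inr (key A B hc hinf htop hall)
  by_cases hall' : ∀ i, A.map (π i) ≤ Subgroup.center (W i)
  · exact Or.inl (key B A (fun b hb a ha => (hc a ha b hb).symm) (by rw [inf_comm]; exact hinf)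
      (by rw [sup_comm]; exact htop) hall')
  exfalso
  obtain ⟨j, hj⟩ := not_forall.1 hall
  obtain ⟨i, hi⟩ := not_forall.1 hall'
  have hiB : B.map (π i) ≤ Subgroup.center (W i) := (hcp i).resolve_left hi
  have hij : i ≠ j := fun e => hj (e ▸ hiB)
  let e₀ : ∀ l, W l := Pi.mulSingle i (c i) * Pi.mulSingle j (c j)
  have he₀ : e₀ ∈ (signProd s).ker := by
    rw [MonoidHom.mem_ker, map_mul, signProd_mulSingle, signProd_mulSingle, hc' i, hc' j]; rfl
  obtain ⟨a, ha, b, hb, hab⟩ := exists_mul_of_commuting hc htop ⟨e₀, he₀⟩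
  have hval : ∀ l, s l (e₀ l) = s l ((a : ∀ i, W i) l) * s l ((b : ∀ i, W i) l) := fun l => by
    rw [← map_mul]
    exact congrArg (fun w : (signProd s).ker => s l ((w : ∀ i, W i) l)) hab
  have hsa : ∀ l, l ≠ i → s l ((a : ∀ i, W i) l) = 1 := by
    intro l hl
    rcases hcp l with hAl | hBl
    · exact hcs l _ (hAl ⟨a, ha, rfl⟩)
    · have hlj : l ≠ j := fun e => hj (e ▸ hBl)
      have h1 := hval l
      have hb1 : s l ((b : ∀ i, W i) l) = 1 := hcs l _ (hBl ⟨b, hb, rfl⟩)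
      rw [hb1, mul_one] at h1
      rw [← h1]
      show s l ((Pi.mulSingle i (c i) * Pi.mulSingle j (c j) : ∀ l, W l) l) = 1
      rw [Pi.mul_apply, Pi.mulSingle_eq_of_ne hl, Pi.mulSingle_eq_of_ne hlj, one_mul, map_one]
  have h1 := hval i
  have hb1 : s i ((b : ∀ i, W i) i) = 1 := hcs i _ (hiB ⟨b, hb, rfl⟩)
  rw [hb1, mul_one] at h1
  have h2' : ∏ l, s l ((a : ∀ i, W i) l) = 1 := a.2
  rw [Finset.prod_eq_single i (fun l _ hl => hsa l hl) (by simp), ← h1] at h2'
  change s i ((Pi.mulSingle i (c i) * Pi.mulSingle j (c j) : ∀ l, W l) i) = 1 at h2'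
  rw [Pi.mul_apply, Pi.mulSingle_eq_same, Pi.mulSingle_eq_of_ne hij, mul_one, hc' i] at h2'
  exact absurd h2' (by decide)

/-- A product of at least two nontrivial groups is decomposable. -/
theorem not_indec_pi {i j : ι} (hij : i ≠ j) (hi : ∃ x : W i, x ≠ 1) (hj : ∃ x : W j, x ≠ 1) :
    ¬ Indec (∀ l, W l) := by
  intro h
  obtain ⟨x, hx⟩ := hi
  obtain ⟨y, hy⟩ := hj
  refine (h (MonoidHom.mulSingle W i).range (Pi.evalMonoidHom W i).ker ?_ ?_ ?_).elim (fun h0 => ?_) (fun h0 => ?_)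
  · rintro _ ⟨a, rfl⟩ b hb
    funext l
    by_cases hl : l = i
    · subst hl
      have hb' : b l = 1 := hb
      simp [hb']
    · simp [Pi.mulSingle_eq_of_ne hl]
  · rw [Subgroup.eq_bot_iff_forall]
    rintro _ ⟨⟨a, rfl⟩, hb⟩
    have hb' : (Pi.mulSingle i a : ∀ l, W l) i = 1 := hb
    rw [Pi.mulSingle_eq_same] at hb'
    rw [MonoidHom.mulSingle_apply, hb', Pi.mulSingle_one]
  · rw [eq_top_iff]
    intro f _
    have : f = Pi.mulSingle i (f i) * ((Pi.mulSingle i (f i))⁻¹ * f) := by rw [mul_inv_cancel_left]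
    rw [this]
    refine mul_mem (Subgroup.mem_sup_left ⟨_, rfl⟩) (Subgroup.mem_sup_right ?_)
    show ((Pi.mulSingle i (f i))⁻¹ * f : ∀ l, W l) i = 1
    simp
  · have : Pi.mulSingle i x ∈ (MonoidHom.mulSingle W i).range := ⟨x, rfl⟩
    rw [h0, Subgroup.mem_bot, Pi.mulSingle_eq_one_iff] at this
    exact hx this
  · have : Pi.mulSingle j y ∈ (Pi.evalMonoidHom W i).ker := Pi.mulSingle_eq_of_ne hij _
    rw [h0, Subgroup.mem_bot, Pi.mulSingle_eq_one_iff] at this
    exact hy this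

theorem indec_of_equiv {G H : Type*} [Group G] [Group H] (e : G ≃* H) (hG : Indec G) : Indec H := by
  intro A B hc hinf htop
  have hbot : (⊥ : Subgroup H).comap e.toMonoidHom = ⊥ := by
    rw [MonoidHom.comap_bot, (MonoidHom.ker_eq_bot_iff _).2 e.injective]
  rcases hG (A.comap e.toMonoidHom) (B.comap e.toMonoidHom)
    (fun a ha b hb => e.injective (by rw [map_mul, map_mul]; exact hc _ ha _ hb))
    (by rw [← Subgroup.comap_inf, hinf, hbot])
    (by rw [Subgroup.comap_sup_eq e.toMonoidHom A B e.surjective, htop, Subgroup.comap_top]) with h | h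
  · exact Or.inl (Subgroup.comap_injective e.surjective (h.trans hbot.symm))
  · exact Or.inr (Subgroup.comap_injective e.surjective (h.trans hbot.symm))

theorem indec_congr {G H : Type*} [Group G] [Group H] (e : G ≃* H) : Indec G ↔ Indec H :=
  ⟨indec_of_equiv e, indec_of_equiv e.symm⟩

end H62
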