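import Mathlib
import Cfsg.Agent.H18.SylowSymmetric
import Cfsg.Agent.H62.DirectFactors

/-!
# Sylow 2-subgroups of symmetric groups of degree a power of two are not central products
-/

set_option autoImplicit false

namespace H62

open Equiv Equiv.Perm H18
open scoped commutatorElement

variable {A : Type*} {H : Subgroup (Perm A)}

local notation "W" => wreathSubgroup 2 H

theorem perm_inv_app (h : Perm A) (a : A) : h⁻¹ (h a) = a := h.symm_apply_apply a

theorem perm_app_inv (h : Perm A) (a : A) : h (h⁻¹ a) = a := h.apply_symm_apply a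

/-- The base element of the wreath product. -/
def shiftW (H : Subgroup (Perm A)) (f : A → ZMod 2) : wreathSubgroup 2 H :=
  ⟨shiftPerm f, f, 1, H.one_mem, by rw [liftPerm_one, mul_one]⟩

/-- The top element of the wreath product. -/
def liftW (h : H) : wreathSubgroup 2 H :=
  ⟨liftPerm (h : Perm A), 0, h, h.2, by rw [shiftPerm_zero, one_mul]⟩

theorem shift_lift_inj {f f' : A → ZMod 2} {h h' : Perm A}
    (e : shiftPerm f * liftPerm h = shiftPerm f' * liftPerm h') : f = f' ∧ h = h' := by
  have key : ∀ a, h a = h' a ∧ f (h a) = f' (h' a) := fun a => by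
    have := congrArg (fun σ : Perm (A × ZMod 2) => σ (a, 0)) e
    simp only [shiftPerm, liftPerm, Perm.mul_apply, Equiv.prodCongr_apply, Equiv.coe_fn_mk,
      Prod.map, Equiv.refl_apply, zero_add, Prod.mk.injEq] at this
    exact this
  obtain rfl : h = h' := Equiv.ext fun a => (key a).1
  exact ⟨funext fun a => by simpa using (key (h⁻¹ a)).2, rfl⟩

theorem wreath_exists (x : W) : ∃ f : A → ZMod 2, ∃ h : H, x = shiftW H f * liftW h := by
  obtain ⟨g, f, h, hh, rfl⟩ := x
  exact ⟨f, ⟨h, hh⟩, rfl⟩

theorem wreath_inj {f f' : A → ZMod 2} {h h' : H}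
    (e : shiftW H f * liftW h = shiftW H f' * liftW h') : f = f' ∧ h = h' := by
  obtain ⟨h1, h2⟩ := shift_lift_inj (congrArg Subtype.val e)
  exact ⟨h1, Subtype.ext h2⟩

theorem shiftW_mul (f g : A → ZMod 2) : shiftW H f * shiftW H g = shiftW H (f + g) :=
  Subtype.ext (shiftPerm_mul f g)

theorem shiftW_zero : shiftW H 0 = 1 := Subtype.ext shiftPerm_zero

theorem liftW_one : liftW (1 : H) = 1 := Subtype.ext liftPerm_one

theorem liftW_mul (h k : H) : liftW h * liftW k = liftW (h * k) :=
  Subtype.ext (liftPerm_mul _ _)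

theorem liftW_shiftW (h : H) (f : A → ZMod 2) :
    liftW h * shiftW H f = shiftW H (fun a => f ((h : Perm A)⁻¹ a)) * liftW h :=
  Subtype.ext (liftPerm_mul_shiftPerm _ _)

theorem shiftW_inv (f : A → ZMod 2) : (shiftW H f)⁻¹ = shiftW H f := by
  refine inv_eq_of_mul_eq_one_right ?_
  rw [shiftW_mul, ← shiftW_zero]
  congr 1
  exact funext fun a => CharTwo.add_self_eq_zero (f a)

theorem repr_mul_shift (f g : A → ZMod 2) (h : H) :
    shiftW H f * liftW h * shiftW H g =
      shiftW H (f + fun a => g ((h : Perm A)⁻¹ a)) * liftW h := by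
  rw [mul_assoc, liftW_shiftW, ← mul_assoc, shiftW_mul]

theorem shift_mul_repr (f g : A → ZMod 2) (h : H) :
    shiftW H g * (shiftW H f * liftW h) = shiftW H (g + f) * liftW h := by
  rw [← mul_assoc, shiftW_mul]

/-- Commuting with a base element. -/
theorem comp_eq_of_commute {f g : A → ZMod 2} {h : H}
    (e : shiftW H f * liftW h * shiftW H g = shiftW H g * (shiftW H f * liftW h)) (a : A) :
    g ((h : Perm A)⁻¹ a) = g a := by
  rw [repr_mul_shift, shift_mul_repr] at e
  have := congrFun (wreath_inj e).1 a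
  simp only [Pi.add_apply] at this
  rw [add_comm (g a)] at this
  exact add_left_cancel this

/-- The top component is multiplicative. -/
theorem top_eq_mul {f g : A → ZMod 2} {t u v : H}
    (e : liftW t = shiftW H f * liftW u * (shiftW H g * liftW v)) : t = u * v := by
  rw [← mul_assoc, repr_mul_shift, mul_assoc, liftW_mul] at e
  have e2 : shiftW H 0 * liftW t =
      shiftW H (f + fun a => g ((u : Perm A)⁻¹ a)) * liftW (u * v) := by
    rw [shiftW_zero, one_mul]; exact e
  exact (wreath_inj e2).2

/-- The central involution. -/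
def centerW (H : Subgroup (Perm A)) : wreathSubgroup 2 H := shiftW H (fun _ => 1)

theorem centerW_ne_one [Nonempty A] : centerW H ≠ 1 := by
  intro e
  have e' : shiftW H (fun _ => (1 : ZMod 2)) * liftW 1 = shiftW H 0 * liftW 1 := by
    rw [shiftW_zero, liftW_one]; simpa [centerW] using e
  exact one_ne_zero (congrFun (wreath_inj e').1 (Classical.arbitrary A))

variable [DecidableEq A]

/-- An element commuting with the even base and with the top is trivial or the central involution. -/
theorem eq_one_or_centerW [Nonempty A] (htr : ∀ a b : A, ∃ h : H, (h : Perm A) a = b) {x : W}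
    (hS : ∀ a b : A, b ≠ a → ∃ g' : A → ZMod 2,
      g' a ≠ g' b ∧ x * shiftW H g' = shiftW H g' * x)
    (hL : ∀ k : H, x * liftW k = liftW k * x) :
    x = 1 ∨ x = centerW H := by
  obtain ⟨f, h, rfl⟩ := wreath_exists x
  have hh : h = 1 := by
    refine Subtype.ext (Equiv.ext fun a => ?_)
    by_contra hne
    rw [OneMemClass.coe_one, Perm.one_apply] at hne
    obtain ⟨g, hg, e⟩ := hS a _ hne
    have := comp_eq_of_commute e ((h : Perm A) a)
    rw [perm_inv_app] at this
    exact hg this
  subst hh
  rw [liftW_one, mul_one]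
  have hf : ∀ (k : H) (a : A), f a = f ((k : Perm A)⁻¹ a) := by
    intro k a
    have e := hL k
    rw [liftW_one, mul_one, liftW_shiftW] at e
    exact congrFun (wreath_inj e).1 a
  let a₀ := Classical.arbitrary A
  have hconst : ∀ a, f a = f a₀ := by
    intro a
    obtain ⟨k, hk⟩ := htr a₀ a
    rw [hf k a, ← hk, perm_inv_app]
  rcases zmod_two_cases (f a₀) with h0 | h0
  · left
    rw [show f = 0 from funext fun a => (hconst a).trans h0, shiftW_zero]
  · right
    rw [show f = fun _ => 1 from funext fun a => (hconst a).trans h0]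
    rfl

/-- The centre of the wreath product. -/
theorem center_wreath [Nonempty A] (htr : ∀ a b : A, ∃ h : H, (h : Perm A) a = b) {x : W}
    (hx : x ∈ Subgroup.center W) : x = 1 ∨ x = centerW H := by
  obtain ⟨f, h, rfl⟩ := wreath_exists x
  have hc : ∀ y, shiftW H f * liftW h * y = y * (shiftW H f * liftW h) := fun y =>
    (Subgroup.mem_center_iff.1 hx y).symm
  have hh : h = 1 := by
    refine Subtype.ext (Equiv.ext fun a => ?_)
    by_contra hne
    rw [OneMemClass.coe_one, Perm.one_apply] at hne
    have := comp_eq_of_commute (hc (shiftW H (Pi.single a 1))) ((h : Perm A) a)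
    rw [perm_inv_app, Pi.single_eq_same, Pi.single_eq_of_ne hne] at this
    exact absurd this (by decide)
  subst hh
  rw [liftW_one, mul_one]
  have hf : ∀ (k : H) (a : A), f a = f ((k : Perm A)⁻¹ a) := by
    intro k a
    have e := hc (liftW k)
    rw [liftW_one, mul_one, liftW_shiftW] at e
    exact congrFun (wreath_inj e).1 a
  let a₀ := Classical.arbitrary A
  have hconst : ∀ a, f a = f a₀ := by
    intro a
    obtain ⟨k, hk⟩ := htr a₀ a
    rw [hf k a, ← hk, perm_inv_app]
  rcases zmod_two_cases (f a₀) with h0 | h0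
  · left
    rw [show f = 0 from funext fun a => (hconst a).trans h0, shiftW_zero]
  · right
    rw [show f = fun _ => 1 from funext fun a => (hconst a).trans h0]
    rfl

variable [Fintype A]

theorem centerW_mem_commutator [Nonempty A] (htr : ∀ a b : A, ∃ h : H, (h : Perm A) a = b)
    (heven : Even (Fintype.card A)) : centerW H ∈ commutator W := by
  let K : AddSubgroup (A → ZMod 2) :=
    { carrier := {f | shiftW H f ∈ commutator ↥(wreathSubgroup 2 H)}
      zero_mem' := by show shiftW H 0 ∈ commutator ↥(wreathSubgroup 2 H); rw [shiftW_zero]; exact one_mem _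
      add_mem' := fun {f g} hf hg => by
        show shiftW H (f + g) ∈ commutator ↥(wreathSubgroup 2 H)
        rw [← shiftW_mul]; exact mul_mem hf hg
      neg_mem' := fun {f} hf => by
        show shiftW H (-f) ∈ commutator ↥(wreathSubgroup 2 H)
        rwa [show -f = f from funext fun a => CharTwo.neg_eq (f a)] }
  have hpair : ∀ a b : A, (Pi.single a 1 + Pi.single b 1 : A → ZMod 2) ∈ K := by
    intro a b
    obtain ⟨k, hk⟩ := htr a b
    show shiftW H _ ∈ commutator W
    have e : shiftW H (Pi.single a 1 + Pi.single b 1) =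
        ⁅liftW k, shiftW H (Pi.single a (1 : ZMod 2))⁆ := by
      rw [commutatorElement_def, shiftW_inv, liftW_shiftW, mul_assoc (shiftW H _) (liftW k),
        mul_inv_cancel, mul_one, shiftW_mul]
      congr 1
      funext c
      by_cases hc : c = b
      · subst hc
        rw [← hk, Pi.add_apply, Pi.add_apply, perm_inv_app]
        simp only [Pi.single_eq_same]
        exact add_comm _ _
      · have hc' : (k : Perm A)⁻¹ c ≠ a := fun e => hc (by rw [← hk, ← e, perm_app_inv])
        simp only [Pi.add_apply]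
        rw [Pi.single_eq_of_ne hc, Pi.single_eq_of_ne hc', add_zero, zero_add]
    rw [e, commutator_def]
    exact Subgroup.commutator_mem_commutator (Subgroup.mem_top _) (Subgroup.mem_top _)
  show (fun _ => (1 : ZMod 2)) ∈ K
  let a₀ := Classical.arbitrary A
  have : (fun _ => (1 : ZMod 2)) = ∑ a : A, (Pi.single a 1 + Pi.single a₀ 1 : A → ZMod 2) := by
    funext b
    rw [Finset.sum_apply]
    simp only [Pi.add_apply]
    rw [Finset.sum_add_distrib,
      Finset.sum_pi_single, if_pos (Finset.mem_univ b), Finset.sum_const, Finset.card_univ]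
    obtain ⟨t, ht⟩ := heven
    rw [ht, add_nsmul, CharTwo.add_self_eq_zero, add_zero]
  rw [this]
  exact sum_mem fun a _ => hpair a a₀

theorem sign_shiftW (f : A → ZMod 2) :
    sign ((shiftW H f : W) : Perm (A × ZMod 2)) = ∏ a, if f a = 0 then 1 else -1 := by
  have hsgn : ∀ x : ZMod 2, sign (Equiv.addRight x) = if x = 0 then 1 else -1 := by decide
  have : ((shiftW H f : W) : Perm (A × ZMod 2)) = prodCongrRight fun a => Equiv.addRight (f a) :=
    Equiv.ext fun _ => rfl
  rw [this, sign_prodCongrRight]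
  exact Finset.prod_congr rfl fun a _ => hsgn (f a)

theorem sign_liftW (h : H) : sign ((liftW h : W) : Perm (A × ZMod 2)) = 1 := by
  have : ((liftW h : W) : Perm (A × ZMod 2)) = prodCongrLeft fun _ : ZMod 2 => (h : Perm A) := rfl
  rw [this, sign_prodCongrLeft, Finset.prod_const, Finset.card_univ, ZMod.card, Int.units_pow_two]

/-- The sign on the wreath product. -/
noncomputable def signW (H : Subgroup (Perm A)) : wreathSubgroup 2 H →* ℤˣ :=
  (sign : Perm (A × ZMod 2) →* ℤˣ).comp (wreathSubgroup 2 H).subtype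

theorem signW_centerW (heven : Even (Fintype.card A)) : signW H (centerW H) = 1 := by
  show sign ((shiftW H (fun _ => (1 : ZMod 2)) : W) : Perm (A × ZMod 2)) = 1
  rw [sign_shiftW, Finset.prod_congr rfl (g := fun _ => (-1 : ℤˣ)) (fun a _ => if_neg one_ne_zero),
    Finset.prod_const, Finset.card_univ, heven.neg_one_pow]

theorem signW_single (a : A) : signW H (shiftW H (Pi.single a 1)) = -1 := by
  show sign ((shiftW H (Pi.single a (1 : ZMod 2)) : W) : Perm (A × ZMod 2)) = -1
  rw [sign_shiftW, Finset.prod_eq_single a (fun b _ hb => by rw [Pi.single_eq_of_ne hb, if_pos rfl])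
    (by simp), Pi.single_eq_same, if_neg one_ne_zero]

theorem no_central_product_wreath [Nonempty A] (htr : ∀ a b : A, ∃ h : H, (h : Perm A) a = b)
    (h2 : 2 ≤ Fintype.card A) (A0 B0 : Subgroup W)
    (hc : ∀ a ∈ A0, ∀ b ∈ B0, a * b = b * a) (htop : A0 ⊔ B0 = ⊤) :
    A0 ≤ Subgroup.center W ∨ B0 ≤ Subgroup.center W := by
  classical
  have central : ∀ C D : Subgroup W, (∀ a ∈ C, ∀ b ∈ D, a * b = b * a) → C ⊔ D = ⊤ →
      (∀ b ∈ D, ∀ f h, b = shiftW H f * liftW h → h = 1) → D ≤ Subgroup.center W := by
    intro C D hcd ht hD b hb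
    obtain ⟨f, h, rfl⟩ := wreath_exists b
    obtain rfl := hD _ hb f h rfl
    rw [liftW_one, mul_one] at hb ⊢
    have hf : ∀ (k : H) (a : A), f ((k : Perm A)⁻¹ a) = f a := by
      intro k a
      obtain ⟨u, hu, v, hv, e⟩ := exists_mul_of_commuting hcd ht (liftW k)
      obtain ⟨f', h', rfl⟩ := wreath_exists v
      obtain rfl := hD _ hv f' h' rfl
      rw [liftW_one, mul_one] at e hv
      obtain ⟨f'', h'', rfl⟩ := wreath_exists u
      have hk : h'' = k := by
        rw [repr_mul_shift] at e
        have e2 : shiftW H 0 * liftW k =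
            shiftW H (f'' + fun a => f' ((h'' : Perm A)⁻¹ a)) * liftW h'' := by
          rw [shiftW_zero, one_mul]; exact e
        exact (wreath_inj e2).2.symm
      subst hk
      exact comp_eq_of_commute (hcd _ hu _ hb) a
    refine Subgroup.mem_center_iff.2 fun y => ?_
    obtain ⟨g, k, rfl⟩ := wreath_exists y
    rw [repr_mul_shift, shift_mul_repr]
    congr 2
    funext a
    simp only [Pi.add_apply, hf k a, add_comm]
  by_cases hA : ∀ b ∈ A0, ∀ f h, b = shiftW H f * liftW h → h = 1
  · exact Or.inl (central B0 A0 (fun b hb a ha => (hc a ha b hb).symm)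
      (by rw [sup_comm]; exact htop) hA)
  by_cases hB : ∀ b ∈ B0, ∀ f h, b = shiftW H f * liftW h → h = 1
  · exact Or.inr (central A0 B0 hc htop hB)
  -- a commutator with the base lies in each factor and commutes with the other
  have pairs : ∀ C D : Subgroup W, (∀ a ∈ C, ∀ b ∈ D, a * b = b * a) → C ⊔ D = ⊤ →
      ∀ f h f' k, shiftW H f * liftW h ∈ C → shiftW H f' * liftW k ∈ D → ∀ a : A, (h : Perm A) a ≠ a →
      ((k : Perm A) a = a ∨ (k : Perm A) a = (h : Perm A) a) ∧
        ((k : Perm A) ((h : Perm A) a) = a ∨ (k : Perm A) ((h : Perm A) a) = (h : Perm A) a) := by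
    intro C D hcd ht f h f' k hx hy a ha
    let g : A → ZMod 2 := Pi.single a 1
    have hnorm : shiftW H g * (shiftW H f * liftW h) * (shiftW H g)⁻¹ ∈ C := by
      obtain ⟨u, hu, v, hv, e⟩ := exists_mul_of_commuting hcd ht (shiftW H g)
      rw [e, show u * v * (shiftW H f * liftW h) * (u * v)⁻¹ =
        u * ((v * (shiftW H f * liftW h)) * v⁻¹) * u⁻¹ by group, ← hcd _ hx v hv, mul_inv_cancel_right]
      exact mul_mem (mul_mem hu hx) (inv_mem hu)
    have hmem : shiftW H (g + fun c => g ((h : Perm A)⁻¹ c)) ∈ C := by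
      have := mul_mem hnorm (inv_mem hx)
      rw [shiftW_inv, shift_mul_repr, repr_mul_shift, mul_inv_rev, shiftW_inv,
        mul_assoc, mul_inv_cancel_left, shiftW_mul] at this
      convert this using 2
      funext c
      simp only [Pi.add_apply]
      linear_combination (-(f c)) * (CharTwo.two_eq_zero (R := ZMod 2))
    have hinv := comp_eq_of_commute ((hcd _ hmem _ hy).symm)
    have hval : ∀ c, (g + fun c => g ((h : Perm A)⁻¹ c)) c = 1 ↔ c = a ∨ c = (h : Perm A) a := by
      intro c
      rcases eq_or_ne c a with rfl | hca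
      · have : (h : Perm A)⁻¹ c ≠ c := fun e => ha (Perm.inv_eq_iff_eq.1 e).symm
        simp only [g, Pi.add_apply, Pi.single_eq_same, Pi.single_eq_of_ne this, add_zero, true_or, iff_true]
      · rcases eq_or_ne c ((h : Perm A) a) with rfl | hch
        · simp [g, Pi.single_eq_of_ne hca]
        · have : (h : Perm A)⁻¹ c ≠ a := fun e => hch (by rw [← e, perm_app_inv])
          simp only [g, Pi.add_apply, Pi.single_eq_of_ne hca, Pi.single_eq_of_ne this, add_zero, zero_ne_one, hca, hch, or_self]
    have hmove : ∀ c, (c = a ∨ c = (h : Perm A) a) →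
        ((k : Perm A) c = a ∨ (k : Perm A) c = (h : Perm A) a) := by
      intro c hc'
      rw [← hval, ← hinv ((k : Perm A) c), perm_inv_app, hval]
      exact hc'
    exact ⟨hmove a (Or.inl rfl), hmove _ (Or.inr rfl)⟩
  obtain ⟨x, hx, f, h, rfl, hh⟩ : ∃ x ∈ A0, ∃ f h, x = shiftW H f * liftW h ∧ h ≠ 1 := by
    simpa only [not_forall, exists_prop] using hA
  obtain ⟨y, hy, f', k, rfl, hk⟩ : ∃ x ∈ B0, ∃ f h, x = shiftW H f * liftW h ∧ h ≠ 1 := by
    simpa only [not_forall, exists_prop] using hB
  have hc' : ∀ b ∈ B0, ∀ a ∈ A0, b * a = a * b := fun b hb a ha => (hc a ha b hb).symm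
  have htop' : B0 ⊔ A0 = ⊤ := by rw [sup_comm]; exact htop
  -- some point is moved by both factors
  have hboth : ∃ f h f' k a, shiftW H f * liftW h ∈ A0 ∧ shiftW H f' * liftW k ∈ B0 ∧
      (h : Perm A) a ≠ a ∧ (k : Perm A) a ≠ a := by
    by_contra hno
    simp only [not_exists, not_and, not_not] at hno
    obtain ⟨a, ha⟩ : ∃ a, (h : Perm A) a ≠ a := by
      by_contra hall
      simp only [not_exists, not_not] at hall
      exact hh (Subtype.ext (Equiv.ext hall))
    obtain ⟨b, hb⟩ : ∃ b, (k : Perm A) b ≠ b := by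
      by_contra hall
      simp only [not_exists, not_not] at hall
      exact hk (Subtype.ext (Equiv.ext hall))
    let M : A → Prop := fun c => ∃ f h, shiftW H f * liftW h ∈ A0 ∧ (h : Perm A) c ≠ c
    have hMa : M a := ⟨f, h, hx, ha⟩
    have hMB : ∀ c, M c → ∀ f' k, shiftW H f' * liftW k ∈ B0 → (k : Perm A) c = c :=
      fun c ⟨f, h, hm, hmv⟩ f' k hk' => hno f h f' k c hm hk' hmv
    obtain ⟨t, ht⟩ := htr a b
    obtain ⟨u, hu, v, hv, e⟩ := exists_mul_of_commuting hc htop (liftW t)
    obtain ⟨fu, tu, rfl⟩ := wreath_exists u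
    obtain ⟨fv, tv, rfl⟩ := wreath_exists v
    have htt : t = tu * tv := top_eq_mul e
    rw [htt, Subgroup.coe_mul, Perm.mul_apply, hMB a hMa fv tv hv] at ht
    have hMb : M b := by
      by_cases h' : (tu : Perm A) a = a
      · rw [← ht, h']; exact hMa
      · exact ⟨fu, tu, hu, fun e' => h' ((tu : Perm A).injective (by rw [ht]; exact e'))⟩
    exact hb (hMB b hMb f' k hy)
  obtain ⟨f₁, h₁, f₁', k₁, a, hm, hn, hha, hka⟩ := hboth
  have hkh : (k₁ : Perm A) a = (h₁ : Perm A) a :=
    ((pairs A0 B0 hc htop f₁ h₁ f₁' k₁ hm hn a hha).1).resolve_left hka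
  have hall : ∀ c : A, c = a ∨ c = (h₁ : Perm A) a := by
    intro c
    obtain ⟨t, ht⟩ := htr a c
    obtain ⟨u, hu, v, hv, e⟩ := exists_mul_of_commuting hc htop (liftW t)
    obtain ⟨fu, tu, rfl⟩ := wreath_exists u
    obtain ⟨fv, tv, rfl⟩ := wreath_exists v
    have htt : t = tu * tv := top_eq_mul e
    rw [htt, Subgroup.coe_mul, Perm.mul_apply] at ht
    have h3 := (pairs B0 A0 hc' htop' f₁' k₁ fu tu hn hu a hka)
    rw [hkh] at h3
    rcases (pairs A0 B0 hc htop f₁ h₁ fv tv hm hv a hha).1 with e' | e' <;> rw [e'] at ht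
    · rw [← ht]; exact h3.1
    · rw [← ht]; exact h3.2
  have hcard : Fintype.card A ≤ 2 := by
    rw [← Finset.card_univ]
    refine le_trans (Finset.card_le_card (t := {a, (h₁ : Perm A) a}) fun c _ => ?_) Finset.card_le_two
    simpa using hall c
  have hH : Nat.card H ∣ 2 := by
    have := Subgroup.card_subgroup_dvd_card H
    rwa [Nat.card_perm, Nat.card_eq_fintype_card (α := A), show Fintype.card A = 2 by omega] at this
  haveI : Fact (Nat.Prime 2) := ⟨Nat.prime_two⟩
  have hW : Nat.card W ∣ 2 ^ 3 := by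
    rw [card_wreathSubgroup, show Fintype.card A = 2 by omega]
    exact (Nat.mul_dvd_mul_left (2 ^ 2) hH).trans (by norm_num)
  have small : ∀ C D : Subgroup W, (∀ a ∈ C, ∀ b ∈ D, a * b = b * a) → ¬ C ≤ Subgroup.center W →
      ∀ u ∈ D, ∀ v ∈ D, u * v = v * u := by
    intro C D hcd hC u hu v hv
    obtain ⟨w, hw, hwc⟩ := SetLike.not_le_iff_exists.1 hC
    have hlt : (Subgroup.centralizer ({w} : Set W)) ≠ ⊤ := fun e => hwc <|
      Subgroup.mem_center_iff.2 fun y =>
        ((Subgroup.mem_centralizer_singleton_iff).1 (e ▸ Subgroup.mem_top y))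
    have hle : D ≤ Subgroup.centralizer ({w} : Set W) := fun d hd =>
      Subgroup.mem_centralizer_singleton_iff.2 (hcd w hw d hd).symm
    have hne : Nat.card D ≠ 2 ^ 3 := fun e => hlt <| by
      refine top_le_iff.1 (le_trans ?_ hle)
      refine le_of_eq (Subgroup.eq_top_of_card_eq D ?_).symm
      exact Nat.le_antisymm (Nat.le_of_dvd Nat.card_pos (Subgroup.card_subgroup_dvd_card D))
        (e ▸ Nat.le_of_dvd (by norm_num) hW)
    obtain ⟨i, hi, hi'⟩ := (Nat.dvd_prime_pow Nat.prime_two).1
      ((Subgroup.card_subgroup_dvd_card D).trans hW)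
    have hi3 : i ≠ 3 := fun e => hne (e ▸ hi')
    suffices h' : ∀ p q : D, p * q = q * p from congrArg Subtype.val (h' ⟨u, hu⟩ ⟨v, hv⟩)
    interval_cases i
    · intro p q
      haveI : Subsingleton D := (Nat.card_eq_one_iff_unique.1 (by simpa using hi')).1
      rw [Subsingleton.elim p q]
    · haveI := isCyclic_of_prime_card (α := D) (p := 2) (by simpa using hi')
      intro p q
      exact (IsCyclic.commGroup (α := D)).mul_comm p q
    · exact IsPGroup.commutative_of_card_eq_prime_sq hi'
    · exact absurd rfl hi3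
  by_contra hno
  simp only [not_or] at hno
  have hAab := small B0 A0 hc' hno.2
  have hBab := small A0 B0 hc hno.1
  refine hno.1 fun u hu => Subgroup.mem_center_iff.2 fun w => ?_
  obtain ⟨p, hp, q, hq, rfl⟩ := exists_mul_of_commuting hc htop w
  rw [mul_assoc, ← hc u hu q hq, ← mul_assoc, hAab p hp u hu, mul_assoc]

/-- The wreath product is good. -/
theorem goodSigned_wreath [Nonempty A] (htr : ∀ a b : A, ∃ h : H, (h : Perm A) a = b)
    (heven : Even (Fintype.card A)) (h2 : 2 ≤ Fintype.card A) : GoodSigned W (signW H) where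
  center := ⟨centerW H, centerW_ne_one, signW_centerW heven, centerW_mem_commutator htr heven,
    fun _ hx => center_wreath htr hx⟩
  odd := ⟨_, signW_single (Classical.arbitrary A)⟩
  no_central_product := fun A0 B0 hc htop => no_central_product_wreath htr h2 A0 B0 hc htop

/-- The even part of the wreath product has a small centre. -/
theorem center_signW_ker [Nonempty A] (htr : ∀ a b : A, ∃ h : H, (h : Perm A) a = b)
    (heven : Even (Fintype.card A)) (h3 : 3 ≤ Fintype.card A) {x : (signW H).ker}
    (hx : x ∈ Subgroup.center (signW H).ker) :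
    x = 1 ∨ x = ⟨centerW H, signW_centerW heven⟩ := by
  have hc : ∀ y : W, signW H y = 1 → (x : W) * y = y * (x : W) := fun y hy =>
    (congrArg Subtype.val (Subgroup.mem_center_iff.1 hx ⟨y, hy⟩)).symm
  have hthree : ∀ a b : A, a ≠ b → ∃ c, c ≠ a ∧ c ≠ b := by
    intro a b _
    obtain ⟨c, -, hc'⟩ := Finset.exists_mem_notMem_of_card_lt_card
      (s := ({a, b} : Finset A)) (t := Finset.univ)
      (lt_of_le_of_lt Finset.card_le_two (by rw [Finset.card_univ]; omega))
    simp only [Finset.mem_insert, Finset.mem_singleton, not_or] at hc'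
    exact ⟨c, hc'⟩
  refine (eq_one_or_centerW htr (x := (x : W)) ?_ (fun k => hc _ (sign_liftW k))).imp
    (fun e => Subtype.ext e) (fun e => Subtype.ext e)
  intro a b hba
  obtain ⟨c, hca, hcb⟩ := hthree a b hba.symm
  refine ⟨Pi.single a 1 + Pi.single c 1, ?_, hc _ ?_⟩
  · simp [Pi.single_eq_of_ne hca.symm, Pi.single_eq_of_ne hba, Pi.single_eq_of_ne hcb.symm]
  · rw [← shiftW_mul, map_mul, signW_single, signW_single]; rfl

end H62
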