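import Mathlib
import Cfsg.Agent.H63.SylowTwoMaximal
import Cfsg.Agent.H62.WreathTwoGood

/-!
# Direct decomposability of Sylow 2-subgroups of alternating groups
-/

set_option autoImplicit false

namespace H62

open Equiv Equiv.Perm H18

theorem two_adic_double (m : ℕ) :
    padicValNat 2 (2 * m).factorial = padicValNat 2 m.factorial + m ∧
    padicValNat 2 (2 * m + 1).factorial = padicValNat 2 m.factorial + m := by
  haveI : Fact (Nat.Prime 2) := ⟨Nat.prime_two⟩
  exact ⟨padicValNat_factorial_mul m,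
    (padicValNat_factorial_mul_add m Nat.one_lt_two).trans (padicValNat_factorial_mul m)⟩

/-- The binary digits of a number. -/
theorem exists_binary_digits (k : ℕ) :
    ∃ D : Finset ℕ, ∑ d ∈ D, 2 ^ d = k ∧ padicValNat 2 k.factorial + D.card = k := by
  induction k using Nat.strong_induction_on with
  | _ k ih =>
  rcases Nat.eq_zero_or_pos k with rfl | hk
  · exact ⟨∅, by simp⟩
  obtain ⟨D, hD, hv⟩ := ih (k / 2) (by omega)
  have hsucc : ∑ d ∈ D.map ⟨Nat.succ, Nat.succ_injective⟩, 2 ^ d = 2 * (k / 2) := by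
    rw [Finset.sum_map]
    conv_rhs => rw [← hD, Finset.mul_sum]
    exact Finset.sum_congr rfl fun d _ => by
      show 2 ^ (d + 1) = 2 * 2 ^ d
      rw [pow_succ']
  obtain ⟨h0, h1⟩ := two_adic_double (k / 2)
  rcases Nat.mod_two_eq_zero_or_one k with h | h
  · refine ⟨D.map ⟨Nat.succ, Nat.succ_injective⟩, by omega, ?_⟩
    rw [show 2 * (k / 2) = k by omega] at h0
    rw [Finset.card_map, h0]
    omega
  · have hnot : 0 ∉ D.map ⟨Nat.succ, Nat.succ_injective⟩ := by simp
    refine ⟨insert 0 (D.map ⟨Nat.succ, Nat.succ_injective⟩), ?_, ?_⟩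
    · rw [Finset.sum_insert hnot, hsucc, pow_zero]; omega
    · rw [show 2 * (k / 2) + 1 = k by omega] at h1
      rw [Finset.card_insert_of_notMem hnot, Finset.card_map, h1]
      omega

theorem two_adic_two_pow (r : ℕ) : padicValNat 2 (2 ^ r).factorial + 1 = 2 ^ r := by
  induction r with
  | zero => simp
  | succ r ih =>
    rw [pow_succ', (two_adic_double (2 ^ r)).1]
    omega

/-- A fixed Sylow 2-subgroup of the symmetric group of degree `2^(d+1)`. -/
noncomputable def sylTwo (d : ℕ) : Subgroup (Perm (Fin (2 ^ (d + 1)))) :=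
  ((Classical.arbitrary (Sylow 2 (Perm (Fin (2 ^ (d + 1))))) : Sylow 2 _) : Subgroup _)

theorem sylTwo_trans (d : ℕ) (a b : Fin (2 ^ (d + 1))) :
    ∃ h : sylTwo d, (h : Perm (Fin (2 ^ (d + 1)))) a = b := by
  obtain ⟨t, ht, e⟩ := H63.sylowTwo_transitive (k := d + 1) (Fintype.card_fin _)
    (Classical.arbitrary (Sylow 2 (Perm (Fin (2 ^ (d + 1)))))) a b
  exact ⟨⟨t, ht⟩, e⟩

theorem card_block (d : ℕ) :
    Nat.card (wreathSubgroup 2 (sylTwo d)) = 2 ^ (2 ^ (d + 2) - 1) := by
  haveI : Fact (Nat.Prime 2) := ⟨Nat.prime_two⟩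
  have h : Nat.card (sylTwo d) = 2 ^ padicValNat 2 (2 ^ (d + 1)).factorial := by
    rw [sylTwo, Sylow.card_eq_multiplicity, Nat.card_perm, Nat.card_eq_fintype_card, Fintype.card_fin,
      Nat.factorization_def _ Nat.prime_two]
  rw [card_wreathSubgroup, h, Fintype.card_fin, ← pow_add]
  congr 1
  have := two_adic_two_pow (d + 1)
  rw [pow_succ 2 (d + 1)]
  omega

variable (D : Finset ℕ)

/-- The product of the blocks. -/
abbrev Blocks : Type := ∀ d : D, wreathSubgroup 2 (sylTwo d)

/-- The points moved by the blocks. -/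
abbrev BlockPts : Type := Σ d : D, Fin (2 ^ ((d : ℕ) + 1)) × ZMod 2

/-- The action of the blocks. -/
noncomputable def blocksHom : Blocks D →* Perm (BlockPts D) :=
  (Equiv.Perm.sigmaCongrRightHom fun d : D => Fin (2 ^ ((d : ℕ) + 1)) × ZMod 2).comp
    (Pi.monoidHom fun d => (wreathSubgroup 2 (sylTwo d)).subtype.comp (Pi.evalMonoidHom _ d))

theorem blocksHom_injective : Function.Injective (blocksHom D) := fun s t h =>
  funext fun d => Subtype.ext (congrFun (Equiv.Perm.sigmaCongrRightHom_injective h) d)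

/-- The sign on the blocks. -/
noncomputable def blocksSign : Blocks D →* ℤˣ := signProd fun d => signW (sylTwo d)

theorem sign_blocksHom (t : Blocks D) : sign (blocksHom D t) = blocksSign D t := by
  have : (sign : Perm (BlockPts D) →* ℤˣ).comp (blocksHom D) = blocksSign D := by
    refine MonoidHom.pi_ext fun d x => ?_
    rw [MonoidHom.comp_apply, blocksSign, signProd_mulSingle]
    let ι : Fin (2 ^ ((d : ℕ) + 1)) × ZMod 2 ↪ BlockPts D := ⟨fun w => (⟨d, w⟩ : BlockPts D), fun _ _ h => eq_of_heq (Sigma.mk.inj_iff.1 h).2⟩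
    have e : blocksHom D (Pi.mulSingle d x) = viaEmbeddingHom ι (x : Perm _) := by
      refine Equiv.ext fun w => ?_
      obtain ⟨j, w⟩ := w
      by_cases hj : j = d
      · subst hj
        show (⟨j, ((Pi.mulSingle j x : Blocks D) j : Perm _) w⟩ : BlockPts D) = _
        rw [Pi.mulSingle_eq_same, viaEmbeddingHom_apply]
        exact (Equiv.Perm.viaEmbedding_apply (x : Perm _) ι w).symm
      · show (⟨j, ((Pi.mulSingle d x : Blocks D) j : Perm _) w⟩ : BlockPts D) = _
        rw [Pi.mulSingle_eq_of_ne hj, viaEmbeddingHom_apply,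
          viaEmbedding_apply_of_notMem _ _ _ (by rintro ⟨y, hy⟩; exact hj (congrArg Sigma.fst hy).symm)]
        rfl
    rw [e, viaEmbeddingHom_apply, viaEmbedding, sign_extendDomain]
    rfl
  exact DFunLike.congr_fun this t

theorem card_blockPts : Fintype.card (BlockPts D) = 4 * ∑ d ∈ D, 2 ^ d := by
  rw [Fintype.card_sigma, Finset.mul_sum, ← Finset.sum_coe_sort D]
  refine Finset.sum_congr rfl fun d _ => ?_
  rw [Fintype.card_prod, Fintype.card_fin, ZMod.card, pow_succ]
  omega

theorem card_blocks : Nat.card (Blocks D) = 2 ^ (4 * (∑ d ∈ D, 2 ^ d) - D.card) := by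
  rw [Nat.card_pi, Finset.prod_congr rfl (fun (d : D) _ => card_block d),
    Finset.prod_pow_eq_pow_sum, Finset.sum_coe_sort D (fun d => 2 ^ (d + 2) - 1)]
  congr 1
  have h : ∑ d ∈ D, (2 ^ (d + 2) - 1) + D.card = 4 * ∑ d ∈ D, 2 ^ d := by
    rw [Finset.card_eq_sum_ones, ← Finset.sum_add_distrib, Finset.mul_sum]
    refine Finset.sum_congr rfl fun d _ => ?_
    have : 0 < 2 ^ d := Nat.two_pow_pos d
    rw [pow_add]
    omega
  omega

instance instFiniteBlocks : Finite (Blocks D) := Pi.finite

theorem isPGroup_blocks : IsPGroup 2 (Blocks D) := IsPGroup.of_card (card_blocks D)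

theorem goodSigned_block (d : ℕ) : GoodSigned _ (signW (sylTwo d)) := by
  haveI : Nonempty (Fin (2 ^ (d + 1))) := ⟨⟨0, Nat.two_pow_pos _⟩⟩
  refine goodSigned_wreath (sylTwo_trans d) ?_ ?_
  · rw [Fintype.card_fin, pow_succ]; exact even_two.mul_left _
  · rw [Fintype.card_fin, pow_succ]; have := Nat.two_pow_pos d; omega

theorem block_nontrivial (d : ℕ) : ∃ x : wreathSubgroup 2 (sylTwo d), x ≠ 1 :=
  let ⟨z, hz, _⟩ := (goodSigned_block d).center; ⟨z, hz⟩

theorem indec_blocks_ker (h : 2 ≤ D.card) : Indec (blocksSign D).ker := by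
  refine indec_signProd_ker _ (fun d => goodSigned_block d) fun i => ?_
  haveI : Nontrivial D := Fintype.one_lt_card_iff_nontrivial.1 (by rw [Fintype.card_coe]; omega)
  exact exists_ne i

theorem not_indec_blocks (h : 2 ≤ D.card) : ¬ Indec (Blocks D) := by
  haveI : Nontrivial D := Fintype.one_lt_card_iff_nontrivial.1 (by rw [Fintype.card_coe]; omega)
  obtain ⟨i, j, hij⟩ := exists_pair_ne D
  exact not_indec_pi hij (block_nontrivial _) (block_nontrivial _)

theorem indec_blocks_single (d : ℕ) : Indec (Blocks {d}) := by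
  haveI : Fact (Nat.Prime 2) := ⟨Nat.prime_two⟩
  let i : ({d} : Finset ℕ) := ⟨d, Finset.mem_singleton_self d⟩
  have huniq : ∀ j : ({d} : Finset ℕ), j = i := fun j => Subtype.ext (Finset.mem_singleton.1 j.2)
  obtain ⟨z, hz1, -, -, hz⟩ := (goodSigned_block d).center
  refine indec_of_center (p := 2) (isPGroup_blocks _) (z := Pi.mulSingle i z) fun x hx => ?_
  have hxi : x i ∈ Subgroup.center _ := Subgroup.mem_center_iff.2 fun y => by
    have := congrFun (Subgroup.mem_center_iff.1 hx (Pi.mulSingle i y)) i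
    simpa using this
  rcases hz (x i) hxi with h | h
  · exact Or.inl (funext fun j => by rw [huniq j, h]; rfl)
  · exact Or.inr (funext fun j => by rw [huniq j, h, Pi.mulSingle_eq_same])

theorem indec_blocks_ker_single (d : ℕ) (hd : 1 ≤ d) : Indec (blocksSign {d}).ker := by
  haveI : Fact (Nat.Prime 2) := ⟨Nat.prime_two⟩
  let i : ({d} : Finset ℕ) := ⟨d, Finset.mem_singleton_self d⟩
  have huniq : ∀ j : ({d} : Finset ℕ), j = i := fun j => Subtype.ext (Finset.mem_singleton.1 j.2)
  haveI : Nonempty (Fin (2 ^ (d + 1))) := ⟨⟨0, Nat.two_pow_pos _⟩⟩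
  have heven : Even (Fintype.card (Fin (2 ^ (d + 1)))) := by
    rw [Fintype.card_fin, pow_succ]; exact even_two.mul_left _
  have h3 : 3 ≤ Fintype.card (Fin (2 ^ (d + 1))) := by
    rw [Fintype.card_fin, pow_succ]
    have : 2 ^ 1 ≤ 2 ^ d := Nat.pow_le_pow_right (by norm_num) hd
    omega
  have hmem : ∀ y : wreathSubgroup 2 (sylTwo d), signW (sylTwo d) y = 1 →
      (Pi.mulSingle i y : Blocks {d}) ∈ (blocksSign {d}).ker := fun y hy => by
    rw [MonoidHom.mem_ker, blocksSign, signProd_mulSingle]; exact hy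
  have hsign : ∀ x : (blocksSign {d}).ker, signW (sylTwo d) ((x : Blocks {d}) i) = 1 := fun x => by
    have h2 : ∏ j : ({d} : Finset ℕ), signW (sylTwo (j : ℕ)) ((x : Blocks {d}) j) = 1 := x.2
    rwa [Fintype.prod_eq_single i (fun j hj => absurd (huniq j) hj)] at h2
  refine indec_of_center (p := 2) ((isPGroup_blocks _).to_subgroup _)
    (z := ⟨_, hmem _ (signW_centerW (H := sylTwo d) heven)⟩) fun x hx => ?_
  have hxi : (⟨(x : Blocks {d}) i, hsign x⟩ : (signW (sylTwo d)).ker) ∈ Subgroup.center _ :=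
    Subgroup.mem_center_iff.2 fun y => Subtype.ext <| by
      have := congrFun (congrArg Subtype.val
        (Subgroup.mem_center_iff.1 hx ⟨_, hmem y.1 y.2⟩)) i
      simpa using this
  rcases center_signW_ker (sylTwo_trans d) heven h3 hxi with h | h
  · refine Or.inl (Subtype.ext (funext fun j => ?_))
    rw [huniq j]; exact congrArg Subtype.val h
  · refine Or.inr (Subtype.ext (funext fun j => ?_))
    rw [huniq j]
    show (x : Blocks {d}) i = (Pi.mulSingle i (centerW (sylTwo d)) : Blocks {d}) i
    rw [Pi.mulSingle_eq_same]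
    exact congrArg Subtype.val h

theorem not_indec_of_card_four {G : Type*} [Group G] (h4 : Nat.card G = 4) {u v : G}
    (hu : u ≠ 1) (hu2 : u * u = 1) (hv : v ≠ 1) (hv2 : v * v = 1) (huv : u ≠ v) : ¬ Indec G := by
  classical
  intro h
  haveI : Finite G := Nat.finite_of_card_ne_zero (by omega)
  haveI : Fact (Nat.Prime 2) := ⟨Nat.prime_two⟩
  have hou : Nat.card (Subgroup.zpowers u) = 2 := by
    rw [Nat.card_zpowers]; exact orderOf_eq_prime (by rw [pow_two, hu2]) hu
  have hov : Nat.card (Subgroup.zpowers v) = 2 := by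
    rw [Nat.card_zpowers]; exact orderOf_eq_prime (by rw [pow_two, hv2]) hv
  have hne : v ∉ Subgroup.zpowers u := by
    intro hv'
    obtain ⟨j, hj⟩ := (mem_zpowers_iff_mem_range_orderOf.1 hv' : _) |> Finset.mem_image.1
    have ho : orderOf u = 2 := orderOf_eq_prime (by rw [pow_two, hu2]) hu
    rw [ho, Finset.mem_range] at hj
    obtain ⟨hj1, hj2⟩ := hj
    interval_cases j
    · exact hv (by simpa using hj2.symm)
    · exact huv (by simpa using hj2)
  refine (h (Subgroup.zpowers u) (Subgroup.zpowers v)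
    (fun a _ b _ => IsPGroup.commutative_of_card_eq_prime_sq (p := 2) h4 a b) ?_ ?_).elim (fun e => ?_) (fun e => ?_)
  · rcases (Nat.dvd_prime Nat.prime_two).1
      (hou ▸ Subgroup.card_dvd_of_le (inf_le_left : Subgroup.zpowers u ⊓ Subgroup.zpowers v ≤ _)) with e | e
    · exact Subgroup.card_eq_one.1 e
    · exfalso
      refine hne ?_
      have := Subgroup.eq_of_le_of_card_ge
        (inf_le_right : Subgroup.zpowers u ⊓ Subgroup.zpowers v ≤ _) (by omega)
      exact (Subgroup.mem_inf.1 (this.symm ▸ Subgroup.mem_zpowers v)).1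
  · refine Subgroup.eq_top_of_card_eq _ ?_
    set S := Subgroup.zpowers u ⊔ Subgroup.zpowers v with hS
    have hdvd : Nat.card S ∣ 2 ^ 2 := by
      have := Subgroup.card_subgroup_dvd_card S
      rwa [h4] at this
    obtain ⟨i, hi, hi'⟩ := (Nat.dvd_prime_pow Nat.prime_two).1 hdvd
    have hle : Subgroup.zpowers u ≤ S := le_sup_left
    have hlt : 2 < Nat.card S := by
      by_contra hh
      have := Subgroup.eq_of_le_of_card_ge hle (by omega)
      exact hne (this ▸ (le_sup_right : Subgroup.zpowers v ≤ S) (Subgroup.mem_zpowers v))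
    interval_cases i <;> omega
  · rw [Subgroup.zpowers_eq_bot] at e; exact hu e
  · rw [Subgroup.zpowers_eq_bot] at e; exact hv e

theorem not_indec_blocks_ker_zero : ¬ Indec (blocksSign {0}).ker := by
  haveI : Fact (Nat.Prime 2) := ⟨Nat.prime_two⟩
  let i : ({0} : Finset ℕ) := ⟨0, Finset.mem_singleton_self 0⟩
  haveI : Nonempty (Fin (2 ^ (0 + 1))) := ⟨⟨0, Nat.two_pow_pos _⟩⟩
  have heven : Even (Fintype.card (Fin (2 ^ (0 + 1)))) := by simp
  have hmem : ∀ y : wreathSubgroup 2 (sylTwo 0), signW (sylTwo 0) y = 1 →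
      (Pi.mulSingle i y : Blocks {0}) ∈ (blocksSign {0}).ker := fun y hy => by
    rw [MonoidHom.mem_ker, blocksSign, signProd_mulSingle]; exact hy
  obtain ⟨h, hh⟩ := sylTwo_trans 0 0 1
  have hh1 : h ≠ 1 := by
    rintro rfl
    simp at hh
  have hh2 : h * h = 1 := by
    refine Subtype.ext ?_
    have := pow_card_eq_one' (x := (h : Perm (Fin (2 ^ (0 + 1)))))
    rw [Nat.card_perm, Nat.card_eq_fintype_card, Fintype.card_fin] at this
    simpa [pow_two] using this
  have hcard : Nat.card (blocksSign {0}).ker = 4 := by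
    have h2 := Subgroup.card_mul_index (blocksSign {0}).ker
    rw [Subgroup.index_ker, card_blocks] at h2
    have hr : Nat.card (blocksSign {0}).range = 2 := by
      rw [MonoidHom.range_eq_top.2, Subgroup.card_top]
      · simp
      · intro u
        obtain ⟨c, hc⟩ := (goodSigned_block 0).odd
        rcases Int.units_eq_one_or u with rfl | rfl
        · exact ⟨1, map_one _⟩
        · exact ⟨Pi.mulSingle i c, (signProd_mulSingle _ _ _).trans hc⟩
    rw [hr] at h2
    rw [Finset.sum_singleton, Finset.card_singleton] at h2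
    norm_num at h2 ⊢
    exact Nat.eq_of_mul_eq_mul_right two_pos (h2.trans (by norm_num : (8 : ℕ) = 4 * 2))
  refine not_indec_of_card_four hcard
    (u := ⟨_, hmem _ (signW_centerW (H := sylTwo 0) heven)⟩)
    (v := ⟨_, hmem (liftW h) (sign_liftW h)⟩) ?_ ?_ ?_ ?_ ?_
  · intro e
    have := congrArg Subtype.val e
    exact centerW_ne_one (Pi.mulSingle_eq_one_iff.1 this)
  · refine Subtype.ext ?_
    show (Pi.mulSingle i (centerW (sylTwo 0)) : Blocks {0}) * Pi.mulSingle i (centerW (sylTwo 0)) = 1
    rw [← Pi.mulSingle_mul]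
    refine Pi.mulSingle_eq_one_iff.2 ?_
    exact mul_eq_one_iff_eq_inv.2 (shiftW_inv _).symm
  · intro e
    have h1 : liftW h = liftW 1 := by
      rw [liftW_one]; exact Pi.mulSingle_eq_one_iff.1 (congrArg Subtype.val e)
    refine hh1 (wreath_inj (f := 0) (f' := 0) (h := h) (h' := 1) ?_).2
    rw [h1]
  · refine Subtype.ext ?_
    show (Pi.mulSingle i (liftW h) : Blocks {0}) * Pi.mulSingle i (liftW h) = 1
    rw [← Pi.mulSingle_mul, liftW_mul, hh2, liftW_one, Pi.mulSingle_one]
  · intro e
    have h1 := Pi.mulSingle_injective i (congrArg Subtype.val e)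
    have h2 : shiftW (sylTwo 0) (fun _ => 1) * liftW 1 = shiftW (sylTwo 0) 0 * liftW h := by
      rw [liftW_one, mul_one, shiftW_zero, one_mul]; exact h1
    exact hh1 (wreath_inj h2).2.symm

/-- Transport to a Sylow subgroup. -/
theorem nonempty_equiv_sylow {G X : Type*} [Group G] [Group X] [Finite G] {p : ℕ} [Fact p.Prime]
    (φ : X →* G) (hφ : Function.Injective φ) (hX : Nat.card X = p ^ (Nat.card G).factorization p)
    (P : Sylow p G) : Nonempty (X ≃* (P : Subgroup G)) := by
  have h : Nat.card φ.range = p ^ (Nat.card G).factorization p := by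
    rw [← hX]; exact (Nat.card_congr (MonoidHom.ofInjective hφ).toEquiv).symm
  exact ⟨(MonoidHom.ofInjective hφ).trans (Sylow.equiv (Sylow.ofCard φ.range h) P)⟩

theorem decomposable_iff_not_indec {G : Type*} [Group G] (P : Subgroup G) :
    (∃ S₁ S₂ : Subgroup G, S₁ ≠ ⊥ ∧ S₂ ≠ ⊥ ∧ S₁ ≤ P ∧ S₂ ≤ P ∧
      (∀ a ∈ S₁, ∀ b ∈ S₂, a * b = b * a) ∧ S₁ ⊓ S₂ = ⊥ ∧ S₁ ⊔ S₂ = P) ↔ ¬ Indec P := by
  constructor
  · rintro ⟨S₁, S₂, h1, h2, l1, l2, hc, hi, hs⟩ h
    refine (h (S₁.subgroupOf P) (S₂.subgroupOf P) (fun a ha b hb => Subtype.ext (hc _ ha _ hb))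
      ?_ ?_).elim (fun e => ?_) (fun e => ?_)
    · rw [Subgroup.eq_bot_iff_forall]
      intro x hx
      exact Subtype.ext (Subgroup.mem_bot.1 (hi ▸ Subgroup.mem_inf.2
        ⟨(Subgroup.mem_inf.1 hx).1, (Subgroup.mem_inf.1 hx).2⟩))
    · refine Subgroup.map_injective P.subtype_injective ?_
      rw [Subgroup.map_sup, Subgroup.map_subgroupOf_eq_of_le l1, Subgroup.map_subgroupOf_eq_of_le l2,
        hs, ← MonoidHom.range_eq_map, Subgroup.range_subtype]
    · exact h1 ((inf_eq_left.2 l1).symm.trans (disjoint_iff.1 (Subgroup.subgroupOf_eq_bot.1 e)))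
    · exact h2 ((inf_eq_left.2 l2).symm.trans (disjoint_iff.1 (Subgroup.subgroupOf_eq_bot.1 e)))
  · intro h
    simp only [Indec, not_forall, not_or, exists_prop] at h
    obtain ⟨A, B, hc, hi, hs, hA, hB⟩ := h
    refine ⟨A.map P.subtype, B.map P.subtype, ?_, ?_, Subgroup.map_subtype_le A,
      Subgroup.map_subtype_le B, ?_, ?_, ?_⟩
    · rwa [ne_eq, Subgroup.map_eq_bot_iff_of_injective _ P.subtype_injective]
    · rwa [ne_eq, Subgroup.map_eq_bot_iff_of_injective _ P.subtype_injective]
    · rintro _ ⟨a, ha, rfl⟩ _ ⟨b, hb, rfl⟩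
      rw [← map_mul, hc a ha b hb, map_mul]
    · rw [← Subgroup.map_inf _ _ _ P.subtype_injective, hi, Subgroup.map_bot]
    · rw [← Subgroup.map_sup, hs, ← MonoidHom.range_eq_map, Subgroup.range_subtype]

/-- A homomorphism inverse to the sign in degree two. -/
def unitsPermTwo : ℤˣ →* Perm (Fin 2) :=
  MonoidHom.mk' (fun u => if u = 1 then 1 else swap 0 1) (by decide)

theorem sign_unitsPermTwo : ∀ u, sign (unitsPermTwo u) = u := by decide

theorem two_part_alternating (n : ℕ) (hn : 2 ≤ n) :
    (Nat.card (alternatingGroup (Fin n))).factorization 2 + 1 = padicValNat 2 n.factorial := by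
  haveI : Nontrivial (Fin n) := Fintype.one_lt_card_iff_nontrivial.1 (by simp; omega)
  have h : 2 * Nat.card (alternatingGroup (Fin n)) = n.factorial := by
    rw [Nat.card_eq_fintype_card, two_mul_card_alternatingGroup, Fintype.card_perm, Fintype.card_fin]
  haveI : Fact (Nat.Prime 2) := ⟨Nat.prime_two⟩
  rw [← h, padicValNat.mul (by norm_num) Nat.card_pos.ne', padicValNat_self,
    Nat.factorization_def _ Nat.prime_two, add_comm]

/-- Direct decomposability of a Sylow 2-subgroup of an alternating group. -/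
theorem alternating_sylow_two_indec_iff (n : ℕ) (hn : 4 ≤ n)
    (P : Sylow 2 (alternatingGroup (Fin n))) :
    ¬ Indec (P : Subgroup (alternatingGroup (Fin n))) ↔
      (n = 4 ∨ n = 5 ∨ ((n % 4 = 2 ∨ n % 4 = 3) ∧ ∀ r : ℕ, 4 * (n / 4) ≠ 2 ^ r)) := by
  classical
  haveI : Fact (Nat.Prime 2) := ⟨Nat.prime_two⟩
  obtain ⟨D, hD, hv⟩ := exists_binary_digits (n / 4)
  have hne : 1 ≤ D.card := by
    rcases Finset.eq_empty_or_nonempty D with rfl | h
    · simp at hD; omega
    · exact h.card_pos
  have hpow : D.card = 1 ↔ ∃ r : ℕ, 4 * (n / 4) = 2 ^ r := by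
    constructor
    · intro h
      obtain ⟨d, rfl⟩ := Finset.card_eq_one.1 h
      rw [Finset.sum_singleton] at hD
      exact ⟨d + 2, by rw [pow_add, hD]; omega⟩
    · rintro ⟨r, hr⟩
      obtain ⟨s, rfl⟩ : ∃ s, r = s + 2 := by
        refine ⟨r - 2, ?_⟩
        have : 2 ≤ r := by
          by_contra h
          interval_cases r <;> omega
        omega
      have hk : n / 4 = 2 ^ s := by rw [pow_add] at hr; omega
      have := two_adic_two_pow s
      rw [← hk] at this
      omega
  have hT := card_blocks D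
  rw [hD] at hT
  have hpts : Fintype.card (BlockPts D) = 4 * (n / 4) := by rw [card_blockPts, hD]
  have hf := two_part_alternating n (by omega)
  obtain ⟨a0, a1⟩ := two_adic_double (n / 4)
  obtain ⟨b0, b1⟩ := two_adic_double (2 * (n / 4))
  obtain ⟨c0, c1⟩ := two_adic_double (2 * (n / 4) + 1)
  have hsurj : Function.Surjective (blocksSign D) := by
    intro u
    obtain ⟨d, hd⟩ := Finset.card_pos.1 hne
    obtain ⟨c, hc⟩ := (goodSigned_block d).odd
    rcases Int.units_eq_one_or u with rfl | rfl
    · exact ⟨1, map_one _⟩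
    · exact ⟨Pi.mulSingle (⟨d, hd⟩ : D) c, (signProd_mulSingle _ _ _).trans hc⟩
  rcases (by omega : (n % 4 = 0 ∨ n % 4 = 1) ∨ (n % 4 = 2 ∨ n % 4 = 3)) with hr | hr
  · have hvn : padicValNat 2 n.factorial = padicValNat 2 (n / 4).factorial + 3 * (n / 4) := by
      rcases hr with hr | hr
      · have e := congrArg (fun m => padicValNat 2 m.factorial) (show n = 2 * (2 * (n / 4)) by omega)
        simp only [b0, a0] at e
        omega
      · have e := congrArg (fun m => padicValNat 2 m.factorial) (show n = 2 * (2 * (n / 4)) + 1 by omega)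
        simp only [b1, a0] at e
        omega
    obtain ⟨ι⟩ : Nonempty (BlockPts D ↪ Fin n) :=
      Function.Embedding.nonempty_of_card_le (by rw [hpts, Fintype.card_fin]; omega)
    let φ : (blocksSign D).ker →* alternatingGroup (Fin n) :=
      ((viaEmbeddingHom ι).comp ((blocksHom D).comp (blocksSign D).ker.subtype)).codRestrict _
        fun t => by
          rw [mem_alternatingGroup, MonoidHom.comp_apply, viaEmbeddingHom_apply, viaEmbedding,
            sign_extendDomain, MonoidHom.comp_apply, sign_blocksHom]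
          exact t.2
    have hφ : Function.Injective φ := fun s t e => Subtype.ext <| blocksHom_injective D <|
      viaEmbeddingHom_injective ι (congrArg Subtype.val e)
    have hker : Nat.card (blocksSign D).ker =
        2 ^ (Nat.card (alternatingGroup (Fin n))).factorization 2 := by
      have h2 := Subgroup.card_mul_index (blocksSign D).ker
      rw [Subgroup.index_ker, MonoidHom.range_eq_top.2 hsurj, Subgroup.card_top, hT,
        show Nat.card ℤˣ = 2 by simp,
        show 4 * (n / 4) - D.card = (Nat.card (alternatingGroup (Fin n))).factorization 2 + 1 by omega,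
        pow_succ] at h2
      exact mul_right_cancel₀ two_ne_zero h2
    obtain ⟨e⟩ := nonempty_equiv_sylow φ hφ hker P
    rw [← indec_congr e]
    rcases (by omega : D.card = 1 ∨ 2 ≤ D.card) with h1 | h2
    · obtain ⟨d, rfl⟩ := Finset.card_eq_one.1 h1
      rw [Finset.sum_singleton] at hD
      rcases Nat.eq_zero_or_pos d with rfl | hd
      · simp only [not_indec_blocks_ker_zero, not_false_eq_true, true_iff]
        simp at hD
        omega
      · simp only [indec_blocks_ker_single d hd, not_true_eq_false, false_iff]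
        have : 2 ^ 1 ≤ 2 ^ d := Nat.pow_le_pow_right (by norm_num) hd
        have h8 : 8 ≤ n := by omega
        rintro (h | h | ⟨h, -⟩)
        · clear * - h h8; omega
        · clear * - h h8; omega
        · clear * - h hr; omega
    · simp only [indec_blocks_ker D h2, not_true_eq_false, false_iff]
      rintro (h | h | ⟨h, -⟩)
      · have : D.card = 1 := hpow.2 ⟨2, by subst h; rfl⟩
        omega
      · have : D.card = 1 := hpow.2 ⟨2, by subst h; rfl⟩
        omega
      · omega
  · have hvn : padicValNat 2 n.factorial = padicValNat 2 (n / 4).factorial + 3 * (n / 4) + 1 := by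
      rcases hr with hr | hr
      · have e := congrArg (fun m => padicValNat 2 m.factorial) (show n = 2 * (2 * (n / 4) + 1) by omega)
        simp only [c0, a1] at e
        omega
      · have e := congrArg (fun m => padicValNat 2 m.factorial) (show n = 2 * (2 * (n / 4) + 1) + 1 by omega)
        simp only [c1, a1] at e
        omega
    obtain ⟨ι⟩ : Nonempty (BlockPts D ⊕ Fin 2 ↪ Fin n) :=
      Function.Embedding.nonempty_of_card_le
        (by rw [Fintype.card_sum, hpts, Fintype.card_fin, Fintype.card_fin]; omega)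
    let φ : Blocks D →* alternatingGroup (Fin n) :=
      ((viaEmbeddingHom ι).comp ((Equiv.Perm.sumCongrHom (BlockPts D) (Fin 2)).comp
        ((blocksHom D).prod (unitsPermTwo.comp (blocksSign D))))).codRestrict _
        fun t => by
          rw [mem_alternatingGroup, MonoidHom.comp_apply, viaEmbeddingHom_apply, viaEmbedding,
            sign_extendDomain, MonoidHom.comp_apply, MonoidHom.prod_apply, sumCongrHom_apply,
            sign_sumCongr, sign_blocksHom, MonoidHom.comp_apply, sign_unitsPermTwo, Int.units_mul_self]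
    have hφ : Function.Injective φ := fun s t e => blocksHom_injective D <|
      (Prod.ext_iff.1 (Equiv.Perm.sumCongrHom_injective
        (viaEmbeddingHom_injective ι (congrArg Subtype.val e)))).1
    have hTT : Nat.card (Blocks D) = 2 ^ (Nat.card (alternatingGroup (Fin n))).factorization 2 := by
      rw [hT]; congr 1; omega
    obtain ⟨e⟩ := nonempty_equiv_sylow φ hφ hTT P
    rw [← indec_congr e]
    rcases (by omega : D.card = 1 ∨ 2 ≤ D.card) with h1 | h2
    · obtain ⟨d, rfl⟩ := Finset.card_eq_one.1 h1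
      simp only [indec_blocks_single d, not_true_eq_false, false_iff]
      rintro (h | h | ⟨-, h⟩)
      · omega
      · omega
      · obtain ⟨r, hr'⟩ := hpow.1 h1
        exact h r hr'
    · simp only [not_indec_blocks D h2, not_false_eq_true, true_iff]
      refine Or.inr (Or.inr ⟨hr, fun r hr' => ?_⟩)
      have := hpow.2 ⟨r, hr'⟩
      omega

end H62
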