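import Cfsg.Agent.H62.M23A7.Pts
import Cfsg.Agent.H62.M23A7.Subs
import Cfsg.Agent.H62.M23A7.Klein
import Cfsg.Agent.H62.M23A7.Hom

/-!
The alternating group of degree seven as the quotient of the normaliser of the sixteen-group, and
its stabilisers of points and triples.
-/
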