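import Cfsg.Agent.H65.SimpleTools
import Cfsg.Agent.H61.DihedralIso
import Cfsg.Agent.S1012

/-!
Structure of a simple group of order `168`, by counting.
-/

namespace H62

open Subgroup

namespace O168

variable {G : Type*} [Group G] [Finite G] [IsSimpleGroup G] (h : Nat.card G = 168)
include h

theorem notComm : ¬ IsMulCommutative G := not_comm_of_not_prime (by rw [h]; norm_num)

theorem n_seven [Fact (Nat.Prime 7)] : Nat.card (Sylow 7 G) = 8 := by
  have hn := sylow_number (p := 7) (a := 1) (m := 24) (notComm h) (h.trans (by norm_num)) (by norm_num)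
    one_pos 1 (by rw [h]; decide)
  rwa [show (Nat.divisors 24).filter (fun d => d % 7 = 1 ∧ 1 < d) = {8} by decide +kernel,
    Finset.mem_singleton] at hn

theorem card_P7 [Fact (Nat.Prime 7)] (P : Sylow 7 G) : Nat.card (P : Subgroup G) = 7 := by
  rw [card_sylow_coe (a := 1) (m := 24) (h.trans (by norm_num)) (by norm_num) P, pow_one]

theorem card_P3 [Fact (Nat.Prime 3)] (P : Sylow 3 G) : Nat.card (P : Subgroup G) = 3 := by
  rw [card_sylow_coe (a := 1) (m := 56) (h.trans (by norm_num)) (by norm_num) P, pow_one]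

theorem card_T [Fact (Nat.Prime 2)] (T : Sylow 2 G) : Nat.card (T : Subgroup G) = 8 := by
  rw [card_sylow_coe (a := 3) (m := 21) (h.trans (by norm_num)) (by norm_num) T]; norm_num

theorem card_N7 [Fact (Nat.Prime 7)] (P : Sylow 7 G) :
    Nat.card (normalizer ((P : Subgroup G) : Set G)) = 21 := by
  have := card_normalizer_mul P; rw [n_seven h, h] at this; omega

theorem n_three [Fact (Nat.Prime 3)] : Nat.card (Sylow 3 G) = 28 := by
  have h3 : Fact (Nat.Prime 7) := ⟨by norm_num⟩
  have hn := H65.sylow_candidate (p := 3) (a := 1) (m := 56) (notComm h) h (by norm_num) (by norm_num) one_pos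
  rw [show (Nat.divisors 56).filter (fun d => d % 3 = 1 ∧ 1 < d ∧ (2 * 168 ∣ d.factorial)) = {7, 28}
        from by decide +kernel, Finset.mem_insert, Finset.mem_singleton] at hn
  obtain ⟨P⟩ := (inferInstance : Nonempty (Sylow 7 G))
  obtain ⟨Q⟩ := (inferInstance : Nonempty (Sylow 3 G))
  have hP := card_P7 h P
  obtain ⟨c, r, hc, hrc, hr, hr1, h7⟩ := H65.centralizer_sylow_card P hP (notComm h)
  rw [card_N7 h P] at hrc
  obtain ⟨x, hx⟩ := exists_prime_orderOf_dvd_card' (G := normalizer ((P : Subgroup G) : Set G)) 3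
    (by rw [card_N7 h P]; norm_num)
  have hx3 : orderOf (x : G) = 3 := by rw [Subgroup.orderOf_coe, hx]
  have hxc : (x : G) ∉ centralizer ((P : Subgroup G) : Set G) := by
    intro hxc
    have h3d : 3 ∣ c := by
      have := orderOf_dvd_natCard (⟨(x : G), hxc⟩ : centralizer ((P : Subgroup G) : Set G))
      rwa [Subgroup.orderOf_mk, hx3, hc] at this
    obtain ⟨a, rfl⟩ := Nat.Coprime.mul_dvd_of_dvd_of_dvd (by norm_num : Nat.Coprime 3 7) h3d h7
    have hle := Nat.le_of_dvd (by norm_num) (Dvd.intro_left r hrc)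
    rcases a with _ | _ | a <;> omega
  obtain ⟨hf0, hf⟩ := H65.fixedBy_le P hP x.2 hxc
  have hk := H65.le_card_conj_normalizer P hP x.2 hxc
  have heq := card_fixedBy_mul_card_class (normalizer ((P : Subgroup G) : Set G)) (x : G)
  have hidx : (normalizer ((P : Subgroup G) : Set G)).index = 8 :=
    P.card_eq_index_normalizer.symm.trans (n_seven h)
  rw [hidx] at heq
  rw [n_seven h] at hf
  have hsub : Nat.card {g : G // IsConj (x : G) g} ≤ Nat.card {g : G // orderOf g = 3} := by
    refine Nat.card_le_card_of_injective (fun g => ⟨g.1, ?_⟩) (fun a b hab => ?_)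
    · obtain ⟨c, hc⟩ := isConj_iff.1 g.2
      rw [← hc, ← hx3]
      exact MulEquiv.orderOf_eq (MulAut.conj c) (x : G)
    · exact Subtype.ext (congrArg Subtype.val hab : _)
  rw [card_orderOf_eq_prime Q (card_P3 h Q)] at hsub
  have hle : Nat.card (MulAction.fixedBy (G ⧸ normalizer ((P : Subgroup G) : Set G)) (x : G)) *
      Nat.card {g : G // IsConj (x : G) g} ≤ 2 * Nat.card {g : G // IsConj (x : G) g} :=
    Nat.mul_le_mul_right _ (by omega)
  rcases hn with hn | hn
  · rw [hn] at hsub; omega
  · exact hn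

theorem card_N3 [Fact (Nat.Prime 3)] (P : Sylow 3 G) :
    Nat.card (normalizer ((P : Subgroup G) : Set G)) = 6 := by
  have := card_normalizer_mul P; rw [n_three h, h] at this; omega

theorem centralizer_of_prime {p n : ℕ} [Fact p.Prime] (hP : ∀ P : Sylow p G, Nat.card (P : Subgroup G) = p)
    (hN : ∀ P : Sylow p G, Nat.card (normalizer ((P : Subgroup G) : Set G)) = p * n)
    (hn : n.Prime) {x : G} (hx : orderOf x = p) :
    Nat.card (centralizer ({x} : Set G)) = p := by
  obtain ⟨P, hxP⟩ := (IsPGroup.of_card (n := 1) (by rw [Nat.card_zpowers, hx, pow_one]) :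
    IsPGroup p (zpowers x)).exists_le_sylow
  have he : zpowers x = (P : Subgroup G) :=
    eq_of_le_of_card_ge hxP (by rw [hP, Nat.card_zpowers, hx])
  obtain ⟨c, r, hc, hrc, -, hr1, hpc⟩ := H65.centralizer_sylow_card P (hP P) (notComm h)
  rw [← centralizer_closure, ← zpowers_eq_closure, he, hc]
  rw [hN] at hrc
  obtain ⟨a, rfl⟩ := hpc
  have : r * a = n := Nat.eq_of_mul_eq_mul_left (Fact.out : p.Prime).pos (by rw [← hrc]; ring)
  rcases (Nat.dvd_prime hn).1 (Dvd.intro a this) with h1 | h1
  · omega
  · subst h1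
    have : a = 1 := Nat.eq_of_mul_eq_mul_left hn.pos (by rw [this, mul_one])
    rw [this, mul_one]

theorem centralizer_three {x : G} (hx : orderOf x = 3) : Nat.card (centralizer ({x} : Set G)) = 3 := by
  have : Fact (Nat.Prime 3) := ⟨Nat.prime_three⟩
  exact centralizer_of_prime h (fun P => card_P3 h P) (fun P => card_N3 h P) Nat.prime_two hx

theorem centralizer_seven {x : G} (hx : orderOf x = 7) : Nat.card (centralizer ({x} : Set G)) = 7 := by
  have : Fact (Nat.Prime 7) := ⟨by norm_num⟩
  exact centralizer_of_prime h (fun P => card_P7 h P) (fun P => card_N7 h P) Nat.prime_three hx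

theorem orderOf_cases (g : G) :
    orderOf g = 1 ∨ orderOf g = 2 ∨ orderOf g = 3 ∨ orderOf g = 4 ∨ orderOf g = 7 := by
  have hd : orderOf g ∣ 168 := h ▸ orderOf_dvd_natCard g
  have key : ∀ q : ℕ, (∀ x : G, orderOf x = q → Nat.card (centralizer ({x} : Set G)) = q) →
      q ∣ orderOf g → orderOf g ∣ q := by
    intro q hq hdq
    have hy := orderOf_pow_orderOf_div (orderOf_pos g).ne' hdq
    have hmem : g ∈ centralizer ({g ^ (orderOf g / q)} : Set G) :=
      mem_centralizer_singleton_iff.2 ((Commute.self_pow g _).eq)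
    have := orderOf_dvd_natCard (⟨g, hmem⟩ : centralizer ({g ^ (orderOf g / q)} : Set G))
    rwa [Subgroup.orderOf_mk, hq _ hy] at this
  by_cases h3 : 3 ∣ orderOf g
  · rcases (Nat.dvd_prime Nat.prime_three).1 (key 3 (fun x hx => centralizer_three h hx) h3) with e | e <;> omega
  by_cases h7 : 7 ∣ orderOf g
  · rcases (Nat.dvd_prime (by norm_num : Nat.Prime 7)).1 (key 7 (fun x hx => centralizer_seven h hx) h7) with e | e <;> omega
  have h8 : orderOf g ∣ 2 ^ 3 := by
    have h21 : Nat.Coprime (orderOf g) 21 :=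
      Nat.Coprime.mul_right ((Nat.prime_three.coprime_iff_not_dvd.2 h3).symm)
        (((by norm_num : Nat.Prime 7).coprime_iff_not_dvd.2 h7).symm)
    exact h21.dvd_of_dvd_mul_right (show orderOf g ∣ 2 ^ 3 * 21 by norm_num; exact hd)
  obtain ⟨j, hj, hg⟩ := (Nat.dvd_prime_pow Nat.prime_two).1 h8
  have hne : j ≠ 3 := by
    intro hj3
    have : Fact (Nat.Prime 2) := ⟨Nat.prime_two⟩
    obtain ⟨T, hT⟩ := (IsPGroup.of_card (n := 3) (by rw [Nat.card_zpowers, hg, hj3]) :
      IsPGroup 2 (zpowers g)).exists_le_sylow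
    apply not_isCyclic_sylow_minFac (notComm h) (p := 2) (by rw [h]; norm_num) T
    rw [← eq_of_le_of_card_ge hT (by rw [card_T h T, Nat.card_zpowers, hg, hj3]; norm_num)]
    infer_instance
  interval_cases j <;> simp_all

theorem card_orderOf_three : Nat.card {g : G // orderOf g = 3} = 56 := by
  have : Fact (Nat.Prime 3) := ⟨Nat.prime_three⟩
  obtain ⟨P⟩ := (inferInstance : Nonempty (Sylow 3 G))
  rw [card_orderOf_eq_prime P (card_P3 h P), n_three h]

theorem card_orderOf_seven : Nat.card {g : G // orderOf g = 7} = 48 := by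
  have : Fact (Nat.Prime 7) := ⟨by norm_num⟩
  obtain ⟨P⟩ := (inferInstance : Nonempty (Sylow 7 G))
  rw [card_orderOf_eq_prime P (card_P7 h P), n_seven h]

theorem card_orderOf_two_four :
    Nat.card {g : G // orderOf g = 2} + Nat.card {g : G // orderOf g = 4} = 63 := by
  classical
  have : Fintype G := Fintype.ofFinite G
  have e : ∀ k : ℕ, Nat.card {g : G // orderOf g = k} = (Finset.univ.filter fun g : G => orderOf g = k).card := by
    intro k
    rw [Nat.card_eq_fintype_card, Fintype.card_subtype]
  have h1 : (Finset.univ.filter fun g : G => orderOf g = 1).card = 1 := by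
    rw [Finset.card_eq_one]
    exact ⟨1, by ext g; simp [orderOf_eq_one_iff]⟩
  have hs := Finset.card_eq_sum_card_fiberwise (f := orderOf) (s := (Finset.univ : Finset G))
    (t := ({1, 2, 3, 4, 7} : Finset ℕ)) (fun g _ => by
      have := orderOf_cases h g
      simpa using this)
  rw [Finset.card_univ, ← Nat.card_eq_fintype_card, h] at hs
  simp only [Finset.sum_insert, Finset.mem_insert, Finset.mem_singleton, Finset.sum_singleton,
    OfNat.ofNat_ne_one, OfNat.one_ne_ofNat, or_self, not_false_iff, Nat.reduceEqDiff] at hs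
  rw [h1, ← e, ← e, ← e, ← e, card_orderOf_three h, card_orderOf_seven h] at hs
  omega

theorem n_two [Fact (Nat.Prime 2)] : Nat.card (Sylow 2 G) = 21 := by
  classical
  have hd := card_sylow_dvd (p := 2) (a := 3) (m := 21) (h.trans (by norm_num)) (by norm_num)
  by_contra hne
  have hle7 : Nat.card (Sylow 2 G) ≤ 7 := by
    have hle := Nat.le_of_dvd (by norm_num) hd
    by_contra h7
    generalize Nat.card (Sylow 2 G) = n at hd hne hle h7
    interval_cases n <;> omega
  have hU : Nat.card {g : G // orderOf g = 2} + Nat.card {g : G // orderOf g = 4} ≤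
      Nat.card (Σ T : Sylow 2 G, {x : (T : Subgroup G) // x ≠ 1}) := by
    rw [← Nat.card_sum]
    have hex : ∀ g : G, orderOf g = 2 ∨ orderOf g = 4 → ∃ T : Sylow 2 G, g ∈ (T : Subgroup G) := by
      intro g hg
      obtain ⟨T, hT⟩ := (IsPGroup.of_card (n := if orderOf g = 2 then 1 else 2)
        (by rw [Nat.card_zpowers]; rcases hg with e | e <;> rw [e] <;> norm_num) :
        IsPGroup 2 (zpowers g)).exists_le_sylow
      exact ⟨T, hT (mem_zpowers g)⟩
    choose S hS using hex
    refine Nat.card_le_card_of_injective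
      (Sum.elim (fun g => ⟨S g.1 (Or.inl g.2), ⟨g.1, hS g.1 (Or.inl g.2)⟩, fun he => by
          have e : (g.1 : G) = 1 := congrArg Subtype.val he
          have := g.2; rw [e, orderOf_one] at this; omega⟩)
        (fun g => ⟨S g.1 (Or.inr g.2), ⟨g.1, hS g.1 (Or.inr g.2)⟩, fun he => by
          have e : (g.1 : G) = 1 := congrArg Subtype.val he
          have := g.2; rw [e, orderOf_one] at this; omega⟩)) ?_
    rintro (⟨a, ha⟩ | ⟨a, ha⟩) (⟨b, hb⟩ | ⟨b, hb⟩) hab
    all_goals
      have hv := congrArg (fun z : (Σ T : Sylow 2 G, {x : (T : Subgroup G) // x ≠ 1}) => ((z.2 : (z.1 : Subgroup G)) : G)) hab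
      simp only [Sum.elim_inl, Sum.elim_inr] at hv
      subst hv
      first | rfl | omega
  have : Fintype (Sylow 2 G) := Fintype.ofFinite _
  rw [card_orderOf_two_four h, Nat.card_sigma] at hU
  have h7 : ∀ T : Sylow 2 G, Nat.card {x : (T : Subgroup G) // x ≠ 1} = 7 := by
    intro T
    have : Fintype (T : Subgroup G) := Fintype.ofFinite _
    rw [Nat.card_eq_fintype_card, Fintype.card_subtype_compl, Fintype.card_subtype_eq,
      ← Nat.card_eq_fintype_card, card_T h T]
  rw [Finset.sum_congr rfl (fun T _ => h7 T), Finset.sum_const, Finset.card_univ, smul_eq_mul,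
    ← Nat.card_eq_fintype_card] at hU
  omega

theorem normalizer_T [Fact (Nat.Prime 2)] (T : Sylow 2 G) :
    normalizer ((T : Subgroup G) : Set G) = T := by
  refine (eq_of_le_of_card_ge le_normalizer ?_).symm
  have := card_normalizer_mul T; rw [n_two h, h] at this
  rw [card_T h T]; omega

theorem not_comm_T [Fact (Nat.Prime 2)] (T : Sylow 2 G) : ¬ IsMulCommutative (T : Subgroup G) := by
  intro hab
  have := card_sylow_lt_card_normalizer (notComm h) (p := 2) (by rw [h]; norm_num) T hab
  rw [normalizer_T h T] at this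
  exact lt_irrefl _ this

theorem centralizer_involution_dvd {z : G} (hz : orderOf z = 2) :
    Nat.card (centralizer ({z} : Set G)) ∣ 8 := by
  have hd : Nat.card (centralizer ({z} : Set G)) ∣ 8 * 21 := by
    rw [show 8 * 21 = Nat.card G by rw [h]]
    exact card_subgroup_dvd_card _
  refine Nat.Coprime.dvd_of_dvd_mul_right ?_ hd
  have key : ∀ q : ℕ, q.Prime → (∀ x : G, orderOf x = q → Nat.card (centralizer ({x} : Set G)) = q) →
      ¬ 2 ∣ q → Nat.Coprime (Nat.card (centralizer ({z} : Set G))) q := by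
    intro q hq hC hodd
    rw [Nat.coprime_comm, hq.coprime_iff_not_dvd]
    intro hdq
    have : Fact q.Prime := ⟨hq⟩
    obtain ⟨x, hx⟩ := exists_prime_orderOf_dvd_card' (G := centralizer ({z} : Set G)) q hdq
    have hmem : z ∈ centralizer ({(x : G)} : Set G) :=
      mem_centralizer_singleton_iff.2 (mem_centralizer_singleton_iff.1 x.2).symm
    have := orderOf_dvd_natCard (⟨z, hmem⟩ : centralizer ({(x : G)} : Set G))
    rw [Subgroup.orderOf_mk, hz, hC _ (by rw [Subgroup.orderOf_coe, hx])] at this
    exact hodd this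
  exact Nat.Coprime.mul_right (key 3 Nat.prime_three (fun x hx => centralizer_three h hx) (by norm_num))
    (key 7 (by norm_num) (fun x hx => centralizer_seven h hx) (by norm_num))

theorem centralizer_central [Fact (Nat.Prime 2)] (T : Sylow 2 G) {z : G} (hz : z ∈ (T : Subgroup G))
    (hz1 : z ≠ 1) (hc : ∀ t ∈ (T : Subgroup G), t * z = z * t) :
    orderOf z = 2 ∧ centralizer ({z} : Set G) = T := by
  have hle : (T : Subgroup G) ≤ centralizer ({z} : Set G) := fun t ht =>
    mem_centralizer_singleton_iff.2 (hc t ht)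
  have hd := card_dvd_of_le hle
  rw [card_T h T] at hd
  have ho : orderOf z = 2 := by
    rcases orderOf_cases h z with e | e | e | e | e
    · exact absurd (orderOf_eq_one_iff.1 e) hz1
    · exact e
    · rw [centralizer_three h e] at hd; norm_num at hd
    · exfalso
      -- `T` would be commutative, being generated by `z` and any further element
      apply not_comm_T h T
      have hsub : zpowers z ≤ (T : Subgroup G) := zpowers_le.2 hz
      refine ⟨⟨fun a b => Subtype.ext ?_⟩⟩
      show (a : G) * b = b * a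
      by_cases ha : (a : G) ∈ zpowers z
      · obtain ⟨k, hk⟩ := mem_zpowers_iff.1 ha
        rw [← hk]
        exact ((Commute.symm (hc b b.2)).zpow_left k).eq
      set C := centralizer ({(a : G)} : Set G) ⊓ (T : Subgroup G) with hC
      have h4 : zpowers z ≤ C := zpowers_le.2 ⟨mem_centralizer_singleton_iff.2 (hc a a.2).symm, hz⟩
      have haC : (a : G) ∈ C := ⟨mem_centralizer_singleton_iff.2 rfl, a.2⟩
      have h5 := card_dvd_of_le h4
      rw [Nat.card_zpowers, e] at h5
      have h6 := card_dvd_of_le (inf_le_right : C ≤ (T : Subgroup G))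
      rw [card_T h T] at h6
      have h7 : Nat.card C ≠ 4 := fun h4' =>
        ha ((eq_of_le_of_card_ge h4 (by rw [Nat.card_zpowers, e, h4'])).symm ▸ haC)
      have h9 := Nat.le_of_dvd (by norm_num) h6
      have h10 : 0 < Nat.card C := Nat.card_pos
      have h8 : Nat.card C = 8 := by
        generalize Nat.card C = n at h5 h6 h7 h9 h10
        interval_cases n <;> omega
      have hCT : C = (T : Subgroup G) :=
        eq_of_le_of_card_ge (inf_le_right : C ≤ (T : Subgroup G)) (by rw [h8, card_T h T])
      have hbC : (b : G) ∈ C := by rw [hCT]; exact b.2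
      exact (mem_centralizer_singleton_iff.1 hbC.1).symm
    · rw [centralizer_seven h e] at hd; norm_num at hd
  refine ⟨ho, (eq_of_le_of_card_ge hle ?_).symm⟩
  rw [card_T h T]
  exact Nat.le_of_dvd (by norm_num) (centralizer_involution_dvd h ho)

theorem exists_central [Fact (Nat.Prime 2)] (T : Sylow 2 G) :
    ∃ z ∈ (T : Subgroup G), orderOf z = 2 ∧ centralizer ({z} : Set G) = T := by
  have : Nontrivial (T : Subgroup G) :=
    Finite.one_lt_card_iff_nontrivial.1 (by rw [card_T h T]; norm_num)
  have := T.isPGroup'.center_nontrivial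
  obtain ⟨w, hw⟩ := exists_ne (1 : Subgroup.center (T : Subgroup G))
  refine ⟨w.1.1, w.1.2, centralizer_central h T w.1.2 (fun e => hw (Subtype.ext (Subtype.ext e))) ?_⟩
  intro t ht
  exact congrArg Subtype.val (mem_center_iff.1 w.2 ⟨t, ht⟩)

theorem exists_order_four [Fact (Nat.Prime 2)] (T : Sylow 2 G) :
    ∃ e ∈ (T : Subgroup G), orderOf e = 4 := by
  by_contra hne
  push Not at hne
  apply not_comm_T h T
  refine ⟨⟨fun a b => ?_⟩⟩
  have hsq : ∀ x : (T : Subgroup G), x * x = 1 := by
    intro x
    have hd : orderOf (x : G) ∣ 8 := card_T h T ▸ Subgroup.orderOf_coe x ▸ orderOf_dvd_natCard x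
    apply Subtype.ext
    show (x : G) * x = 1
    rw [← sq]
    apply orderOf_dvd_iff_pow_eq_one.1
    rcases orderOf_cases h (x : G) with e | e | e | e | e
    · rw [e]; norm_num
    · rw [e]
    · rw [e] at hd; norm_num at hd
    · exact absurd e (hne x x.2)
    · rw [e] at hd; norm_num at hd
  have hinv : ∀ x : (T : Subgroup G), x⁻¹ = x := fun x => inv_eq_of_mul_eq_one_left (hsq x)
  rw [← hinv (a * b), mul_inv_rev, hinv, hinv]

theorem sq_of_order_four [Fact (Nat.Prime 2)] (T : Sylow 2 G) {e : G} (he : e ∈ (T : Subgroup G))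
    (he4 : orderOf e = 4) :
    centralizer ({e ^ 2} : Set G) = T ∧ orderOf (e ^ 2) = 2 ∧
      ∀ t ∈ (T : Subgroup G), t ∉ zpowers e → t * t = 1 ∨ orderOf t = 4 := by
  have ho : orderOf (e ^ 2) = 2 := by
    rw [orderOf_pow' e two_ne_zero, he4]; rfl
  refine ⟨?_, ho, fun t ht _ => ?_⟩
  · have hidx : ((zpowers e).subgroupOf (T : Subgroup G)).index = 2 := by
      have hm := card_mul_index ((zpowers e).subgroupOf (T : Subgroup G))
      rw [Nat.card_congr (subgroupOfEquivOfLe (zpowers_le.2 he)).toEquiv, Nat.card_zpowers, he4,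
        card_T h T] at hm
      omega
    have hn : ((zpowers e).subgroupOf (T : Subgroup G)).Normal := normal_of_index_eq_two hidx
    have hc : ∀ t ∈ (T : Subgroup G), t * e ^ 2 = e ^ 2 * t := by
      intro t ht
      have hmem : t * e * t⁻¹ ∈ zpowers e := hn.conj_mem ⟨e, he⟩ (mem_zpowers e) ⟨t, ht⟩
      obtain ⟨k, hk⟩ := mem_zpowers_iff.1 hmem
      have hto : orderOf (e ^ k) = 4 := by
        rw [hk, ← he4]; exact MulEquiv.orderOf_eq (MulAut.conj t) e
      have hkodd : k % 2 = 1 := by
        by_contra hk2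
        obtain ⟨m, rfl⟩ : (2 : ℤ) ∣ k := by omega
        have h2 : (e ^ (2 * m)) ^ 2 = 1 := by
          rw [← zpow_natCast, ← zpow_mul]
          apply orderOf_dvd_iff_zpow_eq_one.1
          rw [he4]; exact ⟨m, by push_cast; ring⟩
        have := orderOf_dvd_of_pow_eq_one h2
        rw [hto] at this; norm_num at this
      have h2 : t * e ^ 2 * t⁻¹ = e ^ 2 := by
        rw [← conj_pow, ← hk, ← zpow_natCast, ← zpow_mul, ← zpow_natCast e 2]
        apply orderOf_dvd_sub_iff_zpow_eq_zpow.1
        rw [he4]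
        push_cast
        omega
      exact mul_inv_eq_iff_eq_mul.1 h2
    exact (centralizer_central h T (pow_mem he 2) (fun e1 => by rw [e1, orderOf_one] at ho; omega) hc).2
  · have hd : orderOf t ∣ 8 := by
      have := orderOf_dvd_natCard (⟨t, ht⟩ : (T : Subgroup G))
      rwa [Subgroup.orderOf_mk, card_T h T] at this
    rcases orderOf_cases h t with e' | e' | e' | e' | e'
    · left; rw [orderOf_eq_one_iff.1 e', one_mul]
    · left; rw [← sq, ← e', pow_orderOf_eq_one]
    · rw [e'] at hd; norm_num at hd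
    · exact Or.inr e'
    · rw [e'] at hd; norm_num at hd

/-- The census: `21` involutions, `42` elements of order four, two of the latter in each Sylow. -/
theorem census [Fact (Nat.Prime 2)] :
    Nat.card {g : G // orderOf g = 2} = 21 ∧ Nat.card {g : G // orderOf g = 4} = 42 ∧
      (∀ z : G, orderOf z = 2 → ∃ T : Sylow 2 G, centralizer ({z} : Set G) = T) ∧
      ∀ (T : Sylow 2 G) (e f : G), e ∈ (T : Subgroup G) → f ∈ (T : Subgroup G) →
        orderOf e = 4 → orderOf f = 4 → f = e ∨ f = e⁻¹ := by
  classical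
  have : Fintype (Sylow 2 G) := Fintype.ofFinite _
  -- central involutions
  choose z hz hz2 hzC using fun T : Sylow 2 G => exists_central h T
  let Φ : Sylow 2 G → {g : G // orderOf g = 2} := fun T => ⟨z T, hz2 T⟩
  have hΦ : Function.Injective Φ := by
    intro T T' he
    have e : z T = z T' := congrArg Subtype.val he
    exact Sylow.ext (by rw [← hzC T, ← hzC T', e])
  have h21 : 21 ≤ Nat.card {g : G // orderOf g = 2} := n_two h ▸ Nat.card_le_card_of_injective Φ hΦ
  -- elements of order four
  choose e he he4 using fun T : Sylow 2 G => exists_order_four h T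
  let Ψ : Sylow 2 G × Bool → {g : G // orderOf g = 4} := fun x =>
    ⟨if x.2 then e x.1 else (e x.1)⁻¹, by split <;> simp [he4]⟩
  have hsqinv : ∀ T, (e T)⁻¹ ^ 2 = e T ^ 2 := by
    intro T
    rw [inv_pow]
    refine inv_eq_of_mul_eq_one_left ?_
    rw [← pow_add]
    show e T ^ 4 = 1
    rw [← he4 T, pow_orderOf_eq_one]
  have hΨ : Function.Injective Ψ := by
    rintro ⟨T, b⟩ ⟨T', b'⟩ heq
    have hv : (if b then e T else (e T)⁻¹) = (if b' then e T' else (e T')⁻¹) := congrArg Subtype.val heq
    have hs : e T ^ 2 = e T' ^ 2 := by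
      have := congrArg (fun g : G => g ^ 2) hv
      cases b <;> cases b' <;> simpa [hsqinv] using this
    obtain rfl : T = T' := Sylow.ext (by
      rw [← (sq_of_order_four h T (he T) (he4 T)).1, ← (sq_of_order_four h T' (he T') (he4 T')).1, hs])
    have hne : e T ≠ (e T)⁻¹ := by
      intro h'
      have : e T ^ 2 = 1 := by rw [sq]; exact mul_eq_one_iff_eq_inv.2 h'
      have := orderOf_dvd_of_pow_eq_one this
      rw [he4] at this; norm_num at this
    cases b <;> cases b' <;> simp_all
  have h42 : 42 ≤ Nat.card {g : G // orderOf g = 4} := by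
    have := Nat.card_le_card_of_injective Ψ hΨ
    rwa [Nat.card_prod, n_two h, Nat.card_eq_two_iff.2 ⟨true, false, by simp, by ext b; cases b <;> simp⟩] at this
  have hsum := card_orderOf_two_four h
  have hΦb : Function.Bijective Φ :=
    hΦ.bijective_of_nat_card_le (by rw [n_two h]; omega)
  have hΨb : Function.Bijective Ψ := hΨ.bijective_of_nat_card_le (by
    rw [Nat.card_prod, n_two h, Nat.card_eq_two_iff.2 ⟨true, false, by simp, by ext b; cases b <;> simp⟩]
    omega)
  refine ⟨by omega, by omega, fun x hx => ?_, fun T a b ha hb ha4 hb4 => ?_⟩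
  · obtain ⟨T, hT⟩ := hΦb.2 ⟨x, hx⟩
    have e : z T = x := congrArg Subtype.val hT
    exact ⟨T, e ▸ hzC T⟩
  · have key : ∀ a : G, a ∈ (T : Subgroup G) → orderOf a = 4 → a = e T ∨ a = (e T)⁻¹ := by
      intro a ha ha4
      obtain ⟨⟨T', b⟩, hT'⟩ := hΨb.2 ⟨a, ha4⟩
      have hv : (if b then e T' else (e T')⁻¹) = a := congrArg Subtype.val hT'
      have hs : e T' ^ 2 = a ^ 2 := by
        rw [← hv]; cases b <;> simp [hsqinv]
      obtain rfl : T' = T := Sylow.ext (by
        rw [← (sq_of_order_four h T' (he T') (he4 T')).1, hs, (sq_of_order_four h T ha ha4).1])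
      cases b
      · exact Or.inr hv.symm
      · exact Or.inl hv.symm
    rcases key a ha ha4 with rfl | rfl <;> rcases key b hb hb4 with rfl | rfl <;> simp

/-- Involutions with the same centraliser coincide. -/
theorem central_unique [Fact (Nat.Prime 2)] {x y : G} (hx : orderOf x = 2) (hy : orderOf y = 2)
    (hxy : centralizer ({x} : Set G) = centralizer ({y} : Set G)) : x = y := by
  classical
  obtain ⟨h21, -, -, -⟩ := census h
  choose z hz hz2 hzC using fun T : Sylow 2 G => exists_central h T
  let Φ : Sylow 2 G → {g : G // orderOf g = 2} := fun T => ⟨z T, hz2 T⟩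
  have hΦ : Function.Injective Φ := by
    intro T T' he
    have e : z T = z T' := congrArg Subtype.val he
    exact Sylow.ext (by rw [← hzC T, ← hzC T', e])
  have hb := hΦ.bijective_of_nat_card_le (by rw [h21, n_two h])
  obtain ⟨S, hS⟩ := hb.2 ⟨x, hx⟩
  obtain ⟨S', hS'⟩ := hb.2 ⟨y, hy⟩
  have e1 : z S = x := congrArg Subtype.val hS
  have e2 : z S' = y := congrArg Subtype.val hS'
  obtain rfl : S = S' := Sylow.ext (by rw [← hzC S, ← hzC S', e1, e2, hxy])
  exact e1.symm.trans e2

/-- The dihedral description of a Sylow `2`-subgroup. -/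
theorem exists_dihedral_gens [Fact (Nat.Prime 2)] (T : Sylow 2 G) :
    ∃ e t : G, e ∈ (T : Subgroup G) ∧ t ∈ (T : Subgroup G) ∧ orderOf e = 4 ∧ t * t = 1 ∧
      t ∉ zpowers e ∧ t * e * t⁻¹ = e⁻¹ := by
  obtain ⟨-, -, -, hfour⟩ := census h
  obtain ⟨e, he, he4⟩ := exists_order_four h T
  obtain ⟨t, ht, hte⟩ : ∃ t ∈ (T : Subgroup G), t ∉ zpowers e := by
    by_contra hall
    push Not at hall
    have := card_le_of_le (fun x hx => hall x hx : (T : Subgroup G) ≤ zpowers e)
    rw [card_T h T, Nat.card_zpowers, he4] at this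
    omega
  have htt : t * t = 1 := by
    rcases (sq_of_order_four h T he he4).2.2 t ht hte with h1 | h1
    · exact h1
    · exfalso; apply hte
      rcases hfour T e t he ht he4 h1 with rfl | rfl
      · exact mem_zpowers _
      · exact inv_mem (mem_zpowers _)
  refine ⟨e, t, he, ht, he4, htt, hte, ?_⟩
  rcases hfour T e (t * e * t⁻¹) he (mul_mem (mul_mem ht he) (inv_mem ht)) he4
    (by rw [← he4]; exact MulEquiv.orderOf_eq (MulAut.conj t) e) with h1 | h1
  · exfalso
    apply hte
    -- `t` would centralise `T`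
    have hc : ∀ s ∈ (T : Subgroup G), s * t = t * s := by
      set C := centralizer ({t} : Set G) ⊓ (T : Subgroup G) with hC
      have h4 : zpowers e ≤ C :=
        zpowers_le.2 ⟨mem_centralizer_singleton_iff.2 (mul_inv_eq_iff_eq_mul.1 h1).symm, he⟩
      have htC : t ∈ C := ⟨mem_centralizer_singleton_iff.2 rfl, ht⟩
      have h5 := card_dvd_of_le h4
      rw [Nat.card_zpowers, he4] at h5
      have h6 := card_dvd_of_le (inf_le_right : C ≤ (T : Subgroup G))
      rw [card_T h T] at h6
      have h7 : Nat.card C ≠ 4 := fun h4' =>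
        hte ((eq_of_le_of_card_ge h4 (by rw [Nat.card_zpowers, he4, h4'])).symm ▸ htC)
      have h9 := Nat.le_of_dvd (by norm_num) h6
      have h10 : 0 < Nat.card C := Nat.card_pos
      have h8 : Nat.card C = 8 := by
        generalize Nat.card C = n at h5 h6 h7 h9 h10
        interval_cases n <;> omega
      have hCT : C = (T : Subgroup G) :=
        eq_of_le_of_card_ge (inf_le_right : C ≤ (T : Subgroup G)) (by rw [h8, card_T h T])
      intro s hs
      rw [← hCT] at hs
      exact mem_centralizer_singleton_iff.1 hs.1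
    have ht1 : t ≠ 1 := fun e1 => hte (e1 ▸ one_mem _)
    have hCt := (centralizer_central h T ht ht1 hc).2
    have hsq := sq_of_order_four h T he he4
    have : e ^ 2 = t :=
      central_unique h hsq.2.1 (orderOf_eq_prime (by rw [sq]; exact htt) ht1) (hsq.1.trans hCt.symm)
    exact this ▸ pow_mem (mem_zpowers e) 2
  · exact h1

theorem dihedral_T [Fact (Nat.Prime 2)] (T : Sylow 2 G) :
    Nonempty ((T : Subgroup G) ≃* DihedralGroup 4) := by
  obtain ⟨e, t, he, ht, he4, htt, hte, hconj⟩ := exists_dihedral_gens h T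
  refine H61.nonempty_mulEquiv_dihedralGroup (⟨e, he⟩ : (T : Subgroup G)) ⟨t, ht⟩ 4
    (by rw [Subgroup.orderOf_mk, he4]) (Subtype.ext htt) (Subtype.ext ?_) ?_ (by rw [card_T h T])
  · show t * e * t = e⁻¹
    rw [← hconj, inv_eq_of_mul_eq_one_right htt]
  · intro hm
    obtain ⟨k, hk⟩ := mem_zpowers_iff.1 hm
    exact hte (mem_zpowers_iff.2 ⟨k, by simpa using congrArg Subtype.val hk⟩)

end O168

end H62
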