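import Cfsg.Agent.H62.Order168Sub

/-!
Maximal subgroups of a simple group of order `168`.
-/

namespace H62

open Subgroup
open scoped Pointwise

theorem le_normalizer_map_subtype {G : Type*} [Group G] (M : Subgroup G) (Q : Subgroup M)
    (hQ : Q.Normal) : M ≤ normalizer ((Q.map M.subtype : Subgroup G) : Set G) := by
  have h := Q.le_normalizer_map M.subtype
  have hQ' : normalizer (Q : Set M) = ⊤ := normalizer_eq_top_iff.2 hQ
  rw [hQ', ← MonoidHom.range_eq_map, range_subtype] at h
  exact h

namespace O168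

variable {G : Type*} [Group G] [Finite G] [IsSimpleGroup G] (h : Nat.card G = 168)
include h

theorem card_le_of_ne_top {M : Subgroup G} (hM : M ≠ ⊤) : Nat.card M ≤ 24 := by
  have hlt := lt_index (notComm h) (n := 6) (by rw [h]; decide) M hM
  have hm := card_mul_index M
  rw [h] at hm
  by_contra hle
  have : 25 * 7 ≤ Nat.card M * M.index := Nat.mul_le_mul (not_le.1 hle) hlt
  omega

theorem isCoatom_normalizer_klein {U : Subgroup G} (hK : IsKleinFour U) :
    IsCoatom (normalizer (U : Set G)) := by
  have hc := card_normalizer_klein h hK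
  refine ⟨ne_top_of_card_ne (by rw [hc, h]; norm_num), fun K hlt => ?_⟩
  by_contra hne
  exact hlt.ne (eq_of_le_of_card_ge hlt.le (by rw [hc]; exact card_le_of_ne_top h hne))

theorem normalizer_klein_inj {U V : Subgroup G} (hU : IsKleinFour U) (hV : IsKleinFour V)
    (he : normalizer (U : Set G) = normalizer (V : Set G)) : U = V := by
  have : Fact (Nat.Prime 2) := ⟨Nat.prime_two⟩
  set M := normalizer (U : Set G) with hM
  have hMc : Nat.card M = 24 := card_normalizer_klein h hU
  have hUp : IsPGroup 2 U := IsPGroup.of_card (n := 2) (by rw [IsKleinFour.card_four (G := U)]; norm_num)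
  have hVp : IsPGroup 2 V := IsPGroup.of_card (n := 2) (by rw [IsKleinFour.card_four (G := V)]; norm_num)
  obtain ⟨S⟩ := (inferInstance : Nonempty (Sylow 2 M))
  obtain ⟨T, hT⟩ := (S.isPGroup'.map M.subtype).exists_le_sylow
  have hin : ∀ (A : Subgroup G), IsPGroup 2 A → A ≤ M → (A.subgroupOf M).Normal → A ≤ (T : Subgroup G) := by
    intro A hA hAM hAn x hx
    have := (hA.comap_of_injective M.subtype M.subtype_injective).le_sylow_of_normal (N := A.subgroupOf M) S
    exact hT ⟨⟨x, hAM hx⟩, this hx, rfl⟩
  have hUT := hin U hUp le_normalizer normal_in_normalizer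
  have hVM : V ≤ M := he ▸ le_normalizer
  have hVT := hin V hVp hVM ((normal_subgroupOf_iff_le_normalizer hVM).2 (le_of_eq he))
  by_contra hne
  have hle : U ⊔ V ≤ (T : Subgroup G) := sup_le hUT hVT
  have h4 := card_dvd_of_le (le_sup_left : U ≤ U ⊔ V)
  have h8 := card_dvd_of_le hle
  rw [IsKleinFour.card_four] at h4
  rw [card_T h T] at h8
  have hn4 : Nat.card ↥(U ⊔ V) ≠ 4 := fun h4' => by
    have e1 : U = U ⊔ V := eq_of_le_of_card_ge le_sup_left (by rw [IsKleinFour.card_four (G := U), h4'])
    have e2 : V = U ⊔ V := eq_of_le_of_card_ge le_sup_right (by rw [IsKleinFour.card_four (G := V), h4'])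
    exact hne (e1.trans e2.symm)
  have hcard : Nat.card ↥(U ⊔ V) = 8 := by
    have := Nat.le_of_dvd (by norm_num) h8
    have : 0 < Nat.card ↥(U ⊔ V) := Nat.card_pos
    generalize Nat.card ↥(U ⊔ V) = k at *
    interval_cases k <;> omega
  have hT' : U ⊔ V = (T : Subgroup G) := eq_of_le_of_card_ge hle (by rw [hcard, card_T h T])
  have hMT : M ≤ normalizer ((T : Subgroup G) : Set G) := by
    intro m hm
    rw [mem_normalizer_iff_map_conj_eq, ← hT', Subgroup.map_sup,
      mem_normalizer_iff_map_conj_eq.1 hm, mem_normalizer_iff_map_conj_eq.1 (he ▸ hm)]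
  have := card_le_of_le hMT
  rw [normalizer_T h T, card_T h T, hMc] at this
  omega

theorem exists_klein_of_card {M : Subgroup G} (hM : Nat.card M = 24) :
    ∃ V : Subgroup G, IsKleinFour V ∧ M = normalizer (V : Set G) := by
  have : Fact (Nat.Prime 2) := ⟨Nat.prime_two⟩
  obtain ⟨T⟩ := (inferInstance : Nonempty (Sylow 2 G))
  obtain ⟨U, -, -, -, -, hUK, -, -⟩ := exists_two_klein h T
  obtain ⟨e₁⟩ := mulEquiv_perm_of_card h hM
  obtain ⟨e₂⟩ := nonempty_mulEquiv_perm h hUK
  let e : normalizer (U : Set G) ≃* M := e₂.trans e₁.symm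
  let φ : normalizer (U : Set G) →* G := M.subtype.comp e.toMonoidHom
  have hφ : Function.Injective φ := M.subtype_injective.comp e.injective
  set V : Subgroup G := (U.subgroupOf (normalizer (U : Set G))).map φ with hV
  have hVK : IsKleinFour V := by
    have e3 : ↥V ≃* ↥U :=
      ((U.subgroupOf (normalizer (U : Set G))).equivMapOfInjective φ hφ).symm.trans
        (subgroupOfEquivOfLe le_normalizer)
    exact ⟨(Nat.card_congr e3.toEquiv).trans IsKleinFour.card_four,
      (Monoid.exponent_eq_of_mulEquiv e3).trans IsKleinFour.exponent_two⟩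
  refine ⟨V, hVK, eq_of_le_of_card_ge ?_ (by rw [card_normalizer_klein h hVK, hM])⟩
  intro m hm
  rw [mem_normalizer_iff_map_conj_eq, hV, Subgroup.map_map]
  obtain ⟨n, hn⟩ := e.surjective ⟨m, hm⟩
  have hn' : φ n = m := congrArg Subtype.val hn
  have hcomp : (MulAut.conj m).toMonoidHom.comp φ = φ.comp (MulAut.conj n).toMonoidHom := by
    ext x
    simp [← hn']
  have hnorm : (U.subgroupOf (normalizer (U : Set G))).map (MulAut.conj n).toMonoidHom =
      U.subgroupOf (normalizer (U : Set G)) :=
    have : (U.subgroupOf (normalizer (U : Set G))).Normal := normal_in_normalizer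
    Normal.map_conj_eq _ n
  rw [show (↑(MulAut.conj m) : G →* G) = (MulAut.conj m).toMonoidHom from rfl, hcomp,
    ← Subgroup.map_map, hnorm]

theorem N7_props [Fact (Nat.Prime 7)] (P : Sylow 7 G) :
    IsCoatom (normalizer ((P : Subgroup G) : Set G)) ∧
      ¬ IsMulCommutative ↥(normalizer ((P : Subgroup G) : Set G)) := by
  have hc := card_N7 h P
  constructor
  · refine ⟨ne_top_of_card_ne (by rw [hc, h]; norm_num), fun K hlt => ?_⟩
    by_contra hne
    have hle := card_le_of_ne_top h hne
    have hd := card_dvd_of_le hlt.le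
    rw [hc] at hd
    have h1 := Nat.eq_of_dvd_of_lt_two_mul (a := Nat.card K) (b := 21) (Nat.card_pos).ne' hd (by omega)
    exact hlt.ne (eq_of_le_of_card_ge hlt.le (by rw [hc, h1]))
  · intro hab
    apply not_normalizer_le_centralizer (notComm h) (p := 7) (by rw [h]; norm_num) P
    intro x hx
    rw [mem_centralizer_iff]
    intro y hy
    exact congrArg Subtype.val (hab.is_comm.comm ⟨y, le_normalizer hy⟩ ⟨x, hx⟩)

theorem maximal_cases {M : Subgroup G} (hM : IsCoatom M) :
    Nat.card M = 24 ∨ ∃ _ : Fact (Nat.Prime 7), ∃ P : Sylow 7 G, M = normalizer ((P : Subgroup G) : Set G) := by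
  classical
  have h2 : Fact (Nat.Prime 2) := ⟨Nat.prime_two⟩
  have h3 : Fact (Nat.Prime 3) := ⟨Nat.prime_three⟩
  have h7 : Fact (Nat.Prime 7) := ⟨by norm_num⟩
  have hle := card_le_of_ne_top h hM.1
  have hd : Nat.card M ∣ 168 := h ▸ card_subgroup_dvd_card M
  by_cases hd7 : 7 ∣ Nat.card M
  · right
    refine ⟨h7, ?_⟩
    obtain ⟨Q⟩ := (inferInstance : Nonempty (Sylow 7 M))
    obtain ⟨k, hk⟩ := hd7
    have hk3 : k ≤ 3 := by omega
    have hMc : Nat.card M = 7 ^ 1 * k := by rw [pow_one]; exact hk
    have hndk : ¬ 7 ∣ k := fun hd' => by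
      rcases k with _ | k
      · rw [mul_zero] at hk; exact (Nat.card_pos).ne' hk
      · have := Nat.le_of_dvd (by omega) hd'; omega
    have hQ1 : Nat.card (Sylow 7 M) = 1 := by
      have hdn := card_sylow_dvd hMc hndk
      have hmod : Nat.card (Sylow 7 M) % 7 = 1 := card_sylow_mod
      have : Nat.card (Sylow 7 M) ≤ k := Nat.le_of_dvd (by
        rcases k with _ | k
        · rw [mul_zero] at hk; exact absurd hk (Nat.card_pos).ne'
        · omega) hdn
      omega
    have hQc : Nat.card ((Q : Subgroup M).map M.subtype) = 7 := by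
      rw [card_map_of_injective M.subtype_injective, card_sylow_coe hMc hndk, pow_one]
    obtain ⟨P, hP⟩ := (IsPGroup.of_card (n := 1) (by rw [hQc, pow_one]) :
      IsPGroup 7 ((Q : Subgroup M).map M.subtype)).exists_le_sylow
    have hPe : (P : Subgroup G) = (Q : Subgroup M).map M.subtype :=
      (eq_of_le_of_card_ge hP (by rw [hQc, card_P7 h P])).symm
    refine ⟨P, ?_⟩
    have hQn : (Q : Subgroup M).Normal := normalizer_eq_top_iff.1 ((card_sylow_eq_one_iff Q).1 hQ1)
    have hMN : M ≤ normalizer ((P : Subgroup G) : Set G) := by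
      rw [hPe]
      exact le_normalizer_map_subtype M _ hQn
    rcases eq_or_lt_of_le hMN with e | e
    · exact e
    · exact absurd (hM.2 _ e) (ne_top_of_card_ne (by rw [card_N7 h P, h]; norm_num))
  left
  obtain ⟨T⟩ := (inferInstance : Nonempty (Sylow 2 G))
  obtain ⟨U, -, -, hUT, -, hUK, -, -⟩ := exists_two_klein h T
  have hbig : ∀ K : Subgroup G, M ≤ K → K ≠ ⊤ → M = K := fun K hMK hK =>
    (eq_or_lt_of_le hMK).resolve_right (fun e => hK (hM.2 K e))
  have hN3 : ∀ P : Sylow 3 G, ∃ V : Subgroup G, IsKleinFour V ∧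
      normalizer ((P : Subgroup G) : Set G) ≤ normalizer (V : Set G) := by
    intro P
    set N := normalizer (U : Set G) with hN
    have hNc : Nat.card N = 24 := card_normalizer_klein h hUK
    have hNc3 : Nat.card N = 3 ^ 1 * 8 := by rw [hNc]; norm_num
    obtain ⟨S⟩ := (inferInstance : Nonempty (Sylow 3 N))
    have hSc : Nat.card ((S : Subgroup N).map N.subtype) = 3 := by
      rw [card_map_of_injective N.subtype_injective, card_sylow_coe hNc3 (by norm_num), pow_one]
    obtain ⟨P₀, hP₀⟩ := (IsPGroup.of_card (n := 1) (by rw [hSc, pow_one]) :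
      IsPGroup 3 ((S : Subgroup N).map N.subtype)).exists_le_sylow
    have hP₀N : (P₀ : Subgroup G) ≤ N :=
      (eq_of_le_of_card_ge hP₀ (by rw [hSc, card_P3 h P₀])) ▸ map_subtype_le _
    have hle0 : normalizer ((P₀ : Subgroup G) : Set G) ≤ N := by
      have hd' := card_sylow_dvd (p := 3) hNc3 (by norm_num)
      have hmod : Nat.card (Sylow 3 N) % 3 = 1 := card_sylow_mod
      have hm := card_normalizer_mul (P₀.subtype hP₀N)
      rw [Sylow.coe_subtype, ← subgroupOf_normalizer_eq hP₀N, ← inf_subgroupOf_right,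
        Nat.card_congr (subgroupOfEquivOfLe inf_le_right).toEquiv, hNc] at hm
      have hle' := Nat.le_of_dvd (by norm_num) hd'
      have hinf := card_dvd_of_le (inf_le_left : normalizer ((P₀ : Subgroup G) : Set G) ⊓ N ≤ _)
      rw [card_N3 h P₀] at hinf
      have hinfle := Nat.le_of_dvd (by norm_num) hinf
      have h6 : Nat.card ↥(normalizer ((P₀ : Subgroup G) : Set G) ⊓ N) = 6 := by
        generalize Nat.card (Sylow 3 N) = a at hd' hmod hm hle'
        interval_cases a <;> omega
      exact inf_eq_left.1 (eq_of_le_of_card_ge inf_le_left (by rw [h6, card_N3 h P₀]))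
    obtain ⟨g, rfl⟩ := MulAction.exists_smul_eq G P₀ P
    refine ⟨U.map (MulAut.conj g).toMonoidHom, ?_, ?_⟩
    · have e3 : ↥(U.map (MulAut.conj g).toMonoidHom) ≃* ↥U :=
        (U.equivMapOfInjective _ (MulAut.conj g).injective).symm
      exact ⟨(Nat.card_congr e3.toEquiv).trans IsKleinFour.card_four,
        (Monoid.exponent_eq_of_mulEquiv e3).trans IsKleinFour.exponent_two⟩
    · intro x hx
      rw [Sylow.coe_subgroup_smul] at hx
      have hx' : g⁻¹ * x * g ∈ normalizer ((P₀ : Subgroup G) : Set G) := by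
        rw [mem_normalizer_iff]
        intro v
        have h2 := mem_normalizer_iff.1 hx (g * v * g⁻¹)
        have conv : ∀ v : G, v ∈ (P₀ : Subgroup G) ↔ g * v * g⁻¹ ∈ MulAut.conj g • (P₀ : Subgroup G) := fun v =>
          ⟨fun hv => ⟨v, hv, rfl⟩, fun ⟨w, hw, hwe⟩ => by
            rwa [← (MulAut.conj g).injective (hwe : MulAut.conj g w = MulAut.conj g v)]⟩
        rw [conv v, h2, conv (g⁻¹ * x * g * v * (g⁻¹ * x * g)⁻¹)]
        simp [mul_assoc]
      have h4 := le_normalizer_map (MulAut.conj g).toMonoidHom ⟨_, hle0 hx', rfl⟩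
      simpa [mul_assoc] using h4
  have h24ne : ∀ V : Subgroup G, IsKleinFour V → normalizer (V : Set G) ≠ ⊤ := fun V hV =>
    ne_top_of_card_ne (by rw [card_normalizer_klein h hV, h]; norm_num)
  have hfin : ∀ V : Subgroup G, IsKleinFour V → M ≤ normalizer (V : Set G) → Nat.card M = 24 :=
    fun V hV hMV => by rw [hbig _ hMV (h24ne V hV), card_normalizer_klein h hV]
  by_cases hd3 : 3 ∣ Nat.card M
  · obtain ⟨k, hk⟩ := hd3
    have hk8 : k ∣ 8 := by
      rw [hk] at hd hd7
      have h56 : k ∣ 8 * 7 := Nat.dvd_of_mul_dvd_mul_left (by norm_num) (show 3 * k ∣ 3 * (8 * 7) from hd)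
      exact Nat.Coprime.dvd_of_dvd_mul_right
        ((Nat.Prime.coprime_iff_not_dvd (by norm_num : Nat.Prime 7)).2 (fun hh => hd7 (hh.mul_left 3))).symm h56
    have hndk : ¬ 3 ∣ k := fun hh => by have := hh.trans hk8; norm_num at this
    have hMc : Nat.card M = 3 ^ 1 * k := by rw [pow_one]; exact hk
    obtain ⟨Q⟩ := (inferInstance : Nonempty (Sylow 3 M))
    have hQc : Nat.card ((Q : Subgroup M).map M.subtype) = 3 := by
      rw [card_map_of_injective M.subtype_injective, card_sylow_coe hMc hndk, pow_one]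
    obtain ⟨P, hP⟩ := (IsPGroup.of_card (n := 1) (by rw [hQc, pow_one]) :
      IsPGroup 3 ((Q : Subgroup M).map M.subtype)).exists_le_sylow
    have hPe : (P : Subgroup G) = (Q : Subgroup M).map M.subtype :=
      (eq_of_le_of_card_ge hP (by rw [hQc, card_P3 h P])).symm
    have hdn := card_sylow_dvd (p := 3) hMc hndk
    have hmod : Nat.card (Sylow 3 M) % 3 = 1 := card_sylow_mod
    have hk0 : 0 < k := by
      rcases Nat.eq_zero_or_pos k with rfl | hk0
      · rw [mul_zero] at hk; exact absurd hk (Nat.card_pos).ne'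
      · exact hk0
    by_cases hn1 : Nat.card (Sylow 3 M) = 1
    · exfalso
      have hQn : (Q : Subgroup M).Normal := normalizer_eq_top_iff.1 ((card_sylow_eq_one_iff Q).1 hn1)
      have hMN : M ≤ normalizer ((P : Subgroup G) : Set G) := by
        rw [hPe]
        exact le_normalizer_map_subtype M _ hQn
      obtain ⟨V, hV, hNV⟩ := hN3 P
      have h24 := hfin V hV (hMN.trans hNV)
      have := card_le_of_le hMN
      rw [card_N3 h P] at this
      omega
    · -- four Sylow 3-subgroups: order 12 or 24
      have hle4 := Nat.le_of_dvd hk0 hdn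
      have hkle : k ≤ 8 := Nat.le_of_dvd (by norm_num) hk8
      have hk4 : k = 4 ∨ k = 8 := by
        generalize Nat.card (Sylow 3 M) = a at hdn hmod hn1 hle4
        interval_cases k <;> norm_num at hk8 <;> interval_cases a <;> norm_num at *
      rcases hk4 with rfl | rfl
      swap
      · omega
      exfalso
      have hM12 : Nat.card M = 12 := hk
      obtain ⟨S⟩ := (inferInstance : Nonempty (Sylow 2 M))
      have hM2 : Nat.card M = 2 ^ 2 * 3 := by rw [hM12]; norm_num
      set V : Subgroup G := (S : Subgroup M).map M.subtype with hVdef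
      have hSc : Nat.card (S : Subgroup M) = 4 := by rw [card_sylow_coe hM2 (by norm_num)]; norm_num
      have hn34 : Nat.card (Sylow 3 M) = 4 := by
        generalize Nat.card (Sylow 3 M) = a at hdn hmod hn1 hle4
        interval_cases a <;> norm_num at *
      -- eight elements of order three leave only the elements of `S`
      have e3 := card_orderOf_eq_prime Q (by rw [card_sylow_coe hMc hndk, pow_one])
      rw [hn34] at e3
      have hSn : (S : Subgroup M).Normal := by
        have hall : ∀ R : Sylow 2 M, ((R : Subgroup M) : Set M) = {g : M | orderOf g ≠ 3} := by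
          intro R
          refine Set.eq_of_subset_of_ncard_le (fun g hg => ?_) ?_
          · intro he
            have := orderOf_dvd_natCard (⟨g, hg⟩ : (R : Subgroup M))
            rw [Subgroup.orderOf_mk, card_sylow_coe hM2 (by norm_num) R, he] at this
            norm_num at this
          · have h2 := Set.ncard_add_ncard_compl {g : M | orderOf g ≠ 3}
            have h5 : {g : M | orderOf g ≠ 3}ᶜ.ncard = 8 := by
              rw [← Nat.card_coe_set_eq]
              refine Eq.trans (Nat.card_congr (Equiv.subtypeEquivRight fun g => by simp)) e3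
            rw [hM12, h5] at h2
            rw [← Nat.card_coe_set_eq ((R : Subgroup M) : Set M)]
            change _ ≤ Nat.card (R : Subgroup M)
            rw [card_sylow_coe hM2 (by norm_num) R]
            omega
        have : Subsingleton (Sylow 2 M) :=
          ⟨fun R R' => Sylow.ext (SetLike.ext' ((hall R).trans (hall R').symm))⟩
        exact normalizer_eq_top_iff.1 ((card_sylow_eq_one_iff S).1 (Nat.card_of_subsingleton S))
      have hVc : Nat.card V = 4 := by rw [hVdef, card_map_of_injective M.subtype_injective, hSc]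
      have hMV : M ≤ normalizer (V : Set G) := le_normalizer_map_subtype M _ hSn
      by_cases hVK : IsKleinFour V
      · have := hfin V hVK hMV; omega
      · -- a cyclic `V` is centralised modulo its square
        have hcyc : IsCyclic V := by
          by_contra hnc
          exact hVK ⟨hVc, (not_isCyclic_iff_exponent_eq_prime Nat.prime_two (by rw [hVc]; norm_num)).1 hnc⟩
        obtain ⟨v, hv⟩ := Subgroup.isCyclic_iff_exists_zpowers_eq_top V |>.1 hcyc
        have hv4 : orderOf v = 4 := by rw [← Nat.card_zpowers, hv, hVc]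
        obtain ⟨T', hT'⟩ := (IsPGroup.of_card (n := 2) (by rw [hVc]; norm_num) : IsPGroup 2 V).exists_le_sylow
        have hC2 := sq_of_order_four h T' (hT' (hv ▸ mem_zpowers v)) hv4
        have hMC : M ≤ centralizer ({v ^ 2} : Set G) := by
          intro m hm
          have hmv : m * v * m⁻¹ ∈ V := (mem_normalizer_iff.1 (hMV hm) v).1 (hv ▸ mem_zpowers v)
          rw [← hv] at hmv
          obtain ⟨j, hj, hj'⟩ := (mem_powers_iff_mem_range_orderOf).1
            ((isOfFinOrder_of_finite v).mem_powers_iff_mem_zpowers.2 hmv) |> Finset.mem_image.1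
          rw [hv4, Finset.mem_range] at hj
          have ho : orderOf (v ^ j) = 4 := by
            rw [hj']; exact (MulEquiv.orderOf_eq (MulAut.conj m) v).trans hv4
          have hconj : m * v ^ 2 * m⁻¹ = v ^ 2 := by
            rw [← conj_pow, ← hj']
            interval_cases j
            · simp at ho
            · rw [pow_one]
            · rw [orderOf_pow' v two_ne_zero, hv4] at ho; norm_num at ho
            · rw [← pow_mul, ← pow_mod_orderOf v (3 * 2), hv4]
          exact mem_centralizer_singleton_iff.2 (mul_inv_eq_iff_eq_mul.1 hconj)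
        rw [hC2.1] at hMC
        have := card_le_of_le hMC
        rw [card_T h T'] at this
        omega
  · exfalso
    have h8 : Nat.card M ∣ 2 ^ 3 := by
      refine Nat.Coprime.dvd_of_dvd_mul_right ?_ (show Nat.card M ∣ 2 ^ 3 * (3 * 7) by norm_num; exact hd)
      exact Nat.Coprime.mul_right ((Nat.prime_three.coprime_iff_not_dvd.2 hd3).symm)
        (((by norm_num : Nat.Prime 7).coprime_iff_not_dvd.2 hd7).symm)
    obtain ⟨j, hj, hMj⟩ := (Nat.dvd_prime_pow Nat.prime_two).1 h8
    obtain ⟨T', hT'⟩ := (IsPGroup.of_card (n := j) hMj : IsPGroup 2 M).exists_le_sylow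
    obtain ⟨U', -, -, hUT', -, hUK', -, -⟩ := exists_two_klein h T'
    have hidx : (U'.subgroupOf (T' : Subgroup G)).index = 2 := by
      have hm := card_mul_index (U'.subgroupOf (T' : Subgroup G))
      rw [Nat.card_congr (subgroupOfEquivOfLe hUT').toEquiv, IsKleinFour.card_four, card_T h T'] at hm
      omega
    have hTN : (T' : Subgroup G) ≤ normalizer (U' : Set G) :=
      (normal_subgroupOf_iff_le_normalizer hUT').1 (normal_of_index_eq_two hidx)
    have := hfin U' hUK' (hT'.trans hTN)
    have h1 := card_le_of_le hT'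
    rw [card_T h T'] at h1
    omega

theorem maximal_statement :
    (∀ M : Subgroup G, IsCoatom M → Nonempty (↥M ≃* Equiv.Perm (Fin 4)) ∨
        (Nat.card ↥M = 21 ∧ ¬ IsMulCommutative ↥M)) ∧
    (∀ M M' : Subgroup G, IsCoatom M → IsCoatom M' → Nat.card ↥M = 21 → Nat.card ↥M' = 21 →
        ∃ g : G, M' = M.map (MulAut.conj g).toMonoidHom) ∧
    ∃ M₁ M₂ : Subgroup G, IsCoatom M₁ ∧ IsCoatom M₂ ∧ Nonempty (↥M₁ ≃* Equiv.Perm (Fin 4)) ∧
      Nonempty (↥M₂ ≃* Equiv.Perm (Fin 4)) ∧ (∀ g : G, M₂ ≠ M₁.map (MulAut.conj g).toMonoidHom) ∧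
      ∀ M : Subgroup G, IsCoatom M → Nonempty (↥M ≃* Equiv.Perm (Fin 4)) →
        ∃ g : G, M = M₁.map (MulAut.conj g).toMonoidHom ∨ M = M₂.map (MulAut.conj g).toMonoidHom := by
  have : Fact (Nat.Prime 2) := ⟨Nat.prime_two⟩
  refine ⟨fun M hM => ?_, fun M M' hM hM' h21 h21' => ?_, ?_⟩
  · rcases maximal_cases h hM with h24 | ⟨_, P, rfl⟩
    · exact Or.inl (mulEquiv_perm_of_card h h24)
    · exact Or.inr ⟨card_N7 h P, (N7_props h P).2⟩
  · obtain ⟨_, P, rfl⟩ := (maximal_cases h hM).resolve_left (by omega)
    obtain ⟨_, P', rfl⟩ := (maximal_cases h hM').resolve_left (by omega)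
    obtain ⟨g, rfl⟩ := MulAction.exists_smul_eq G P P'
    refine ⟨g, (eq_of_le_of_card_ge ?_ ?_).symm⟩
    · rw [Sylow.coe_subgroup_smul]
      exact le_normalizer_map (MulAut.conj g).toMonoidHom
    · rw [card_N7 h, card_map_of_injective (MulAut.conj g).injective, card_N7 h]
  · obtain ⟨T⟩ := (inferInstance : Nonempty (Sylow 2 G))
    obtain ⟨U, W, hne, hUT, hWT, hUK, hWK, hall⟩ := exists_two_klein h T
    have hmapK : ∀ (V : Subgroup G) (g : G), IsKleinFour V →
        IsKleinFour ↥(V.map (MulAut.conj g).toMonoidHom) := fun V g hV =>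
      have e3 : ↥(V.map (MulAut.conj g).toMonoidHom) ≃* ↥V :=
        (V.equivMapOfInjective _ (MulAut.conj g).injective).symm
      ⟨(Nat.card_congr e3.toEquiv).trans IsKleinFour.card_four,
        (Monoid.exponent_eq_of_mulEquiv e3).trans IsKleinFour.exponent_two⟩
    have hmapN : ∀ (V : Subgroup G) (g : G), IsKleinFour V →
        (normalizer (V : Set G)).map (MulAut.conj g).toMonoidHom =
          normalizer ((V.map (MulAut.conj g).toMonoidHom : Subgroup G) : Set G) := fun V g hV =>
      eq_of_le_of_card_ge (le_normalizer_map _) (by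
        rw [card_normalizer_klein h (hmapK V g hV), card_map_of_injective (MulAut.conj g).injective,
          card_normalizer_klein h hV])
    refine ⟨_, _, isCoatom_normalizer_klein h hUK, isCoatom_normalizer_klein h hWK,
      nonempty_mulEquiv_perm h hUK, nonempty_mulEquiv_perm h hWK, fun g hg => ?_, fun M hM hiso => ?_⟩
    · rw [hmapN U g hUK] at hg
      exact klein_not_conj h T hUT hWT hUK hWK hne g
        (normalizer_klein_inj h (hmapK U g hUK) hWK hg.symm)
    · obtain ⟨e⟩ := hiso
      have h24 : Nat.card M = 24 := by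
        rw [Nat.card_congr e.toEquiv, Nat.card_perm, Nat.card_fin]; rfl
      obtain ⟨V, hVK, rfl⟩ := exists_klein_of_card h h24
      obtain ⟨T', hT'⟩ := (IsPGroup.of_card (n := 2)
        (by rw [IsKleinFour.card_four (G := V)]; norm_num) : IsPGroup 2 V).exists_le_sylow
      obtain ⟨g, rfl⟩ := MulAction.exists_smul_eq G T T'
      set V' := V.map (MulAut.conj g⁻¹).toMonoidHom with hV'
      have hV'T : V' ≤ (T : Subgroup G) := by
        rintro _ ⟨v, hv, rfl⟩
        obtain ⟨w, hw, hwv⟩ := (Sylow.coe_subgroup_smul (g := g) (P := T)).le (hT' hv)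
        have : g * w * g⁻¹ = v := hwv
        show g⁻¹ * v * (g⁻¹)⁻¹ ∈ (T : Subgroup G)
        rw [← this, show g⁻¹ * (g * w * g⁻¹) * g⁻¹⁻¹ = w by simp [mul_assoc]]
        exact hw
      have hVV' : V = V'.map (MulAut.conj g).toMonoidHom := by
        rw [hV', map_map]
        ext x
        simp [mul_assoc]
      refine ⟨g, ?_⟩
      rcases hall V' hV'T (hmapK V g⁻¹ hVK) with e' | e'
      · left; rw [hmapN U g hUK, ← e', ← hVV']
      · right; rw [hmapN W g hWK, ← e', ← hVV']

end O168

end H62
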