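import Cfsg.Agent.H62.Order168

/-!
Conjugacy classes and subgroups of a simple group of order `168`.
-/

namespace H62

open Subgroup

namespace O168

variable {G : Type*} [Group G] [Finite G] [IsSimpleGroup G] (h : Nat.card G = 168)
include h

theorem class_card (x : G) {k m : ℕ} (hk : Nat.card (centralizer ({x} : Set G)) = k) (hm : m * k = 168)
    (hk0 : 0 < k) : Nat.card {g : G // IsConj x g} = m := by
  have := H65.card_class_mul (G := G) x
  rw [hk, h] at this
  exact Nat.eq_of_mul_eq_mul_right hk0 (this.trans hm.symm)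

omit h in
theorem class_eq_all {n : ℕ} {x : G} (hx : orderOf x = n)
    (hc : Nat.card {g : G // orderOf g = n} ≤ Nat.card {g : G // IsConj x g}) {y : G}
    (hy : orderOf y = n) : IsConj x y := by
  have hle : ∀ g : G, IsConj x g → orderOf g = n := fun g hg => by
    obtain ⟨c, rfl⟩ := isConj_iff.1 hg
    rw [← hx]; exact MulEquiv.orderOf_eq (MulAut.conj c) x
  have hb := Function.Injective.bijective_of_nat_card_le
    (f := fun g : {g : G // IsConj x g} => (⟨g.1, hle g.1 g.2⟩ : {g : G // orderOf g = n}))
    (fun a b hab => Subtype.ext (congrArg Subtype.val hab : _)) hc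
  obtain ⟨g, hg⟩ := hb.2 ⟨y, hy⟩
  have he : g.1 = y := congrArg Subtype.val hg
  rw [← he]; exact g.2

theorem conj_two (s t : G) (hs : orderOf s = 2) (ht : orderOf t = 2) : IsConj s t := by
  have : Fact (Nat.Prime 2) := ⟨Nat.prime_two⟩
  obtain ⟨h21, -, hC, -⟩ := census h
  refine class_eq_all hs ?_ ht
  obtain ⟨T, hT⟩ := hC s hs
  rw [h21, class_card h s (k := 8) (m := 21) (by rw [hT, card_T h T]) (by norm_num) (by norm_num)]

theorem conj_three (s t : G) (hs : orderOf s = 3) (ht : orderOf t = 3) : IsConj s t := by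
  refine class_eq_all hs ?_ ht
  rw [card_orderOf_three h, class_card h s (centralizer_three h hs) (m := 56) (by norm_num) (by norm_num)]

theorem centralizer_four {e : G} (he : orderOf e = 4) : Nat.card (centralizer ({e} : Set G)) = 4 := by
  have : Fact (Nat.Prime 2) := ⟨Nat.prime_two⟩
  obtain ⟨T, hT⟩ := (IsPGroup.of_card (n := 2) (by rw [Nat.card_zpowers, he]; norm_num) :
    IsPGroup 2 (zpowers e)).exists_le_sylow
  have heT : e ∈ (T : Subgroup G) := hT (mem_zpowers e)
  have hC2 := (sq_of_order_four h T heT he).1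
  have hle : centralizer ({e} : Set G) ≤ (T : Subgroup G) := by
    rw [← hC2]
    intro x hx
    exact mem_centralizer_singleton_iff.2 ((Commute.pow_right (mem_centralizer_singleton_iff.1 hx) 2).eq)
  have hd := card_dvd_of_le hle
  rw [card_T h T] at hd
  have h4 := card_dvd_of_le (show zpowers e ≤ centralizer ({e} : Set G) from
    zpowers_le.2 (mem_centralizer_singleton_iff.2 rfl))
  rw [Nat.card_zpowers, he] at h4
  have hne : Nat.card (centralizer ({e} : Set G)) ≠ 8 := by
    intro h8
    obtain ⟨a, b, ha, hb, ha4, -, hbn, hconj⟩ := exists_dihedral_gens h T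
    obtain ⟨-, -, -, hfour⟩ := census h
    have hTC : (T : Subgroup G) ≤ centralizer ({e} : Set G) :=
      (eq_of_le_of_card_ge hle (by rw [h8, card_T h T])).ge
    have hbe : b * e * b⁻¹ = e := mul_inv_eq_iff_eq_mul.2 (mem_centralizer_singleton_iff.1 (hTC hb))
    have ha' : e = a ∨ e = a⁻¹ := hfour T a e ha heT ha4 he
    have hinv : b * e * b⁻¹ = e⁻¹ := by
      rcases ha' with e' | e'
      · rw [e', hconj]
      · have h1 : b * a⁻¹ * b⁻¹ = (b * a * b⁻¹)⁻¹ := by simp [mul_assoc]
        rw [e', inv_inv, h1, hconj, inv_inv]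
    have : e ^ 2 = 1 := by rw [sq]; exact mul_eq_one_iff_eq_inv.2 (hbe.symm.trans hinv)
    have := orderOf_dvd_of_pow_eq_one this
    rw [he] at this; norm_num at this
  have := Nat.le_of_dvd (by norm_num) hd
  have : 0 < Nat.card (centralizer ({e} : Set G)) := Nat.card_pos
  generalize Nat.card (centralizer ({e} : Set G)) = k at *
  interval_cases k <;> omega

theorem conj_four (s t : G) (hs : orderOf s = 4) (ht : orderOf t = 4) : IsConj s t := by
  have : Fact (Nat.Prime 2) := ⟨Nat.prime_two⟩
  obtain ⟨-, h42, -, -⟩ := census h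
  refine class_eq_all hs ?_ ht
  rw [h42, class_card h s (centralizer_four h hs) (m := 42) (by norm_num) (by norm_num)]

theorem not_conj_inv_seven (x : G) (hx : orderOf x = 7) : ¬ IsConj x x⁻¹ := by
  intro hc
  have : Fact (Nat.Prime 7) := ⟨by norm_num⟩
  obtain ⟨g, hg⟩ := isConj_iff.1 hc
  obtain ⟨P, hP⟩ := (IsPGroup.of_card (n := 1) (by rw [Nat.card_zpowers, hx, pow_one]) :
    IsPGroup 7 (zpowers x)).exists_le_sylow
  have he : zpowers x = (P : Subgroup G) :=
    eq_of_le_of_card_ge hP (by rw [card_P7 h, Nat.card_zpowers, hx])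
  have hgN : g ∈ normalizer ((P : Subgroup G) : Set G) := by
    rw [← he, mem_normalizer_iff]
    intro w
    constructor
    · intro hw
      obtain ⟨k, rfl⟩ := mem_zpowers_iff.1 hw
      rw [← conj_zpow, hg]
      exact zpow_mem (inv_mem (mem_zpowers x)) k
    · intro hw
      obtain ⟨k, hk⟩ := mem_zpowers_iff.1 hw
      refine mem_zpowers_iff.2 ⟨-k, ?_⟩
      apply (MulAut.conj g).injective
      show g * x ^ (-k) * g⁻¹ = g * w * g⁻¹
      rw [← conj_zpow, hg, ← hk, inv_zpow, zpow_neg, inv_inv]
  have h21 := orderOf_dvd_natCard (⟨g, hgN⟩ : normalizer ((P : Subgroup G) : Set G))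
  rw [Subgroup.orderOf_mk, card_N7 h P] at h21
  have h2 : Commute (g ^ 2) x := by
    have h3 : g * x⁻¹ * g⁻¹ = x := by
      have := congrArg (fun z => z⁻¹) hg
      simpa [mul_assoc] using this
    show g ^ 2 * x = x * g ^ 2
    calc g ^ 2 * x = g * (g * x * g⁻¹) * g := by simp [sq, mul_assoc]
    _ = g * x⁻¹ * g⁻¹ * g ^ 2 := by rw [hg]; simp [sq, mul_assoc]
    _ = x * g ^ 2 := by rw [h3]
  obtain ⟨m, hm⟩ := exists_pow_eq_self_of_coprime (x := g) (n := 2)
    (Nat.Coprime.coprime_dvd_right h21 (by norm_num))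
  have h4 : Commute g x := hm ▸ h2.pow_left m
  rw [h4.eq, mul_inv_cancel_right] at hg
  have : x ^ 2 = 1 := by rw [sq]; exact mul_eq_one_iff_eq_inv.2 hg
  have := orderOf_dvd_of_pow_eq_one this
  rw [hx] at this; norm_num at this

/-- Facts about a Klein four-subgroup of a Sylow `2`-subgroup. -/
theorem klein_le_centralizer [Fact (Nat.Prime 2)] (T : Sylow 2 G) {U : Subgroup G}
    (hU : U ≤ (T : Subgroup G)) (hK : IsKleinFour U) :
    ∃ z ∈ U, orderOf z = 2 ∧ centralizer ({z} : Set G) = T ∧
      ∀ s ∈ U, s ≠ 1 → s ≠ z → U = centralizer ({s} : Set G) ⊓ (T : Subgroup G) := by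
  obtain ⟨z, hzT, hz2, hzC⟩ := exists_central h T
  have hUc : IsMulCommutative U := IsKleinFour.isMulCommutative
  have hord : ∀ u ∈ U, u ≠ 1 → orderOf u = 2 := by
    intro u hu hu1
    have := Monoid.order_dvd_exponent (⟨u, hu⟩ : U)
    rw [IsKleinFour.exponent_two, Subgroup.orderOf_mk] at this
    exact ((Nat.dvd_prime Nat.prime_two).1 this).resolve_left (fun e => hu1 (orderOf_eq_one_iff.1 e))
  have hU4 : Nat.card U = 4 := IsKleinFour.card_four
  have hsub : ∀ u ∈ U, U ≤ centralizer ({u} : Set G) ⊓ (T : Subgroup G) := by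
    intro u hu v hv
    exact ⟨mem_centralizer_singleton_iff.2
      (congrArg Subtype.val (IsMulCommutative.is_comm.comm (⟨v, hv⟩ : U) ⟨u, hu⟩)), hU hv⟩
  -- a non-central element has centraliser `U` in `T`
  have key : ∀ s ∈ U, s ≠ 1 → s ≠ z → U = centralizer ({s} : Set G) ⊓ (T : Subgroup G) := by
    intro s hs hs1 hsz
    refine eq_of_le_of_card_ge (hsub s hs) ?_
    have hne : centralizer ({s} : Set G) ⊓ (T : Subgroup G) ≠ (T : Subgroup G) := by
      intro he
      have hTs : centralizer ({s} : Set G) = (T : Subgroup G) :=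
        (centralizer_central h T (hU hs) hs1
          (fun t ht => mem_centralizer_singleton_iff.1 (he.ge ht).1)).2
      exact hsz (central_unique h (hord s hs hs1) hz2 (hTs.trans hzC.symm))
    have hd := card_dvd_of_le (inf_le_right : centralizer ({s} : Set G) ⊓ (T : Subgroup G) ≤ T)
    rw [card_T h T] at hd
    have h8 : Nat.card ↥(centralizer ({s} : Set G) ⊓ (T : Subgroup G)) ≠ 8 := fun h8 =>
      hne (eq_of_le_of_card_ge inf_le_right (by rw [h8, card_T h T]))
    have := Nat.le_of_dvd (by norm_num) hd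
    have : 0 < Nat.card ↥(centralizer ({s} : Set G) ⊓ (T : Subgroup G)) := Nat.card_pos
    rw [hU4]
    generalize Nat.card ↥(centralizer ({s} : Set G) ⊓ (T : Subgroup G)) = k at *
    interval_cases k <;> omega
  refine ⟨z, ?_, hz2, hzC, key⟩
  by_contra hzU
  have : Nontrivial U := Finite.one_lt_card_iff_nontrivial.1 (by rw [hU4]; norm_num)
  obtain ⟨⟨s, hs⟩, hs1⟩ := exists_ne (1 : U)
  have hzs : z ∈ centralizer ({s} : Set G) ⊓ (T : Subgroup G) := by
    refine ⟨mem_centralizer_singleton_iff.2 ?_, hzT⟩
    exact (mem_centralizer_singleton_iff.1 (hzC.ge (hU hs))).symm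
  exact hzU ((key s hs (fun e => hs1 (Subtype.ext e)) (fun e => hzU (e ▸ hs))).ge hzs)

/-- Two distinct Klein four-subgroups in every Sylow `2`-subgroup. -/
theorem exists_two_klein [Fact (Nat.Prime 2)] (T : Sylow 2 G) :
    ∃ U W : Subgroup G, U ≠ W ∧ U ≤ (T : Subgroup G) ∧ W ≤ (T : Subgroup G) ∧ IsKleinFour U ∧
      IsKleinFour W ∧ ∀ V : Subgroup G, V ≤ (T : Subgroup G) → IsKleinFour V → V = U ∨ V = W := by
  classical
  obtain ⟨e, t, he, ht, he4, htt, hte, hconj⟩ := exists_dihedral_gens h T
  obtain ⟨-, -, -, hfour⟩ := census h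
  obtain ⟨z, hzT, hz2, hzC⟩ := exists_central h T
  have hze : z = e ^ 2 := by
    obtain ⟨h1, h2, -⟩ := sq_of_order_four h T he he4
    exact central_unique h hz2 h2 (hzC.trans h1.symm)
  have hsw : t * e = e⁻¹ * t := mul_inv_eq_iff_eq_mul.1 hconj
  have hte2 : t * e * (t * e) = 1 := by
    rw [← mul_assoc, hsw, mul_assoc e⁻¹, htt, mul_one, inv_mul_cancel]
  have hn2 : t * e ∉ zpowers e := fun hm =>
    hte ((Subgroup.mul_mem_cancel_right _ (mem_zpowers e)).1 hm)
  -- centralisers in `T` of non-central involutions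
  have main : ∀ s ∈ (T : Subgroup G), s * s = 1 → s ∉ zpowers e →
      IsKleinFour ↥(centralizer ({s} : Set G) ⊓ (T : Subgroup G)) ∧ e ∉ centralizer ({s} : Set G) := by
    intro s hs hss hse
    have hs1 : s ≠ 1 := fun e1 => hse (e1 ▸ one_mem _)
    have hsz : s ≠ z := fun e1 => hse (by rw [e1, hze]; exact pow_mem (mem_zpowers e) 2)
    have hne : centralizer ({s} : Set G) ⊓ (T : Subgroup G) ≠ (T : Subgroup G) := by
      intro hq
      exact hsz (central_unique h (orderOf_eq_prime (by rw [sq]; exact hss) hs1) hz2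
        ((centralizer_central h T hs hs1 (fun t ht => mem_centralizer_singleton_iff.1 (hq.ge ht).1)).2.trans hzC.symm))
    have hes : e ∉ centralizer ({s} : Set G) := by
      intro hes
      apply hne
      refine eq_of_le_of_card_ge inf_le_right ?_
      have h4 : zpowers e ≤ centralizer ({s} : Set G) ⊓ (T : Subgroup G) := zpowers_le.2 ⟨hes, he⟩
      have h5 := card_dvd_of_le h4
      rw [Nat.card_zpowers, he4] at h5
      have h6 := card_dvd_of_le (inf_le_right : centralizer ({s} : Set G) ⊓ (T : Subgroup G) ≤ T)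
      have h7 : Nat.card ↥(centralizer ({s} : Set G) ⊓ (T : Subgroup G)) ≠ 4 := fun h4' =>
        hse ((eq_of_le_of_card_ge h4 (by rw [Nat.card_zpowers, he4, h4'])).ge
          ⟨mem_centralizer_singleton_iff.2 rfl, hs⟩)
      rw [card_T h T] at h6 ⊢
      have := Nat.le_of_dvd (by norm_num) h6
      have : 0 < Nat.card ↥(centralizer ({s} : Set G) ⊓ (T : Subgroup G)) := Nat.card_pos
      generalize Nat.card ↥(centralizer ({s} : Set G) ⊓ (T : Subgroup G)) = k at *
      interval_cases k <;> omega
    refine ⟨?_, hes⟩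
    set C := centralizer ({s} : Set G) ⊓ (T : Subgroup G) with hC
    have hexp : ∀ x : C, x * x = 1 := by
      rintro ⟨x, hx⟩
      apply Subtype.ext
      show x * x = 1
      by_cases hxe : x ∈ zpowers e
      · rcases orderOf_cases h x with o | o | o | o | o
        · rw [orderOf_eq_one_iff.1 o, one_mul]
        · rw [← sq, ← o, pow_orderOf_eq_one]
        · have := orderOf_dvd_natCard (⟨x, hxe⟩ : zpowers e)
          rw [Subgroup.orderOf_mk, o, Nat.card_zpowers, he4] at this; norm_num at this
        · exfalso; apply hes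
          rcases hfour T x e hx.2 he o he4 with h1 | h1
          · rw [h1]; exact hx.1
          · rw [h1]; exact inv_mem hx.1
        · have := orderOf_dvd_natCard (⟨x, hxe⟩ : zpowers e)
          rw [Subgroup.orderOf_mk, o, Nat.card_zpowers, he4] at this; norm_num at this
      · rcases (sq_of_order_four h T he he4).2.2 x hx.2 hxe with o | o
        · exact o
        · exfalso; apply hxe
          rcases hfour T e x he hx.2 he4 o with h1 | h1
          · rw [h1]; exact mem_zpowers e
          · rw [h1]; exact inv_mem (mem_zpowers e)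
    have hd := card_dvd_of_le (inf_le_right : C ≤ (T : Subgroup G))
    rw [card_T h T] at hd
    have h8 : Nat.card C ≠ 8 := fun h8 => hne (eq_of_le_of_card_ge inf_le_right (by rw [h8, card_T h T]))
    have h3 : 3 ≤ Nat.card C := by
      have hinj : Function.Injective (![(1 : C), ⟨s, mem_centralizer_singleton_iff.2 rfl, hs⟩,
          ⟨z, mem_centralizer_singleton_iff.2 (mem_centralizer_singleton_iff.1 (hzC.ge hs)).symm, hzT⟩]) := by
        intro i j hij
        have hz1 : z ≠ 1 := fun e1 => by rw [e1, orderOf_one] at hz2; omega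
        have hv := congrArg Subtype.val hij
        fin_cases i <;> fin_cases j <;> first
          | rfl
          | exact absurd hv hs1 | exact absurd hv.symm hs1
          | exact absurd hv hz1 | exact absurd hv.symm hz1
          | exact absurd hv hsz | exact absurd hv.symm hsz
      simpa using Nat.card_le_card_of_injective _ hinj
    have hc4 : Nat.card C = 4 := by
      have := Nat.le_of_dvd (by norm_num) hd
      generalize Nat.card C = k at *
      interval_cases k <;> omega
    refine ⟨hc4, ?_⟩
    apply Nat.dvd_antisymm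
    · exact Monoid.exponent_dvd_of_forall_pow_eq_one (fun x => by rw [sq]; exact hexp x)
    · obtain ⟨x, hx⟩ := exists_prime_orderOf_dvd_card' (G := C) 2 (by rw [hc4]; norm_num)
      rw [← hx]; exact Monoid.order_dvd_exponent x
  obtain ⟨hU, -⟩ := main t ht htt hte
  obtain ⟨hW, -⟩ := main (t * e) (mul_mem ht he) hte2 hn2
  refine ⟨_, _, ?_, inf_le_right, inf_le_right, hU, hW, fun V hV hVK => ?_⟩
  · intro heq
    have h1 : t ∈ centralizer ({t * e} : Set G) ⊓ (T : Subgroup G) :=
      heq ▸ ⟨mem_centralizer_singleton_iff.2 rfl, ht⟩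
    have h2 : t * (t * e) = t * e * t := mem_centralizer_singleton_iff.1 h1.1
    rw [← mul_assoc, htt, one_mul, hsw, mul_assoc, htt, mul_one] at h2
    have : e ^ 2 = 1 := by rw [sq]; exact mul_eq_one_iff_eq_inv.2 h2
    have := orderOf_dvd_of_pow_eq_one this
    rw [he4] at this; norm_num at this
  · obtain ⟨z', hz'V, hz'2, hz'C, hkey⟩ := klein_le_centralizer h T hV hVK
    have hz'z : z' = z := central_unique h hz'2 hz2 (hz'C.trans hzC.symm)
    subst hz'z
    -- `V` has a third element outside `⟨e⟩`
    obtain ⟨s, hsV, hs1, hsz⟩ : ∃ s ∈ V, s ≠ 1 ∧ s ≠ z' := by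
      by_contra hall
      push Not at hall
      have hle : V ≤ zpowers z' := fun x hx => by
        rcases eq_or_ne x 1 with rfl | hx1
        · exact one_mem _
        · rw [hall x hx hx1]; exact mem_zpowers _
      have := card_le_of_le hle
      rw [Nat.card_zpowers, hz'2, IsKleinFour.card_four] at this
      omega
    have hso : orderOf s = 2 := by
      have := Monoid.order_dvd_exponent (⟨s, hsV⟩ : V)
      rw [IsKleinFour.exponent_two, Subgroup.orderOf_mk] at this
      exact ((Nat.dvd_prime Nat.prime_two).1 this).resolve_left (fun e => hs1 (orderOf_eq_one_iff.1 e))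
    have hs_e : s ∉ zpowers e := by
      intro hse
      apply hsz
      obtain ⟨k, hk, rfl⟩ := (mem_powers_iff_mem_range_orderOf).1
        ((isOfFinOrder_of_finite e).mem_powers_iff_mem_zpowers.2 hse) |> Finset.mem_image.1
      rw [he4, Finset.mem_range] at hk
      rw [hze]
      interval_cases k
      · rw [pow_zero, orderOf_one] at hso; omega
      · rw [pow_one, he4] at hso; omega
      · rfl
      · rw [orderOf_pow' e (by norm_num), he4] at hso; norm_num at hso
    rw [hkey s hsV hs1 hsz]
    -- `s` differs from `t` or `t * e` by the central involution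
    have hmem : ∀ u : G, u ∈ (T : Subgroup G) → u * u = 1 → (s = u ∨ s = u * z') →
        centralizer ({s} : Set G) ⊓ (T : Subgroup G) = centralizer ({u} : Set G) ⊓ (T : Subgroup G) := by
      intro u hu huu hsu
      rcases hsu with rfl | rfl
      · rfl
      ext x
      simp only [mem_inf, mem_centralizer_singleton_iff]
      refine and_congr_left fun hx => ?_
      have hxz : Commute x z' := mem_centralizer_singleton_iff.1 (hzC.ge hx)
      constructor
      · intro hc
        have := (Commute.mul_right (hc : Commute x (u * z')) hxz.inv_right)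
        rwa [mul_inv_cancel_right] at this
      · intro hc
        exact (Commute.mul_right (hc : Commute x u) hxz)
    -- `T = ⟨e⟩ ∪ t⟨e⟩`
    have hidx : ((zpowers e).subgroupOf (T : Subgroup G)).index = 2 := by
      have hm := card_mul_index ((zpowers e).subgroupOf (T : Subgroup G))
      rw [Nat.card_congr (subgroupOfEquivOfLe (zpowers_le.2 he)).toEquiv, Nat.card_zpowers, he4,
        card_T h T] at hm
      omega
    have hts : t * s ∈ zpowers e := by
      have := Subgroup.mul_mem_iff_of_index_two hidx (a := ⟨t, ht⟩) (b := ⟨s, hV hsV⟩)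
      simp only [mem_subgroupOf, MulMemClass.mk_mul_mk] at this
      exact this.2 ⟨fun h' => absurd h' hte, fun h' => absurd h' hs_e⟩
    obtain ⟨k, hk, hk'⟩ := (mem_powers_iff_mem_range_orderOf).1
      ((isOfFinOrder_of_finite e).mem_powers_iff_mem_zpowers.2 hts) |> Finset.mem_image.1
    rw [he4, Finset.mem_range] at hk
    have hs' : s = t * e ^ k := by rw [hk', ← mul_assoc, htt, one_mul]
    interval_cases k
    · left; exact hmem t ht htt (Or.inl (by simpa using hs'))
    · right; exact hmem (t * e) (mul_mem ht he) hte2 (Or.inl (by simpa using hs'))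
    · left; exact hmem t ht htt (Or.inr (by rw [hs', hze]))
    · right; exact hmem (t * e) (mul_mem ht he) hte2 (Or.inr (by rw [hs', hze, mul_assoc, ← pow_succ']))

theorem card_normalizer_klein {U : Subgroup G} (hK : IsKleinFour U) :
    Nat.card (normalizer (U : Set G)) = 24 := by
  have : Fact (Nat.Prime 2) := ⟨Nat.prime_two⟩
  have hU4 : Nat.card U = 4 := IsKleinFour.card_four
  obtain ⟨T, hT⟩ := (IsPGroup.of_card (n := 2) (by rw [hU4]; norm_num) : IsPGroup 2 U).exists_le_sylow
  have hle : ∀ S : Sylow 2 G, U ≤ (S : Subgroup G) → (S : Subgroup G) ≤ normalizer (U : Set G) := by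
    intro S hS
    have hidx : (U.subgroupOf (S : Subgroup G)).index = 2 := by
      have hm := card_mul_index (U.subgroupOf (S : Subgroup G))
      rw [Nat.card_congr (subgroupOfEquivOfLe hS).toEquiv, hU4, card_T h S] at hm
      omega
    exact (normal_subgroupOf_iff_le_normalizer hS).1 (normal_of_index_eq_two hidx)
  have h8 : 8 ∣ Nat.card (normalizer (U : Set G)) := card_T h T ▸ card_dvd_of_le (hle T hT)
  obtain ⟨z, hzU, hz2, hzC, -⟩ := klein_le_centralizer h T hT hK
  obtain ⟨s, hsU, hs1, hsz⟩ : ∃ s ∈ U, s ≠ 1 ∧ s ≠ z := by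
    by_contra hall
    push Not at hall
    have hle : U ≤ zpowers z := fun x hx => by
      rcases eq_or_ne x 1 with rfl | hx1
      · exact one_mem _
      · rw [hall x hx hx1]; exact mem_zpowers _
    have := card_le_of_le hle
    rw [Nat.card_zpowers, hz2, hU4] at this
    omega
  have hso : orderOf s = 2 := by
    have := Monoid.order_dvd_exponent (⟨s, hsU⟩ : U)
    rw [IsKleinFour.exponent_two, Subgroup.orderOf_mk] at this
    exact ((Nat.dvd_prime Nat.prime_two).1 this).resolve_left (fun e => hs1 (orderOf_eq_one_iff.1 e))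
  obtain ⟨-, -, hC, -⟩ := census h
  obtain ⟨S, hS⟩ := hC s hso
  have hUS : U ≤ (S : Subgroup G) := by
    rw [← hS]
    intro v hv
    have := (IsKleinFour.isMulCommutative (G := U)).is_comm.comm ⟨v, hv⟩ ⟨s, hsU⟩
    exact mem_centralizer_singleton_iff.2 (congrArg Subtype.val this)
  have hne : Nat.card (normalizer (U : Set G)) ≠ 8 := by
    intro h8'
    have e1 := eq_of_le_of_card_ge (hle T hT) (by rw [h8', card_T h T])
    have e2 := eq_of_le_of_card_ge (hle S hUS) (by rw [h8', card_T h S])
    exact hsz (central_unique h hso hz2 (by rw [hS, hzC, e2, ← e1]))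
  have htop : normalizer (U : Set G) ≠ ⊤ := by
    intro ht
    have : U.Normal := normalizer_eq_top_iff.1 ht
    rcases this.eq_bot_or_eq_top with e | e <;> rw [e] at hU4
    · simp at hU4
    · rw [card_top, h] at hU4; omega
  have hlt := lt_index (notComm h) (n := 6) (by rw [h]; decide) _ htop
  have hm := card_mul_index (normalizer (U : Set G))
  rw [h] at hm
  obtain ⟨k, hk⟩ := h8
  rw [hk] at hm hne ⊢
  have hk21 : k * (normalizer (U : Set G)).index = 21 := by
    have : 8 * (k * (normalizer (U : Set G)).index) = 8 * 21 := by rw [← mul_assoc, hm]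
    omega
  have hk3 : k ≤ 3 := by
    by_contra hk'
    have : 4 * 7 ≤ k * (normalizer (U : Set G)).index := Nat.mul_le_mul (by omega) hlt
    omega
  interval_cases k <;> omega

theorem mulEquiv_perm_of_card {M : Subgroup G} (hM : Nat.card M = 24) :
    Nonempty (↥M ≃* Equiv.Perm (Fin 4)) := by
  refine Cfsg.Agent.S1012.result hM fun g hg => ?_
  have := orderOf_cases h (g : G)
  rw [Subgroup.orderOf_coe, hg] at this
  omega

theorem nonempty_mulEquiv_perm {U : Subgroup G} (hK : IsKleinFour U) :
    Nonempty (↥(normalizer (U : Set G)) ≃* Equiv.Perm (Fin 4)) :=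
  mulEquiv_perm_of_card h (card_normalizer_klein h hK)

/-- The normalizer of `T` in a subgroup of order `24` is `T`: so two of its Sylow subgroups exist. -/
theorem klein_not_conj [Fact (Nat.Prime 2)] (T : Sylow 2 G) {U W : Subgroup G}
    (hU : U ≤ (T : Subgroup G)) (hW : W ≤ (T : Subgroup G)) (hUK : IsKleinFour U) (hWK : IsKleinFour W)
    (hne : U ≠ W) (g : G) : U.map (MulAut.conj g).toMonoidHom ≠ W := by
  intro hg
  have hle : ∀ (V : Subgroup G), IsKleinFour V → ∀ S : Sylow 2 G, V ≤ (S : Subgroup G) →
      (S : Subgroup G) ≤ normalizer (V : Set G) := by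
    intro V hV S hS
    have hidx : (V.subgroupOf (S : Subgroup G)).index = 2 := by
      have hm := card_mul_index (V.subgroupOf (S : Subgroup G))
      rw [Nat.card_congr (subgroupOfEquivOfLe hS).toEquiv, IsKleinFour.card_four, card_T h S] at hm
      omega
    exact (normal_subgroupOf_iff_le_normalizer hS).1 (normal_of_index_eq_two hidx)
  have hWg : W ≤ ((g • T : Sylow 2 G) : Subgroup G) := by
    rw [← hg, Sylow.coe_subgroup_smul]
    exact map_mono hU
  have h1 := hle W hWK T hW
  have h2 := hle W hWK (g • T) hWg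
  obtain ⟨n, hn⟩ := MulAction.exists_smul_eq (normalizer (W : Set G)) ((g • T).subtype h2) (T.subtype h1)
  have hn' : ((n : G) * g) • T = T := by
    rw [mul_smul]
    apply Sylow.subtype_injective (hP := Sylow.smul_le h2 n) (hQ := h1)
    rw [← hn, Sylow.smul_subtype h2 n]
  have hmem : (n : G) * g ∈ (T : Subgroup G) := by
    rw [← normalizer_T h T]
    exact Sylow.smul_eq_iff_mem_normalizer.1 hn'
  have hconj : ∀ (V : Subgroup G) (v : G), v ∈ normalizer (V : Set G) →
      V.map (MulAut.conj v).toMonoidHom = V := fun V v hv => mem_normalizer_iff_map_conj_eq.1 hv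
  apply hne
  obtain ⟨m, hm⟩ := n
  have h4 := hconj W m hm
  conv_rhs => rw [← h4, ← hg, map_map]
  refine (hconj U _ (hle U hUK T hU hmem)).symm.trans ?_
  congr 1
  ext x
  simp [mul_assoc]

end O168

end H62
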