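import Cfsg.Agent.H62.Intersect
import Cfsg.Agent.S0992

/-!
Simple groups of order `p² q r`.
-/

namespace H62

open Subgroup

variable {G : Type*} [Group G] [Finite G] [IsSimpleGroup G]

/-- No simple group of order `p³ r`. -/
theorem card_ne_pow_three_mul (hG : ¬ IsMulCommutative G) {p r : ℕ} (hp : p.Prime) (hr : r.Prime)
    (hne : p ≠ r) : Nat.card G ≠ p ^ 3 * r := by
  classical
  intro h
  have : Fact p.Prime := ⟨hp⟩
  have : Fact r.Prime := ⟨hr⟩
  have hpr : ¬ p ∣ r := fun hd => hne ((Nat.prime_dvd_prime_iff_eq hp hr).1 hd)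
  have hrp : ¬ r ∣ p ^ 3 := fun hd => hne.symm ((Nat.prime_dvd_prime_iff_eq hr hp).1 (hr.dvd_of_dvd_pow hd))
  have hr1 : Nat.card G = r ^ 1 * p ^ 3 := by rw [h, pow_one, mul_comm]
  have hdp : p ∣ Nat.card G := h ▸ (dvd_pow_self p (by norm_num)).mul_right r
  have hdr : r ∣ Nat.card G := h ▸ Dvd.intro_left _ rfl
  have hnp : Nat.card (Sylow p G) = r :=
    ((Nat.dvd_prime hr).1 (card_sylow_dvd h hpr)).resolve_left (one_lt_card_sylow hG hdp).ne'
  have hlt : p < r := by
    have hm : Nat.card (Sylow p G) % p = 1 := card_sylow_mod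
    rw [hnp] at hm
    by_contra hle
    rw [Nat.mod_eq_of_lt (by omega)] at hm
    exact hr.ne_one hm
  obtain ⟨j, hj, hnr⟩ := (Nat.dvd_prime_pow hp).1 (card_sylow_dvd hr1 hrp)
  have hm : Nat.card (Sylow r G) % r = 1 := card_sylow_mod
  have h1 := one_lt_card_sylow (p := r) hG hdr
  rw [hnr] at hm h1
  interval_cases j
  · simp at h1
  · rw [pow_one, Nat.mod_eq_of_lt hlt] at hm; exact hp.ne_one hm
  · -- r divides (p-1)(p+1)
    have hp2 := hp.two_le
    have hd : r ∣ p ^ 2 - 1 := by
      have := Nat.div_add_mod (p ^ 2) r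
      exact ⟨p ^ 2 / r, by omega⟩
    rw [show p ^ 2 - 1 = (p + 1) * (p - 1) by rw [sq, ← Nat.mul_self_sub_mul_self_eq, one_mul]] at hd
    rcases hr.dvd_mul.1 hd with hd | hd
    · have := Nat.le_of_dvd (by omega) hd
      have hre : r = p + 1 := by omega
      rcases hp.eq_two_or_odd with h2 | h2
      · have h4 := two_mul_card_dvd_factorial_card_sylow (p := p) hG hdp
        rw [hnp, hre, h, hre, h2] at h4
        norm_num [Nat.factorial] at h4
      · rcases hr.eq_two_or_odd with h3 | h3 <;> omega
    · have := Nat.le_of_dvd (by omega) hd; omega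
  · -- few elements remain outside the Sylow `r`-subgroups
    obtain ⟨R⟩ := (inferInstance : Nonempty (Sylow r G))
    have e1 := card_orderOf_eq_prime R (by rw [card_sylow_coe hr1 hrp, pow_one])
    have hr2 := hr.two_le
    set S : Set G := {g | orderOf g ≠ r} with hS
    have hScard : S.ncard = p ^ 3 := by
      have h2 : Sᶜ.ncard = p ^ 3 * (r - 1) := by
        rw [← Nat.card_coe_set_eq, ← hnr, ← e1]
        exact Nat.card_congr (Equiv.subtypeEquivRight fun g => by simp [hS])
      have h3 := Set.ncard_add_ncard_compl S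
      rw [h2, h] at h3
      have : p ^ 3 * (r - 1) + p ^ 3 = p ^ 3 * r := by
        rw [← Nat.mul_succ, Nat.succ_eq_add_one, Nat.sub_add_cancel hr.one_le]
      omega
    have hall : ∀ P : Sylow p G, ((P : Subgroup G) : Set G) = S := by
      intro P
      refine Set.eq_of_subset_of_ncard_le (fun g hg => ?_) (le_of_eq ?_)
      · intro he
        have hd := orderOf_dvd_natCard (⟨g, hg⟩ : (P : Subgroup G))
        rw [Subgroup.orderOf_mk, card_sylow_coe h hpr P, he] at hd
        exact hrp hd
      · rw [hScard, ← Nat.card_coe_set_eq, ← card_sylow_coe h hpr P]; rfl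
    have : Subsingleton (Sylow p G) :=
      ⟨fun P Q => Sylow.ext (SetLike.ext' ((hall P).trans (hall Q).symm))⟩
    rw [Nat.card_of_subsingleton (Classical.arbitrary _)] at hnp
    exact hr.ne_one hnp.symm

/-- No simple group of order `p² q²`. -/
theorem card_ne_sq_mul_sq (hG : ¬ IsMulCommutative G) {p q : ℕ} (hp : p.Prime) (hq : q.Prime)
    (hpq : p < q) : Nat.card G ≠ p ^ 2 * q ^ 2 := by
  intro h
  have : Fact q.Prime := ⟨hq⟩
  have hc : Nat.card G = q ^ 2 * p ^ 2 := by rw [h, mul_comm]
  have hqp : ¬ q ∣ p ^ 2 := fun hd => by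
    have := (Nat.prime_dvd_prime_iff_eq hq hp).1 (hq.dvd_of_dvd_pow hd); omega
  have hdq : q ∣ Nat.card G := h ▸ (dvd_pow_self q two_ne_zero).mul_left _
  obtain ⟨j, hj, hn⟩ := (Nat.dvd_prime_pow hp).1 (card_sylow_dvd hc hqp)
  have hm : Nat.card (Sylow q G) % q = 1 := card_sylow_mod
  have h1 := one_lt_card_sylow (p := q) hG hdq
  have hf := two_mul_card_dvd_factorial_card_sylow (p := q) hG hdq
  rw [hn] at hm h1 hf
  interval_cases j
  · simp at h1
  · rw [pow_one, Nat.mod_eq_of_lt hpq] at hm; exact hp.ne_one hm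
  · have hp2 := hp.two_le
    have hd : q ∣ p ^ 2 - 1 := by
      have := Nat.div_add_mod (p ^ 2) q
      exact ⟨p ^ 2 / q, by omega⟩
    rw [show p ^ 2 - 1 = (p + 1) * (p - 1) by rw [sq, ← Nat.mul_self_sub_mul_self_eq, one_mul]] at hd
    rcases hq.dvd_mul.1 hd with hd | hd
    · have := Nat.le_of_dvd (by omega) hd
      have hqe : q = p + 1 := by omega
      rcases hp.eq_two_or_odd with h2 | h2
      · rw [h, hqe, h2] at hf; norm_num [Nat.factorial] at hf
      · rcases hq.eq_two_or_odd with h3 | h3 <;> omega
    · have := Nat.le_of_dvd (by omega) hd; omega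

/-- `p² q r` with `p` odd is not the order of a simple group. -/
theorem card_ne_odd_sq_mul (hG : ¬ IsMulCommutative G) {p q r : ℕ} (hp : p.Prime) (hq : q.Prime)
    (hr : r.Prime) (hp2 : p ≠ 2) (hpq : p < q) (hpr : p < r) :
    Nat.card G ≠ p ^ 2 * (q * r) := by
  classical
  intro h
  have : Fact p.Prime := ⟨hp⟩
  have hnd : ¬ p ∣ q * r := by
    rw [hp.dvd_mul]
    rintro (hd | hd)
    · have := (Nat.prime_dvd_prime_iff_eq hp hq).1 hd; omega
    · have := (Nat.prime_dvd_prime_iff_eq hp hr).1 hd; omega
  have hdp : p ∣ Nat.card G := h ▸ (dvd_pow_self p two_ne_zero).mul_right _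
  obtain ⟨P₀⟩ := (inferInstance : Nonempty (Sylow p G))
  set P : Subgroup G := (P₀ : Subgroup G) with hPd
  have hP : Nat.card P = p ^ 2 := card_sylow_coe h hnd P₀
  have hab : IsMulCommutative P := IsPGroup.isMulCommutative_of_card_eq_prime_sq hP
  have hmin : (Nat.card G).minFac = p := by
    have h2 : 2 ≤ Nat.card G := Finite.one_lt_card
    have hm := Nat.minFac_prime (show Nat.card G ≠ 1 by omega)
    have hd := Nat.minFac_dvd (Nat.card G)
    have hle := Nat.minFac_le_of_dvd hp.two_le hdp
    generalize (Nat.card G).minFac = m at hm hd hle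
    rw [h] at hd
    rcases hm.dvd_mul.1 hd with hd | hd
    · exact (Nat.prime_dvd_prime_iff_eq hm hp).1 (hm.dvd_of_dvd_pow hd)
    · rcases hm.dvd_mul.1 hd with hd | hd
      · have := (Nat.prime_dvd_prime_iff_eq hm hq).1 hd; omega
      · have := (Nat.prime_dvd_prime_iff_eq hm hr).1 hd; omega
  have hnc : ¬ IsCyclic P := not_isCyclic_sylow_minFac hG hmin P₀
  have hexp : Monoid.exponent P = p := (not_isCyclic_iff_exponent_eq_prime hp hP).1 hnc
  apply not_normalizer_le_centralizer hG hdp P₀
  have hPC : P ≤ Subgroup.centralizer (P : Set G) := Subgroup.le_centralizer_iff_isMulCommutative.2 hab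
  -- every prime power part of an element of `N(P)` centralises `P`
  have key : ∀ x ∈ Subgroup.normalizer (P : Set G), ∀ a ∈ P, x * a * x⁻¹ ∈ Subgroup.zpowers a := by
    intro x hx a ha
    by_contra hne
    have ha1 : a ≠ 1 := by rintro rfl; simp at hne
    have horda : orderOf a = p := by
      have hd := Monoid.order_dvd_exponent (⟨a, ha⟩ : P)
      rw [hexp, Subgroup.orderOf_mk] at hd
      exact (hp.eq_one_or_self_of_dvd _ hd).resolve_left (fun he => ha1 (orderOf_eq_one_iff.1 he))
    let f : Subgroup.normalizer (P : Set G) → Subgroup G :=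
      fun y => (Subgroup.zpowers a).map (MulAut.conj (y : G)).toMonoidHom
    -- size of the orbit of `⟨a⟩` under `N(P)` is an index coprime to `p`
    let N := Subgroup.normalizer (P : Set G)
    let S : Subgroup N := (Subgroup.normalizer ((Subgroup.zpowers a : Subgroup G) : Set G)).subgroupOf N
    have hfc : Nat.card (Set.range f) = S.index := by
      refine Nat.card_congr (Equiv.ofBijective (fun z : N ⧸ S => ?_) ?_).symm
      · refine Quotient.liftOn' z (fun y => (⟨f y, y, rfl⟩ : Set.range f)) ?_
        intro y y' hyy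
        rw [QuotientGroup.leftRel_apply, Subgroup.mem_subgroupOf] at hyy
        apply Subtype.ext
        show f y = f y'
        have hz : (Subgroup.zpowers a).map (MulAut.conj ((y : G)⁻¹ * y')).toMonoidHom = Subgroup.zpowers a := by
          ext w
          constructor
          · rintro ⟨v, hv, rfl⟩
            exact (Subgroup.mem_normalizer_iff.1 hyy v).1 hv
          · intro hw
            refine ⟨((y : G)⁻¹ * y')⁻¹ * w * ((y : G)⁻¹ * y'), ?_, ?_⟩
            · have := (Subgroup.mem_normalizer_iff.1 ((Subgroup.normalizer _).inv_mem hyy) w).1 hw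
              simpa [mul_assoc] using this
            · simp [mul_assoc]
        show (Subgroup.zpowers a).map _ = (Subgroup.zpowers a).map _
        conv_lhs => rw [← hz, Subgroup.map_map]
        congr 1
        ext w
        simp [mul_assoc]
      · constructor
        · intro z z' hzz
          induction z using Quotient.inductionOn' with
          | h y =>
            induction z' using Quotient.inductionOn' with
            | h y' =>
              apply Quotient.sound'
              rw [QuotientGroup.leftRel_apply, Subgroup.mem_subgroupOf]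
              have he : f y = f y' := congrArg Subtype.val hzz
              have key : ∀ v, v ∈ Subgroup.zpowers a ↔
                  ((y : G)⁻¹ * y') * v * ((y : G)⁻¹ * y')⁻¹ ∈ Subgroup.zpowers a := by
                intro v
                constructor
                · intro hv
                  have hm : MulAut.conj (y' : G) v ∈ f y := he ▸ Subgroup.mem_map_of_mem _ hv
                  obtain ⟨u, hu, hue⟩ := hm
                  have hue : (y : G) * u * (y : G)⁻¹ = (y' : G) * v * (y' : G)⁻¹ := hue
                  have : u = ((y : G)⁻¹ * y') * v * ((y : G)⁻¹ * y')⁻¹ := by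
                    have := congrArg (fun w => (y : G)⁻¹ * w * y) hue
                    simpa [mul_assoc] using this
                  rwa [← this]
                · intro hv
                  have hm : MulAut.conj (y : G) (((y : G)⁻¹ * y') * v * ((y : G)⁻¹ * y')⁻¹) ∈ f y' :=
                    he ▸ Subgroup.mem_map_of_mem _ hv
                  obtain ⟨u, hu, hue⟩ := hm
                  have : u = v := by
                    apply (MulAut.conj (y' : G)).injective
                    show (MulAut.conj (y' : G)).toMonoidHom u = _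
                    rw [hue]
                    simp [mul_assoc]
                  rwa [← this]
              exact Subgroup.mem_normalizer_iff.2 key
        · rintro ⟨_, y, rfl⟩
          exact ⟨QuotientGroup.mk y, rfl⟩
    have hcard1 : ∀ K ∈ Set.range f, Nat.card K = p := by
      rintro _ ⟨y, rfl⟩
      rw [Subgroup.card_map_of_injective (MulAut.conj (y : G)).injective, Nat.card_zpowers, horda]
    have hle1 : ∀ K ∈ Set.range f, K ≤ P := by
      rintro _ ⟨y, rfl⟩ _ ⟨v, hv, rfl⟩
      exact (Subgroup.mem_normalizer_iff.1 y.2 v).1 (Subgroup.zpowers_le.2 ha hv)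
    let g : (Σ K : Set.range f, {v : (K : Subgroup G) // v ≠ 1}) → {v : P // v ≠ 1} :=
      fun z => ⟨⟨_, hle1 _ z.1.2 z.2.1.2⟩, fun he => z.2.2 (Subtype.ext (congrArg Subtype.val he :))⟩
    have hginj : Function.Injective g := by
      rintro ⟨⟨K, hK⟩, ⟨v, hvK⟩, hv⟩ ⟨⟨K', hK'⟩, ⟨v', hvK'⟩, hv'⟩ he
      have hvv : v = v' := congrArg (fun z : {v : P // v ≠ 1} => ((z : P) : G)) he
      subst hvv
      have hv1 : v ≠ 1 := fun h1 => hv (Subtype.ext h1)
      have gen : ∀ L : Subgroup G, Nat.card L = p → v ∈ L → L = Subgroup.zpowers v := by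
        intro L hL hvL
        refine (Subgroup.eq_of_le_of_card_ge (Subgroup.zpowers_le.2 hvL) ?_).symm
        have hd := orderOf_dvd_natCard (⟨v, hvL⟩ : L)
        rw [hL, Subgroup.orderOf_mk] at hd
        rw [hL, Nat.card_zpowers]
        exact ((hp.eq_one_or_self_of_dvd _ hd).resolve_left (fun he => hv1 (orderOf_eq_one_iff.1 he))).ge
      obtain rfl : K = K' := (gen K (hcard1 K hK) hvK).trans (gen K' (hcard1 K' hK') hvK').symm
      rfl
    have hcnt := Nat.card_le_card_of_injective g hginj
    have hsub : ∀ (L : Subgroup G), Nat.card {v : L // v ≠ 1} = Nat.card L - 1 := by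
      intro L
      have : Fintype L := Fintype.ofFinite _
      rw [Nat.card_eq_fintype_card, Fintype.card_subtype_compl, Fintype.card_subtype_eq,
        ← Nat.card_eq_fintype_card]
    have : Fintype (Set.range f) := Fintype.ofFinite _
    rw [Nat.card_sigma, Finset.sum_congr rfl (g := fun _ => p - 1)
      (fun K _ => by rw [hsub, hcard1 _ K.2]), Finset.sum_const, smul_eq_mul, Finset.card_univ,
      ← Nat.card_eq_fintype_card, hfc, hsub, hP] at hcnt
    -- the index divides `q * r`, so it is `1` or exceeds `p + 1`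
    have hdvd : S.index ∣ q * r := by
      have h1 : P.subgroupOf N ≤ S := by
        intro v hv
        rw [Subgroup.mem_subgroupOf]
        exact (Subgroup.centralizer_le (Subgroup.zpowers_le.2 ha)).trans
          (fun c hc => by
            rw [Subgroup.mem_normalizer_iff]
            intro w
            constructor
            · intro hw
              have h2 := Subgroup.mem_centralizer_iff.1 hc w hw
              rwa [← h2, mul_inv_cancel_right]
            · intro hw
              have h2 := Subgroup.mem_centralizer_iff.1 hc _ hw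
              rw [inv_mul_cancel_right] at h2
              have h' : c * w * c⁻¹ = w := mul_left_cancel h2.symm
              rwa [h'] at hw) (hPC hv)
      refine (Subgroup.index_dvd_of_le h1).trans ?_
      exact (Subgroup.relIndex_dvd_index_of_le Subgroup.le_normalizer).trans
        (index_sylow h hnd P₀).dvd
    have hne1 : S.index ≠ 1 := by
      intro h1
      have hxS : (⟨x, hx⟩ : N) ∈ S := Subgroup.index_eq_one.1 h1 ▸ Subgroup.mem_top _
      exact hne ((Subgroup.mem_normalizer_iff.1 hxS a).1 (Subgroup.mem_zpowers a))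
    have hbig : p + 1 < S.index := by
      obtain ⟨u, v, hu, hv, huv⟩ := exists_dvd_and_dvd_of_dvd_mul hdvd
      rw [Nat.dvd_prime hq] at hu
      rw [Nat.dvd_prime hr] at hv
      have hodd : ∀ t, t.Prime → p < t → p + 1 < t := by
        intro t ht hlt
        have := hp.two_le
        rcases ht.eq_two_or_odd with h2 | h2 <;> rcases hp.eq_two_or_odd with h3 | h3 <;> omega
      have hq' := hodd q hq hpq
      rcases hu with hu | hu <;> rcases hv with hv | hv <;> rw [hu, hv] at huv
      · simp [huv] at hne1
      · rw [huv, one_mul]; exact hodd r hr hpr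
      · rw [huv, mul_one]; exact hq'
      · rw [huv]; exact lt_of_lt_of_le hq' (Nat.le_mul_of_pos_right _ hr.pos)
    have h3 : (p + 1) * (p - 1) < S.index * (p - 1) := Nat.mul_lt_mul_of_pos_right hbig (by have := hp.two_le; omega)
    have h4 : (p + 1) * (p - 1) = p ^ 2 - 1 := by rw [sq, ← Nat.mul_self_sub_mul_self_eq, one_mul]
    omega
  -- conclusion
  intro x hx
  rw [Subgroup.mem_centralizer_iff]
  intro a ha
  have hxN : x ∈ Subgroup.normalizer ((Subgroup.zpowers a : Subgroup G) : Set G) := by
    rw [Subgroup.mem_normalizer_iff]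
    intro v
    constructor
    · intro hv
      obtain ⟨k, rfl⟩ := Subgroup.mem_zpowers_iff.1 hv
      rw [← conj_zpow]
      exact Subgroup.zpow_mem _ (key x hx a ha) k
    · intro hv
      obtain ⟨k, hk⟩ := Subgroup.mem_zpowers_iff.1 hv
      have := Subgroup.zpow_mem _ (key x⁻¹ ((Subgroup.normalizer _).inv_mem hx) a ha) k
      rw [conj_zpow, hk] at this
      simpa [mul_assoc] using this
  rcases eq_or_ne a 1 with rfl | ha1
  · simp
  have horda : Nat.card (Subgroup.zpowers a) = p := by
    have hd := Monoid.order_dvd_exponent (⟨a, ha⟩ : P)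
    rw [hexp, Subgroup.orderOf_mk] at hd
    rw [Nat.card_zpowers]
    exact (hp.eq_one_or_self_of_dvd _ hd).resolve_left (fun he => ha1 (orderOf_eq_one_iff.1 he))
  set A : Subgroup G := Subgroup.zpowers a with hA
  have hr1 : (Subgroup.centralizer (A : Set G)).relIndex (Subgroup.normalizer (A : Set G)) = 1 := by
    have h1 := relIndex_centralizer_dvd_prime (p := p) A horda
    have h2 : (Subgroup.centralizer (A : Set G)).relIndex (Subgroup.normalizer (A : Set G)) ∣ Nat.card G :=
      (Subgroup.relIndex_dvd_card _ _).trans (Subgroup.card_subgroup_dvd_card _)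
    have hp2' := hp.two_le
    have hq1 := hq.two_le
    have hle := Nat.le_of_dvd (by omega) h1
    generalize (Subgroup.centralizer (A : Set G)).relIndex (Subgroup.normalizer (A : Set G)) = t at h1 h2 hle ⊢
    by_contra ht
    have hm := Nat.minFac_prime ht
    have hmd := Nat.minFac_dvd t
    have hmin2 := Nat.minFac_le_of_dvd hm.two_le (hmd.trans h2)
    rw [hmin] at hmin2
    have := Nat.le_of_dvd (by omega) (hmd.trans h1)
    omega
  exact Subgroup.mem_centralizer_iff.1 (Subgroup.relIndex_eq_one.1 hr1 hxN) a (Subgroup.mem_zpowers a)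

/-- Simple groups of order `p² q r` have order `60`. -/
theorem card_eq_sixty {p q r : ℕ} (hp : p.Prime) (hq : q.Prime) (hr : r.Prime)
    (h : Nat.card G = p ^ 2 * q * r) : Nat.card G = 60 := by
  have hnp : ¬ (Nat.card G).Prime := by
    rw [h, sq, mul_assoc, mul_assoc]
    exact Nat.not_prime_mul hp.ne_one
      (fun he => hp.ne_one (Nat.eq_one_of_mul_eq_one_right he))
  have hG := not_comm_of_not_prime hnp
  wlog hqr : q ≤ r generalizing q r
  · exact this hr hq (by rw [h]; ring) (le_of_not_ge hqr)
  by_cases hpq : p = q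
  · subst hpq
    by_cases hpr : p = r
    · subst hpr
      have : Fact p.Prime := ⟨hp⟩
      exact absurd (IsPGroup.of_card (n := 4) (by rw [h]; ring) : IsPGroup p G) (not_isPGroup_of_simple hG p)
    · exact absurd (by rw [h]; ring) (card_ne_pow_three_mul hG hp hr hpr)
  by_cases hpr : p = r
  · subst hpr
    exact absurd (by rw [h]; ring) (card_ne_pow_three_mul hG hp hq hpq)
  by_cases hqr' : q = r
  · subst hqr'
    rcases lt_or_gt_of_ne hpq with h' | h'
    · exact absurd (by rw [h]; ring) (card_ne_sq_mul_sq hG hp hq h')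
    · exact absurd (by rw [h]; ring) (card_ne_sq_mul_sq hG hq hp h')
  have h2 : 2 ≤ Nat.card G := Finite.one_lt_card
  have hm := Nat.minFac_prime (show Nat.card G ≠ 1 by omega)
  have : Fact (Nat.card G).minFac.Prime := ⟨hm⟩
  have hsq := sq_minFac_dvd (p := (Nat.card G).minFac) hG rfl
  have hmp : (Nat.card G).minFac = p := by
    generalize (Nat.card G).minFac = m at hm hsq
    by_contra hne
    rw [h, mul_assoc] at hsq
    have h1 : m ^ 2 ∣ q * r := ((Nat.coprime_primes hm hp).2 hne).pow 2 2 |>.dvd_of_dvd_mul_left hsq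
    rcases eq_or_ne m q with rfl | hmq
    · have h3 : m ∣ r := Nat.dvd_of_mul_dvd_mul_left hm.pos (by rwa [← sq])
      exact hqr' ((Nat.prime_dvd_prime_iff_eq hm hr).1 h3)
    · have h3 : m ^ 2 ∣ r := ((Nat.coprime_primes hm hq).2 hmq).pow_left 2 |>.dvd_of_dvd_mul_left h1
      have h4 := Nat.le_of_dvd hr.pos h3
      have h5 := (Nat.prime_dvd_prime_iff_eq hm hr).1 ((dvd_pow_self m two_ne_zero).trans h3)
      have h6 : m * m ≤ m * 1 := by rw [mul_one, ← sq]; omega
      have := Nat.le_of_mul_le_mul_left h6 hm.pos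
      have := hm.two_le
      omega
  have hpmin : ∀ t, t.Prime → t ∣ Nat.card G → p ≤ t :=
    fun t ht hd => hmp ▸ Nat.minFac_le_of_dvd ht.two_le hd
  have hlq : p < q := lt_of_le_of_ne (hpmin q hq (h ▸ (Dvd.intro_left _ rfl).mul_right r)) hpq
  have hlr : p < r := lt_of_le_of_ne (hpmin r hr (h ▸ Dvd.intro_left _ rfl)) hpr
  have hqr2 : q < r := lt_of_le_of_ne hqr hqr'
  by_cases hp2 : p = 2
  swap
  · exact absurd (by rw [h]; ring) (card_ne_odd_sq_mul hG hp hq hr hp2 hlq hlr)
  subst hp2
  have hf2 : Fact (Nat.Prime 2) := ⟨hp⟩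
  have hndqr : ¬ 2 ∣ q * r := by
    rw [Nat.prime_two.dvd_mul, Nat.prime_dvd_prime_iff_eq hp hq, Nat.prime_dvd_prime_iff_eq hp hr]
    omega
  have h8 : ¬ 8 ∣ Nat.card G := by
    intro hd
    apply hndqr
    rw [h] at hd
    have : 4 * 2 ∣ 4 * (q * r) := by rwa [show 2 ^ 2 * q * r = 4 * (q * r) by ring] at hd
    exact Nat.dvd_of_mul_dvd_mul_left (by norm_num) this
  have heven : Even (Nat.card G) := by rw [even_iff_two_dvd, h]; exact ((dvd_pow_self 2 two_ne_zero).mul_right q).mul_right r
  obtain ⟨T⟩ := (inferInstance : Nonempty (Sylow 2 G))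
  have h3 : 3 ∣ Nat.card G := by
    have := (Cfsg.Agent.S0992.result hG heven h8 T).2
    have h' := (Subgroup.relIndex_dvd_card (Subgroup.centralizer ((T : Subgroup G) : Set G))
      (Subgroup.normalizer ((T : Subgroup G) : Set G))).trans (Subgroup.card_subgroup_dvd_card _)
    rwa [this] at h'
  have hq3 : q = 3 := by
    rw [h, Nat.prime_three.dvd_mul, Nat.prime_three.dvd_mul, Nat.prime_dvd_prime_iff_eq Nat.prime_three hq,
      Nat.prime_dvd_prime_iff_eq Nat.prime_three hr] at h3
    rcases h3 with (h3 | h3) | h3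
    · norm_num at h3
    · exact h3.symm
    · omega
  subst hq3
  have : Fact r.Prime := ⟨hr⟩
  have hr5 : 5 ≤ r := by
    rcases hr.eq_two_or_odd with h5 | h5 <;> omega
  have hcr : Nat.card G = r ^ 1 * 12 := by rw [h]; ring
  have hndr : ¬ r ∣ 12 := by
    intro hd
    have := Nat.le_of_dvd (by norm_num) hd
    interval_cases r <;> norm_num at *
  have hnd := card_sylow_dvd hcr hndr
  have hmod : Nat.card (Sylow r G) % r = 1 := card_sylow_mod
  have h1 := one_lt_card_sylow (p := r) hG (hcr ▸ (dvd_pow_self r one_ne_zero).mul_right 12)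
  have hle := Nat.le_of_dvd (by norm_num) hnd
  have hle2 : r ≤ Nat.card (Sylow r G) - 1 := Nat.le_of_dvd (by omega)
    ⟨Nat.card (Sylow r G) / r, by have := Nat.div_add_mod (Nat.card (Sylow r G)) r; omega⟩
  have hr11 : r = 5 ∨ r = 11 := by
    generalize Nat.card (Sylow r G) = n at hnd hmod h1 hle hle2
    interval_cases n <;> norm_num at hnd <;> interval_cases r <;> first | omega | norm_num at hr hmod
  rcases hr11 with rfl | rfl
  · rw [h]; norm_num
  exfalso
  have hn11 : Nat.card (Sylow 11 G) = 12 := by omega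
  have : Fact (Nat.Prime 3) := ⟨Nat.prime_three⟩
  have hc3 : Nat.card G = 3 ^ 1 * 44 := by rw [h]; norm_num
  have hs := sylow_number (p := 3) hG hc3 (by norm_num) one_pos 4 (by rw [h]; decide +kernel)
  rw [show (Nat.divisors 44).filter (fun d => d % 3 = 1 ∧ 4 < d) = {22} by decide +kernel,
    Finset.mem_singleton] at hs
  obtain ⟨R⟩ := (inferInstance : Nonempty (Sylow 11 G))
  obtain ⟨S⟩ := (inferInstance : Nonempty (Sylow 3 G))
  have e1 := card_orderOf_eq_prime R (by rw [card_sylow_coe hcr hndr, pow_one])
  have e2 := card_orderOf_eq_prime S (by rw [card_sylow_coe hc3 (by norm_num), pow_one])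
  have hle3 : Nat.card ({g : G // orderOf g = 11} ⊕ {g : G // orderOf g = 3}) ≤ Nat.card G := by
    refine Nat.card_le_card_of_injective (Sum.elim Subtype.val Subtype.val) ?_
    rintro (⟨a, ha⟩ | ⟨a, ha⟩) (⟨b, hb⟩ | ⟨b, hb⟩) he <;> simp only [Sum.elim_inl, Sum.elim_inr] at he <;>
      subst he <;> first | rfl | omega
  rw [Nat.card_sum, e1, e2, hn11, hs, h] at hle3
  omega

end H62
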