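import Cfsg.Prelude.Def_HallClasses
import Mathlib.GroupTheory.SchurZassenhaus
import Mathlib.GroupTheory.Nilpotent

/-!
A normal subgroup with `π`-quotient has a `π`-supplement containing a given `p`-subgroup.
-/

set_option autoImplicit false
set_option linter.unusedSectionVars false
set_option linter.style.haveILetI false

namespace H62.PiHom

open Subgroup

variable {G : Type*} [Group G] [Finite G] {π : Set ℕ}

theorem relIndex_eq_index_of_sup {W T : Subgroup G} [W.Normal] (h : T ⊔ W = ⊤) :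
    W.relIndex T = W.index := by
  rw [← relIndex_sup_left, sup_comm, h, relIndex_top_right]

/-- A minimal supplement inside `N` of a normal subgroup with `π`-quotient is a `π`-group. -/
theorem exists_pi_supplement (W : Subgroup G) [W.Normal]
    (hW : ∀ q : ℕ, q.Prime → q ∣ W.index → q ∈ π) (N : Subgroup G) (hN : N ⊔ W = ⊤) :
    ∃ T ≤ N, Cfsg.IsPiSubgroup π T ∧ T ⊔ W = ⊤ := by
  obtain ⟨T, ⟨hTN, hTW⟩, hmin⟩ :=
    Set.Finite.exists_minimal (s := {T : Subgroup G | T ≤ N ∧ T ⊔ W = ⊤}) (Set.toFinite _) ⟨N, le_rfl, hN⟩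
  refine ⟨T, hTN, fun q hq hqT => ?_, hTW⟩
  by_contra hqπ
  haveI := Fact.mk hq
  set L : Subgroup T := W.subgroupOf T with hL
  haveI : L.Normal := inferInstance
  have hLi : L.index = W.index := relIndex_eq_index_of_sup hTW
  have hqi : ¬ q ∣ L.index := fun h => hqπ (hW q hq (hLi ▸ h))
  have hLW : L.map T.subtype ≤ W := map_le_iff_le_comap.2 le_rfl
  -- a subgroup of `T` covering `T` modulo `W` is all of `T`
  have hfull : ∀ M : Subgroup T, M ⊔ L = ⊤ → M = ⊤ := by
    intro M hM
    have h1 : T ≤ M.map T.subtype ⊔ W := by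
      calc T = (⊤ : Subgroup T).map T.subtype := by rw [← MonoidHom.range_eq_map, range_subtype]
        _ = M.map T.subtype ⊔ L.map T.subtype := by rw [← hM, Subgroup.map_sup]
        _ ≤ M.map T.subtype ⊔ W := sup_le_sup_left hLW _
    have h2 : T ≤ M.map T.subtype := hmin
      ⟨(map_subtype_le M).trans hTN, top_le_iff.1 (hTW ▸ sup_le h1 le_sup_right)⟩
      (map_subtype_le M)
    exact eq_top_iff.2 fun x _ => by
      obtain ⟨y, hy, he⟩ := mem_map.1 (h2 x.2)
      exact (Subtype.ext he : y = x) ▸ hy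
  obtain ⟨Q⟩ : Nonempty (Sylow q L) := inferInstance
  set Q' : Subgroup T := (Q : Subgroup L).map L.subtype with hQ'
  haveI hQn : Q'.Normal := normalizer_eq_top_iff.1 (hfull _ (Sylow.normalizer_sup_eq_top Q))
  have hQL : q ∣ Nat.card L := by
    rcases hq.dvd_mul.1 (L.card_mul_index.symm ▸ hqT) with h | h
    · exact h
    · exact absurd h hqi
  have hQ1 : q ∣ Nat.card Q' := by
    rw [card_map_of_injective L.subtype_injective]
    exact Q.dvd_card_of_dvd_card hQL
  have hnot : ¬ q ∣ Q'.index := by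
    rw [index_map_subtype]
    exact fun h => (hq.dvd_mul.1 h).elim Q.not_dvd_index hqi
  obtain ⟨k, hk⟩ := IsPGroup.iff_card.1 (Q.isPGroup'.map L.subtype)
  have hcop : Nat.Coprime (Nat.card Q') Q'.index := by
    rw [hk]; exact Nat.Coprime.pow_left k (hq.coprime_iff_not_dvd.2 hnot)
  obtain ⟨X, hX⟩ := exists_right_complement'_of_coprime hcop
  have hX1 : X = ⊤ := hfull X (eq_top_iff.2 (by
    rw [← hX.sup_eq_top, sup_comm]
    exact sup_le_sup_left (map_subtype_le _) _))
  subst hX1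
  have := hX.card_mul
  rw [card_top, Nat.mul_eq_right Nat.card_pos.ne'] at this
  rw [this] at hQ1
  exact hq.not_dvd_one hQ1

theorem cover_aux (W Q : Subgroup G) [W.Normal] [Q.Normal] {p : ℕ} [hp : Fact p.Prime] (hpπ : p ∈ π)
    (hW : ∀ q : ℕ, q.Prime → q ∣ W.index → q ∈ π) (hQW : Q ≤ W) (hQ : IsPGroup p Q)
    (hQi : ¬ p ∣ Q.relIndex W) :
    ∃ T : Subgroup G, Cfsg.IsPiSubgroup π T ∧ T ⊔ W = ⊤ ∧ ¬ p ∣ T.index := by
  obtain ⟨T, -, hT, hTW⟩ := exists_pi_supplement W hW ⊤ (top_sup_eq _)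
  have h1 : (T ⊔ Q) ⊔ W = ⊤ := by rw [sup_assoc, sup_eq_right.2 hQW, hTW]
  refine ⟨T ⊔ Q, fun q hq hqd => ?_, h1, fun hd => hQi ?_⟩
  · have h2 : Nat.card (T ⊔ Q : Subgroup G) = Nat.card Q * Q.relIndex T := by
      rw [← relIndex_sup_left, sup_comm T Q, relIndex, ← card_mul_index (Q.subgroupOf (Q ⊔ T)),
        Nat.card_congr (subgroupOfEquivOfLe (le_sup_left : Q ≤ Q ⊔ T)).toEquiv]
    rw [h2] at hqd
    rcases hq.dvd_mul.1 hqd with h | h
    · obtain ⟨k, hk⟩ := IsPGroup.iff_card.1 hQ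
      rw [hk] at h
      rwa [(Nat.prime_dvd_prime_iff_eq hq hp.out).1 (hq.dvd_of_dvd_pow h)]
    · exact hT q hq (h.trans ((Q.subgroupOf T).index_dvd_card))
  · have h3 : (T ⊔ Q).index = (T ⊔ Q).relIndex W := by
      have e1 := relIndex_mul_index (H := (T ⊔ Q) ⊓ W) (K := T ⊔ Q) inf_le_left
      have e2 := relIndex_mul_index (H := (T ⊔ Q) ⊓ W) (K := W) inf_le_right
      rw [inf_relIndex_left, relIndex_eq_index_of_sup h1, ← e2, inf_relIndex_right,
        mul_comm ((T ⊔ Q).relIndex W)] at e1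
      exact Nat.eq_of_mul_eq_mul_left (Nat.pos_of_ne_zero index_ne_zero_of_finite) e1
    rw [h3] at hd
    exact hd.trans (relIndex_dvd_of_le_left W le_sup_right)

/-- A normal subgroup `W` with `π`-quotient has a `π`-supplement containing a given `p`-subgroup,
`p ∈ π`. -/
theorem cover (W : Subgroup G) [hWn : W.Normal] (hW : ∀ q : ℕ, q.Prime → q ∣ W.index → q ∈ π)
    {p : ℕ} [hp : Fact p.Prime] (hpπ : p ∈ π) (R : Subgroup G) (hR : IsPGroup p R) :
    ∃ T : Subgroup G, Cfsg.IsPiSubgroup π T ∧ R ≤ T ∧ T ⊔ W = ⊤ := by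
  obtain ⟨Q0⟩ : Nonempty (Sylow p W) := inferInstance
  set Q : Subgroup G := (Q0 : Subgroup W).map W.subtype with hQ
  set N : Subgroup G := normalizer (Q : Set G) with hNdef
  have hNW : N ⊔ W = ⊤ := Sylow.normalizer_sup_eq_top Q0
  have hQW : Q ≤ W := map_subtype_le _
  have hQN : Q ≤ N := le_normalizer
  have hQi : ¬ p ∣ Q.relIndex W := by
    rw [relIndex, hQ, ← comap_subtype, comap_map_eq_self_of_injective W.subtype_injective]
    exact Q0.not_dvd_index
  haveI : (W.subgroupOf N).Normal := inferInstance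
  haveI : (Q.subgroupOf N).Normal := normal_subgroupOf_of_le_normalizer le_rfl
  have hWN : (W.subgroupOf N).index = W.index := relIndex_eq_index_of_sup hNW
  have hQN' : IsPGroup p (Q.subgroupOf N) :=
    (Q0.isPGroup'.map W.subtype).of_equiv (subgroupOfEquivOfLe hQN).symm
  have hQi' : ¬ p ∣ (Q.subgroupOf N).relIndex (W.subgroupOf N) := by
    rw [← relIndex_map_map_of_injective _ _ N.subtype_injective, subgroupOf_map_subtype,
      subgroupOf_map_subtype, inf_eq_left.2 hQN]
    intro h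
    refine hQi (h.trans ?_)
    exact Dvd.intro _ (relIndex_mul_relIndex Q (W ⊓ N) W (le_inf hQW hQN) inf_le_left)
  obtain ⟨T, hT, hTW, hTi⟩ := cover_aux (W.subgroupOf N) (Q.subgroupOf N) hpπ
    (fun q hq hd => hW q hq (hWN ▸ hd)) (fun x hx => hQW hx) hQN' hQi'
  have hNi : ¬ p ∣ N.index := by
    intro h
    obtain ⟨P, hP⟩ := (Q0.isPGroup'.map W.subtype).exists_le_sylow
    have hPN : (P : Subgroup G) ≤ N := by
      have hmeet : (P : Subgroup G) ⊓ W = Q := by
        refine le_antisymm ?_ (le_inf hP hQW)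
        have h1 : ((P : Subgroup G) ⊓ W).subgroupOf W = (Q0 : Subgroup W) := Q0.is_maximal'
          ((P.isPGroup'.to_le inf_le_left).of_equiv (subgroupOfEquivOfLe inf_le_right).symm)
          (fun x hx => ⟨hP (mem_map_of_mem _ hx), x.2⟩)
        rw [hQ, ← h1, subgroupOf_map_subtype]
        exact le_of_eq (inf_eq_left.2 inf_le_right).symm
      intro x hx
      rw [hNdef, mem_normalizer_iff]
      intro y
      rw [← hmeet, mem_inf, mem_inf]
      constructor
      · exact fun hy => ⟨mul_mem (mul_mem hx hy.1) (inv_mem hx), hWn.conj_mem y hy.2 x⟩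
      · intro hy
        have e : y = x⁻¹ * (x * y * x⁻¹) * x⁻¹⁻¹ := by group
        rw [e]
        exact ⟨mul_mem (mul_mem (inv_mem hx) hy.1) (by rw [inv_inv]; exact hx),
          hWn.conj_mem _ hy.2 _⟩
    exact P.not_dvd_index (h.trans (index_dvd_of_le hPN))
  set T' := T.map N.subtype with hT'
  have hT'i : ¬ p ∣ T'.index := by
    rw [hT', index_map_subtype]
    exact fun h => (hp.out.dvd_mul.1 h).elim hTi hNi
  have hT'W : T' ⊔ W = ⊤ := by
    refine top_le_iff.1 (hNW ▸ sup_le ?_ le_sup_right)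
    calc N = (⊤ : Subgroup N).map N.subtype := by rw [← MonoidHom.range_eq_map, range_subtype]
      _ = T' ⊔ (W.subgroupOf N).map N.subtype := by rw [← hTW, Subgroup.map_sup]
      _ ≤ T' ⊔ W := sup_le_sup_left (map_le_iff_le_comap.2 le_rfl) _
  obtain ⟨S⟩ : Nonempty (Sylow p T') := inferInstance
  obtain ⟨S', hS'⟩ := (S.isPGroup'.map T'.subtype).exists_le_sylow
  obtain ⟨P, hP⟩ := hR.exists_le_sylow
  have hS'T : (S' : Subgroup G) ≤ T' := by
    have h1 : (S : Subgroup T').map T'.subtype = (S' : Subgroup G) := by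
      refine eq_of_le_of_card_ge hS' ?_
      rw [card_map_of_injective T'.subtype_injective, S'.card_eq_multiplicity, S.card_eq_multiplicity,
        ← T'.card_mul_index, Nat.factorization_mul Nat.card_pos.ne' index_ne_zero_of_finite,
        Finsupp.add_apply, Nat.factorization_eq_zero_of_not_dvd hT'i, add_zero]
    exact h1 ▸ map_subtype_le _
  obtain ⟨g, hg⟩ := MulAction.exists_smul_eq G S' P
  refine ⟨T'.map (MulAut.conj g).toMonoidHom, fun q hq hd => hT q hq ?_, ?_, ?_⟩
  · rw [card_map_of_injective (MulEquiv.injective _), hT', card_map_of_injective N.subtype_injective]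
      at hd
    exact hd
  · intro x hx
    have hx' : x ∈ ((g • S' : Sylow p G) : Subgroup G) := hg ▸ hP hx
    obtain ⟨y, hy, rfl⟩ := mem_map.1 hx'
    exact mem_map_of_mem _ (hS'T hy)
  · have hWg : W.map (MulAut.conj g).toMonoidHom = W := by
      refine eq_of_le_of_card_ge ?_ (card_map_of_injective (MulEquiv.injective _)).ge
      rintro _ ⟨w, hw, rfl⟩
      exact hWn.conj_mem w hw g
    conv_lhs => rw [← hWg]
    rw [← Subgroup.map_sup, hT'W, map_top_of_surjective _ (MulEquiv.surjective _)]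

end H62.PiHom
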