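import Cfsg.Agent.H62.PiHomCover

/-!
In a `π`-homogeneous group, a `π`-subgroup dominating all `π`-subgroups controls the fusion of its
elements.
-/

set_option autoImplicit false
set_option linter.unusedSectionVars false
set_option linter.style.haveILetI false

namespace H62.PiHom

open Subgroup

variable {G : Type*} [Group G]

/-- All automizers of non-trivial `π`-subgroups are `π`-groups. -/
def Hom (π : Set ℕ) (G : Type*) [Group G] : Prop :=
  ∀ A : Subgroup G, A ≠ ⊥ → Cfsg.IsPiSubgroup π A →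
    ∀ q : ℕ, q.Prime → q ∣ (centralizer (A : Set G)).relIndex (normalizer (A : Set G)) → q ∈ π

/-- `K` is a `π`-subgroup of `C` containing a `C`-conjugate of each `π`-subgroup of `C`. -/
structure Dom (π : Set ℕ) (C K : Subgroup G) : Prop where
  le : K ≤ C
  isPi : Cfsg.IsPiSubgroup π K
  dom : ∀ A ≤ C, Cfsg.IsPiSubgroup π A → ∃ c ∈ C, ∀ a ∈ A, c * a * c⁻¹ ∈ K

/-- Conjugate subgroup. -/
abbrev cj (g : G) (A : Subgroup G) : Subgroup G := A.map (MulAut.conj g).toMonoidHom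

theorem mem_cj {g x : G} {A : Subgroup G} : x ∈ cj g A ↔ g⁻¹ * x * g ∈ A := by
  constructor
  · rintro ⟨a, ha, rfl⟩
    simpa [MulAut.conj_apply, mul_assoc] using ha
  · exact fun h => ⟨_, h, by simp [MulAut.conj_apply, mul_assoc]⟩

theorem cj_mem {g a : G} {A : Subgroup G} (ha : a ∈ A) : g * a * g⁻¹ ∈ cj g A := ⟨a, ha, rfl⟩

theorem cj_cj (g h : G) (A : Subgroup G) : cj g (cj h A) = cj (g * h) A := by
  ext x; simp only [mem_cj, mul_inv_rev, mul_assoc]

theorem cj_one (A : Subgroup G) : cj (1 : G) A = A := by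
  ext x; simp [mem_cj]

theorem cj_le {g : G} {A B : Subgroup G} (h : ∀ a ∈ A, g * a * g⁻¹ ∈ B) : cj g A ≤ B := by
  rintro _ ⟨a, ha, rfl⟩; exact h a ha

theorem card_cj (g : G) (A : Subgroup G) : Nat.card (cj g A) = Nat.card A :=
  card_map_of_injective (MulEquiv.injective _)

theorem cj_congr {g h : G} {A : Subgroup G} (e : ∀ a ∈ A, g * a * g⁻¹ = h * a * h⁻¹) :
    cj g A = cj h A :=
  le_antisymm (cj_le fun a ha => e a ha ▸ cj_mem ha) (cj_le fun a ha => (e a ha).symm ▸ cj_mem ha)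

theorem mem_normalizer_of_cj_eq {g : G} {A : Subgroup G} (h : cj g A = A) :
    g ∈ normalizer (A : Set G) := by
  rw [mem_normalizer_iff]
  intro a
  conv_rhs => rw [← h]
  rw [mem_cj]
  simp [mul_assoc]

theorem cj_eq_of_mem_normalizer {g : G} {A : Subgroup G} (h : g ∈ normalizer (A : Set G)) :
    cj g A = A := by
  ext x
  rw [mem_cj, mem_normalizer_iff.1 h]
  simp [mul_assoc]

variable [Finite G]

theorem isPi_of_isPGroup {π : Set ℕ} {q : ℕ} [hq : Fact q.Prime] (hqπ : q ∈ π) {A : Subgroup G}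
    (hA : IsPGroup q A) : Cfsg.IsPiSubgroup π A := by
  intro r hr hd
  obtain ⟨k, hk⟩ := IsPGroup.iff_card.1 hA
  rw [hk] at hd
  rwa [(Nat.prime_dvd_prime_iff_eq hr hq.out).1 (hr.dvd_of_dvd_pow hd)]

theorem exists_gt_normalizing {q : ℕ} [Fact q.Prime] {U P : Subgroup G} (hP : IsPGroup q P)
    (hUP : U ≤ P) (hne : U ≠ P) : U < P ⊓ normalizer (U : Set G) := by
  refine lt_of_le_of_ne (le_inf hUP le_normalizer) fun h => hne ?_
  haveI := hP.isNilpotent
  have h1 : U.subgroupOf P = ⊤ := by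
    by_contra h2
    refine (Group.normalizerCondition_of_isNilpotent (G := P) _ (lt_top_iff_ne_top.2 h2)).not_ge
      fun x hx => ?_
    rw [mem_subgroupOf]
    have : (x : G) ∈ P ⊓ normalizer (U : Set G) := by
      refine ⟨x.2, mem_normalizer_iff.2 fun y => ?_⟩
      constructor
      · exact fun hy => (mem_normalizer_iff.1 hx ⟨y, hUP hy⟩).1 hy
      · intro hy
        have hyP : y ∈ P := by
          have := P.mul_mem (P.mul_mem (P.inv_mem x.2) (hUP hy)) x.2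
          simpa [mul_assoc] using this
        exact (mem_normalizer_iff.1 hx ⟨y, hyP⟩).2 hy
    rwa [← h] at this
  exact le_antisymm hUP (subgroupOf_eq_top.1 h1)

/-- Fusion of `q`-subgroups. -/
theorem fusion_pGroup {π : Set ℕ} (hh : Hom π G) {C K : Subgroup G} (hD : Dom π C K)
    {q : ℕ} [hq : Fact q.Prime] (hqπ : q ∈ π) :
    ∀ (n : ℕ) (U : Subgroup G), Nat.card G - Nat.card U = n → IsPGroup q U → U ≤ K →
      ∀ c ∈ C, (∀ u ∈ U, c * u * c⁻¹ ∈ K) → ∃ k ∈ K, ∀ u ∈ U, k * u * k⁻¹ = c * u * c⁻¹ := by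
  intro n
  induction n using Nat.strong_induction_on with
  | _ n ih =>
  intro U hn hU hUK c hc hcU
  rcases eq_or_ne U ⊥ with rfl | hU1
  · exact ⟨1, K.one_mem, fun u hu => by rw [mem_bot.1 hu]; simp⟩
  -- maps into a subgroup whose normaliser has a Sylow subgroup inside `K`
  have key : ∀ (U' V R : Subgroup G) (d : G), d ∈ C → Nat.card U' = Nat.card U → IsPGroup q U' →
      U' ≤ K → cj d U' = V → V ≤ K → R ≤ K →
      (∀ A ≤ C ⊓ normalizer (V : Set G), IsPGroup q A → ∃ m ∈ C ⊓ normalizer (V : Set G), cj m A ≤ R) →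
      ∃ k ∈ K, cj k U' = V := by
    intro U' V R d hd hcard hU' hU'K hV hVK hRK hmax
    obtain ⟨P, hP⟩ := (hU'.of_equiv (subgroupOfEquivOfLe hU'K).symm).exists_le_sylow
    set P' : Subgroup G := (P : Subgroup K).map K.subtype with hP'
    have hUP : U' ≤ P' := fun x hx => ⟨⟨x, hU'K hx⟩, hP hx, rfl⟩
    rcases eq_or_ne U' P' with heq | hne
    · have hV' : IsPGroup q (V.subgroupOf K) :=
        ((hV ▸ hU'.map _ : IsPGroup q V)).of_equiv (subgroupOfEquivOfLe hVK).symm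
      obtain ⟨P2, hP2⟩ := hV'.exists_le_sylow
      have hVP : V.subgroupOf K = (P2 : Subgroup K) := by
        refine eq_of_le_of_card_ge hP2 ?_
        rw [Nat.card_congr (subgroupOfEquivOfLe hVK).toEquiv, ← hV, card_cj, heq, hP',
          card_map_of_injective K.subtype_injective, P.card_eq_multiplicity, P2.card_eq_multiplicity]
      obtain ⟨k, hk⟩ := MulAction.exists_smul_eq K P P2
      refine ⟨k, k.2, ?_⟩
      have hk' : ((k • P : Sylow q K) : Subgroup K) = V.subgroupOf K := by rw [hk, hVP]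
      rw [← inf_eq_left.2 hVK, ← subgroupOf_map_subtype, ← hk', heq, hP', Sylow.coe_subgroup_smul]
      refine le_antisymm (cj_le ?_) ?_
      · rintro _ ⟨y, hy, rfl⟩
        exact ⟨k * y * k⁻¹, ⟨y, hy, rfl⟩, rfl⟩
      · rintro _ ⟨_, ⟨y, hy, rfl⟩, rfl⟩
        exact cj_mem (mem_map_of_mem K.subtype hy)
    · set R' := P' ⊓ normalizer (U' : Set G) with hR'
      have hlt : U' < R' := exists_gt_normalizing (P.isPGroup'.map _) hUP hne
      have hR'K : R' ≤ K := inf_le_left.trans (map_subtype_le _)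
      have hR'q : IsPGroup q R' := (P.isPGroup'.map _).to_le inf_le_left
      have hA : cj d R' ≤ C ⊓ normalizer (V : Set G) := by
        refine cj_le fun r hr => ⟨C.mul_mem (C.mul_mem hd (hD.le (hR'K hr))) (C.inv_mem hd), ?_⟩
        refine mem_normalizer_of_cj_eq ?_
        rw [← hV, cj_cj, show d * r * d⁻¹ * d = d * r by group, ← cj_cj,
          cj_eq_of_mem_normalizer hr.2]
      obtain ⟨m, hm, hmA⟩ := hmax _ hA (hR'q.map _)
      rw [cj_cj] at hmA
      have hcard' : Nat.card U < Nat.card R' := by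
        rw [← hcard]
        exact lt_of_not_ge fun h => hlt.ne (eq_of_le_of_card_ge hlt.le h)
      obtain ⟨k, hk, hk'⟩ := ih (Nat.card G - Nat.card R')
        (by have := Nat.card_le_card_of_injective _ (R'.subtype_injective); omega) R' rfl hR'q hR'K
        (m * d) (C.mul_mem hm.1 hd) (fun r hr => hRK (hmA (cj_mem hr)))
      refine ⟨k, hk, ?_⟩
      rw [cj_congr (fun u hu => hk' u (hlt.le hu)), ← cj_cj, hV, cj_eq_of_mem_normalizer hm.2]
  -- a well placed conjugate `V` of `U`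
  have hUC : U ≤ C := hUK.trans hD.le
  obtain ⟨Q⟩ : Nonempty (Sylow q (C ⊓ normalizer (U : Set G) : Subgroup G)) := inferInstance
  set NU : Subgroup G := C ⊓ normalizer (U : Set G) with hNU
  set Q' : Subgroup G := (Q : Subgroup NU).map NU.subtype with hQ'
  have hUNU : U ≤ NU := le_inf hUC le_normalizer
  have hUQ : U ≤ Q' := by
    haveI : (U.subgroupOf NU).Normal := normal_subgroupOf_of_le_normalizer inf_le_right
    intro x hx
    exact ⟨⟨x, hUNU hx⟩, IsPGroup.le_sylow_of_normal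
      (hU.of_equiv (subgroupOfEquivOfLe hUNU).symm) Q hx, rfl⟩
  obtain ⟨c₀, hc₀, hc₀Q⟩ := hD.dom Q' ((map_subtype_le _).trans inf_le_left)
    (isPi_of_isPGroup hqπ (Q.isPGroup'.map _))
  set V := cj c₀ U with hV
  set R := cj c₀ Q' with hR
  have hRK : R ≤ K := cj_le hc₀Q
  have hVK : V ≤ K := (map_mono hUQ).trans hRK
  have hVR : V ≤ R := map_mono hUQ
  have hRN : R ≤ C ⊓ normalizer (V : Set G) := by
    refine le_inf (hRK.trans hD.le) (cj_le fun r hr => mem_normalizer_of_cj_eq ?_)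
    rw [hV, cj_cj, show c₀ * r * c₀⁻¹ * c₀ = c₀ * r by group, ← cj_cj,
      cj_eq_of_mem_normalizer (map_subtype_le _ hr : r ∈ NU).2]
  have hmax : ∀ A ≤ C ⊓ normalizer (V : Set G), IsPGroup q A →
      ∃ m ∈ C ⊓ normalizer (V : Set G), cj m A ≤ R := by
    intro A hA hAq
    have hA' : cj c₀⁻¹ A ≤ NU := by
      refine cj_le fun a ha => ⟨C.mul_mem (C.mul_mem (C.inv_mem hc₀) (hA ha).1)
        (by rw [inv_inv]; exact hc₀), mem_normalizer_of_cj_eq ?_⟩
      rw [show c₀⁻¹ * a * c₀⁻¹⁻¹ = c₀⁻¹ * (a * c₀) by group, ← cj_cj, ← cj_cj, ← hV,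
        cj_eq_of_mem_normalizer (hA ha).2, hV, cj_cj, inv_mul_cancel, cj_one]
    obtain ⟨P, hP⟩ := ((hAq.map (MulAut.conj c₀⁻¹).toMonoidHom).of_equiv
      (subgroupOfEquivOfLe hA').symm).exists_le_sylow
    obtain ⟨w, hw⟩ := MulAction.exists_smul_eq NU P Q
    refine ⟨c₀ * w * c₀⁻¹, ⟨C.mul_mem (C.mul_mem hc₀ w.2.1) (C.inv_mem hc₀),
      mem_normalizer_of_cj_eq ?_⟩, cj_le fun a ha => ?_⟩
    · rw [hV, cj_cj, show c₀ * (w : G) * c₀⁻¹ * c₀ = c₀ * w by group, ← cj_cj,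
        cj_eq_of_mem_normalizer w.2.2]
    · have h1 : (⟨c₀⁻¹ * a * c₀⁻¹⁻¹, hA' (cj_mem ha)⟩ : NU) ∈ (P : Subgroup NU) := hP (cj_mem ha)
      have h2 : w * ⟨c₀⁻¹ * a * c₀⁻¹⁻¹, hA' (cj_mem ha)⟩ * w⁻¹ ∈ (Q : Subgroup NU) := by
        rw [← hw, Sylow.coe_subgroup_smul]
        exact ⟨_, h1, rfl⟩
      have h3 := cj_mem (g := c₀) (A := Q') (mem_map_of_mem NU.subtype h2)
      rw [hR]
      convert h3 using 1
      simp [mul_assoc]
  -- every automorphism of `V` induced in `C` is induced in `K`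
  set NV : Subgroup G := C ⊓ normalizer (V : Set G) with hNV
  have hVNV : V ≤ NV := le_inf (hVK.trans hD.le) le_normalizer
  have hauto : ∀ m ∈ NV, ∃ k ∈ K, ∀ v ∈ V, k * v * k⁻¹ = m * v * m⁻¹ := by
    set W : Subgroup NV := (centralizer (V : Set G)).subgroupOf NV with hW
    have hcn : normalizer (V : Set G) ≤ normalizer (centralizer (V : Set G) : Set G) := by
      intro g hg
      refine mem_normalizer_of_cj_eq (eq_of_le_of_card_ge (cj_le fun w hw => ?_) (card_cj _ _).ge)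
      rw [mem_centralizer_iff]
      intro v hv
      have hv' : g⁻¹ * v * g ∈ V := mem_cj.1 ((cj_eq_of_mem_normalizer hg).symm ▸ hv)
      calc v * (g * w * g⁻¹) = g * (g⁻¹ * v * g * w) * g⁻¹ := by group
        _ = g * (w * (g⁻¹ * v * g)) * g⁻¹ := by rw [mem_centralizer_iff.1 hw _ hv']
        _ = _ := by group
    haveI : W.Normal := normal_subgroupOf_of_le_normalizer (inf_le_right.trans hcn)
    have hWi : ∀ r : ℕ, r.Prime → r ∣ W.index → r ∈ π := by
      intro r hr hd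
      refine hh V ?_ (fun r hr h => hD.isPi r hr (h.trans (card_dvd_of_le hVK))) r hr (hd.trans ?_)
      · intro h
        apply hU1
        rw [← card_eq_one, ← card_cj c₀, ← hV, h, card_bot]
      · haveI : ((centralizer (V : Set G)).subgroupOf (normalizer (V : Set G))).Normal :=
          normal_subgroupOf_of_le_normalizer hcn
        have h1 := relIndex_dvd_index_of_normal
          ((centralizer (V : Set G)).subgroupOf (normalizer (V : Set G)))
          (NV.subgroupOf (normalizer (V : Set G)))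
        rw [← relIndex_map_map_of_injective _ _ (normalizer (V : Set G)).subtype_injective,
          subgroupOf_map_subtype, subgroupOf_map_subtype, inf_eq_left.2 (inf_le_right : NV ≤ _)] at h1
        refine dvd_trans (dvd_of_eq ?_) h1
        show (centralizer (V : Set G)).relIndex NV = _
        conv_rhs => rw [← inf_relIndex_right, inf_assoc, inf_eq_right.2 (inf_le_right : NV ≤ _),
          inf_relIndex_right]
    obtain ⟨T, hT, hRT, hTW⟩ := cover W hWi hqπ (R.subgroupOf NV)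
      ((Q.isPGroup'.map NU.subtype |>.map _).of_equiv (subgroupOfEquivOfLe hRN).symm)
    have hTπ : Cfsg.IsPiSubgroup π (T.map NV.subtype) := fun r hr h =>
      hT r hr (by rwa [card_map_of_injective NV.subtype_injective] at h)
    obtain ⟨d, hd, hdT⟩ := hD.dom _ ((map_subtype_le _).trans inf_le_left) hTπ
    have hdV : cj d V ≤ K := cj_le fun v hv => hdT v ⟨⟨v, hVNV hv⟩, hRT (hVR hv), rfl⟩
    obtain ⟨k, hk, hk'⟩ := key (cj d V) V R d⁻¹ (C.inv_mem hd) (by rw [card_cj, card_cj])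
      ((hU.map _).map _) hdV (by rw [cj_cj, inv_mul_cancel, cj_one]) hVK hRK hmax
    rw [cj_cj] at hk'
    have hf : k * d ∈ NV := ⟨C.mul_mem (hD.le hk) hd, mem_normalizer_of_cj_eq hk'⟩
    intro m hm
    have hm' : (⟨k * d, hf⟩ : NV)⁻¹ * ⟨m, hm⟩ * ⟨k * d, hf⟩ ∈ T ⊔ W := hTW.symm ▸ mem_top _
    rw [← SetLike.mem_coe, mul_normal, Set.mem_mul] at hm'
    obtain ⟨t, ht, w, hw, htw⟩ := hm'
    refine ⟨k * (d * (t : G) * d⁻¹) * k⁻¹,
      K.mul_mem (K.mul_mem hk (hdT _ ⟨t, ht, rfl⟩)) (K.inv_mem hk), fun v hv => ?_⟩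
    have htw' : (t : G) * w = (k * d)⁻¹ * m * (k * d) := congrArg Subtype.val htw
    set f := k * d with hfdef
    have hv' : f⁻¹ * v * f ∈ V := by
      have h := hf.2
      rw [← cj_eq_of_mem_normalizer h] at hv
      exact mem_cj.1 hv
    have hwc : (w : G) * (f⁻¹ * v * f) = f⁻¹ * v * f * w := (mem_centralizer_iff.1 hw _ hv').symm
    have hm2 : m = f * ((t : G) * w) * f⁻¹ := by rw [htw']; group
    rw [hm2, show k * (d * (t : G) * d⁻¹) * k⁻¹ = f * t * f⁻¹ by rw [hfdef]; group]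
    calc f * t * f⁻¹ * v * (f * t * f⁻¹)⁻¹ = f * t * (f⁻¹ * v * f) * (t : G)⁻¹ * f⁻¹ := by group
      _ = f * t * ((f⁻¹ * v * f) * w * (w : G)⁻¹) * (t : G)⁻¹ * f⁻¹ := by group
      _ = f * t * (w * (f⁻¹ * v * f) * (w : G)⁻¹) * (t : G)⁻¹ * f⁻¹ := by rw [hwc]
      _ = _ := by group
  -- conclusion
  have hreal : ∀ (U' : Subgroup G) (d : G), d ∈ C → Nat.card U' = Nat.card U → IsPGroup q U' →
      U' ≤ K → cj d U' = V → ∃ k ∈ K, ∀ u ∈ U', k * u * k⁻¹ = d * u * d⁻¹ := by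
    intro U' d hd hcard hU' hU'K hdV
    obtain ⟨k, hk, hk'⟩ := key U' V R d hd hcard hU' hU'K hdV hVK hRK hmax
    have hm : d * k⁻¹ ∈ NV := by
      refine ⟨C.mul_mem hd (C.inv_mem (hD.le hk)), mem_normalizer_of_cj_eq ?_⟩
      conv_lhs => rw [← hk', cj_cj, inv_mul_cancel_right]
      exact hdV
    obtain ⟨a, ha, ha'⟩ := hauto _ hm
    refine ⟨a * k, K.mul_mem ha hk, fun u hu => ?_⟩
    have := ha' (k * u * k⁻¹) (hk' ▸ cj_mem hu)
    calc a * k * u * (a * k)⁻¹ = a * (k * u * k⁻¹) * a⁻¹ := by group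
      _ = _ := by rw [this]; group
  obtain ⟨k₁, hk₁, hk₁'⟩ := hreal U c₀ hc₀ rfl hU hUK rfl
  obtain ⟨k₂, hk₂, hk₂'⟩ := hreal (cj c U) (c₀ * c⁻¹) (C.mul_mem hc₀ (C.inv_mem hc)) (card_cj c U)
    (hU.map _) (cj_le hcU) (by rw [cj_cj, inv_mul_cancel_right])
  refine ⟨k₂⁻¹ * k₁, K.mul_mem (K.inv_mem hk₂) hk₁, fun u hu => ?_⟩
  calc k₂⁻¹ * k₁ * u * (k₂⁻¹ * k₁)⁻¹ = k₂⁻¹ * (k₁ * u * k₁⁻¹) * k₂ := by group
    _ = k₂⁻¹ * (c₀ * c⁻¹ * (c * u * c⁻¹) * (c₀ * c⁻¹)⁻¹) * k₂ := by rw [hk₁' u hu]; group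
    _ = _ := by rw [← hk₂' _ (cj_mem hu)]; group

/-- Fusion of elements. -/
theorem fusion_elem {π : Set ℕ} (hh : Hom π G) :
    ∀ (n : ℕ) (x : G) (C K : Subgroup G), orderOf x = n → Dom π C K → x ∈ K →
      ∀ c ∈ C, c * x * c⁻¹ ∈ K → ∃ k ∈ K, k * x * k⁻¹ = c * x * c⁻¹ := by
  intro n
  induction n using Nat.strong_induction_on with
  | _ n ih =>
  intro x C K hn hD hx c hc hcx
  rcases eq_or_ne x 1 with rfl | hx1
  · exact ⟨1, K.one_mem, by simp⟩
  have hn1 : n ≠ 1 := by rw [← hn]; exact mt orderOf_eq_one_iff.1 hx1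
  have hn0 : n ≠ 0 := by rw [← hn]; exact (orderOf_pos x).ne'
  set q := n.minFac with hqdef
  have hq : q.Prime := Nat.minFac_prime hn1
  haveI := Fact.mk hq
  have hqn : q ∣ n := Nat.minFac_dvd n
  have hqπ : q ∈ π := hD.isPi q hq (hqn.trans (by
    rw [← hn, ← Nat.card_zpowers]; exact card_dvd_of_le (zpowers_le.2 hx)))
  set A := ordProj[q] n with hA
  set B := ordCompl[q] n with hB
  have hAB : A * B = n := Nat.ordProj_mul_ordCompl_eq_self n q
  have hcop : Nat.Coprime A B := (Nat.coprime_ordCompl hq hn0).pow_left _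
  have hBlt : B < n := Nat.div_lt_self (Nat.pos_of_ne_zero hn0) (Nat.one_lt_pow
    (hq.factorization_pos_of_dvd hn0 hqn).ne' hq.one_lt)
  set a := x ^ B with ha
  set b := x ^ A with hb
  have hao : orderOf a = A := by
    rw [ha, orderOf_pow_of_dvd (Nat.ordCompl_pos q hn0).ne' (hn ▸ Nat.ordCompl_dvd _ _), hn]
    exact Nat.div_eq_of_eq_mul_left (Nat.ordCompl_pos q hn0) hAB.symm
  have hbo : orderOf b = B := by
    rw [hb, orderOf_pow_of_dvd (pow_ne_zero _ hq.ne_zero) (hn ▸ Nat.ordProj_dvd _ _), hn]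
  obtain ⟨k, hk, hk'⟩ := fusion_pGroup hh hD hqπ _ (zpowers a) rfl
    (IsPGroup.of_card (n := n.factorization q) (by rw [Nat.card_zpowers, hao]))
    (zpowers_le.2 (K.pow_mem hx B)) c hc (by
      rintro u ⟨i, rfl⟩
      simp only [← conj_zpow, ha, ← conj_pow]
      exact K.zpow_mem (K.pow_mem hcx B) i)
  have hka : k * a * k⁻¹ = c * a * c⁻¹ := hk' a (mem_zpowers a)
  have hC' : Dom π (C ⊓ centralizer {a}) (K ⊓ centralizer {a}) := by
    refine ⟨inf_le_inf_right _ hD.le, fun r hr h => hD.isPi r hr (h.trans (card_dvd_of_le inf_le_left)),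
      fun S hS hSπ => ?_⟩
    have hpi : Cfsg.IsPiSubgroup π (zpowers a ⊔ S) := by
      have hcomm : ∀ (u : zpowers a) (s : S), Commute ((zpowers a).subtype u) (S.subtype s) := by
        rintro ⟨_, i, rfl⟩ ⟨s, hs⟩
        exact (show Commute s a from mem_centralizer_singleton_iff.1 (hS hs).2).symm.zpow_left i
      intro r hr hd
      have h2 : Nat.card (zpowers a ⊔ S : Subgroup G) ∣ Nat.card (zpowers a) * Nat.card S := by
        have h3 := card_range_dvd (MonoidHom.noncommCoprod (zpowers a).subtype S.subtype hcomm)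
        rwa [MonoidHom.noncommCoprod_range, range_subtype, range_subtype, Nat.card_prod] at h3
      rcases hr.dvd_mul.1 (hd.trans h2) with h | h
      · exact hD.isPi r hr (h.trans (card_dvd_of_le (zpowers_le.2 (K.pow_mem hx B))))
      · exact hSπ r hr h
    obtain ⟨d, hd, hdS⟩ := hD.dom _ (sup_le (zpowers_le.2 (C.pow_mem (hD.le hx) B))
      (hS.trans inf_le_left)) hpi
    obtain ⟨k₂, hk₂, hk₂'⟩ := fusion_pGroup hh hD hqπ _ (zpowers a) rfl
      (IsPGroup.of_card (n := n.factorization q) (by rw [Nat.card_zpowers, hao]))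
      (zpowers_le.2 (K.pow_mem hx B)) d hd fun u hu => hdS u (mem_sup_left hu)
    have he : k₂⁻¹ * d * a = a * (k₂⁻¹ * d) := by
      have h := hk₂' a (mem_zpowers a)
      calc k₂⁻¹ * d * a = k₂⁻¹ * (d * a * d⁻¹) * d := by group
        _ = _ := by rw [← h]; group
    refine ⟨k₂⁻¹ * d, ⟨C.mul_mem (C.inv_mem (hD.le hk₂)) hd,
      mem_centralizer_singleton_iff.2 he⟩, fun s hs => ⟨?_, ?_⟩⟩
    · rw [show k₂⁻¹ * d * s * (k₂⁻¹ * d)⁻¹ = k₂⁻¹ * (d * s * d⁻¹) * k₂ by group]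
      exact K.mul_mem (K.mul_mem (K.inv_mem hk₂) (hdS s (mem_sup_right hs))) hk₂
    · have hd' : k₂⁻¹ * d ∈ centralizer {a} := mem_centralizer_singleton_iff.2 he
      exact Subgroup.mul_mem _ (Subgroup.mul_mem _ hd' (hS hs).2) (Subgroup.inv_mem _ hd')
  have hxa : x ∈ centralizer {a} := mem_centralizer_singleton_iff.2 ((Commute.refl x).pow_right B).eq
  have hbK : b ∈ K ⊓ centralizer {a} := ⟨K.pow_mem hx A, Subgroup.pow_mem _ hxa A⟩
  have he : k⁻¹ * c * a = a * (k⁻¹ * c) := by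
    calc k⁻¹ * c * a = k⁻¹ * (c * a * c⁻¹) * c := by group
      _ = _ := by rw [← hka]; group
  have hc' : k⁻¹ * c ∈ C ⊓ centralizer {a} :=
    ⟨C.mul_mem (C.inv_mem (hD.le hk)) hc, mem_centralizer_singleton_iff.2 he⟩
  have hcb : k⁻¹ * c * b * (k⁻¹ * c)⁻¹ ∈ K ⊓ centralizer {a} := by
    refine ⟨?_, Subgroup.mul_mem _ (Subgroup.mul_mem _ hc'.2 hbK.2) (Subgroup.inv_mem _ hc'.2)⟩
    rw [show k⁻¹ * c * b * (k⁻¹ * c)⁻¹ = k⁻¹ * (c * b * c⁻¹) * k by group, hb, ← conj_pow]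
    exact K.mul_mem (K.mul_mem (K.inv_mem hk) (K.pow_mem hcx A)) hk
  obtain ⟨l, hl, hl'⟩ := ih B hBlt b _ _ hbo hC' hbK (k⁻¹ * c) hc' hcb
  refine ⟨k * l, K.mul_mem hk hl.1, ?_⟩
  have hla : Commute l a := mem_centralizer_singleton_iff.1 hl.2
  have e1 : k * l * a * (k * l)⁻¹ = c * a * c⁻¹ := by
    rw [← hka, show k * l * a * (k * l)⁻¹ = k * (l * a * l⁻¹) * k⁻¹ by group, hla.eq,
      mul_inv_cancel_right]
  have e2 : k * l * b * (k * l)⁻¹ = c * b * c⁻¹ := by
    rw [show k * l * b * (k * l)⁻¹ = k * (l * b * l⁻¹) * k⁻¹ by group, hl']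
    group
  have hxab : x = a ^ (A.gcdB B) * b ^ (A.gcdA B) := by
    rw [ha, hb, ← zpow_natCast, ← zpow_natCast x A, ← zpow_mul, ← zpow_mul, ← zpow_add, add_comm,
      ← Nat.gcd_eq_gcd_ab, hcop.gcd_eq_one, Nat.cast_one, zpow_one]
  have hconj : ∀ g : G, g * x * g⁻¹ = (g * a * g⁻¹) ^ A.gcdB B * (g * b * g⁻¹) ^ A.gcdA B := fun g => by
    rw [conj_zpow, conj_zpow, conj_mul, ← hxab]
  rw [hconj, hconj, e1, e2]

end H62.PiHom
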