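import Cfsg.Agent.H62.PiHomFusion
import Cfsg.Agent.H14.HallTransfer

/-!
A `π`-homogeneous group whose maximal `π`-subgroups are conjugate has a normal `π`-complement.
-/

set_option autoImplicit false
set_option linter.unusedSectionVars false

namespace H62.PiHom

open Subgroup

variable {G : Type*} [Group G] [Finite G]

theorem exists_dom {π : Set ℕ} (hD : Cfsg.IsDPiGroup π G) :
    ∃ H : Subgroup G, Dom π ⊤ H ∧ Nat.Coprime (Nat.card H) H.index := by
  have hbot : Cfsg.IsPiSubgroup π (⊥ : Subgroup G) := fun p hp h => by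
    rw [card_bot] at h; exact absurd h hp.not_dvd_one
  obtain ⟨H, -, hH⟩ := (Set.toFinite {A : Subgroup G | Cfsg.IsPiSubgroup π A}).exists_le_maximal hbot
  have hdom : ∀ A, Cfsg.IsPiSubgroup π A → ∃ g : G, ∀ a ∈ A, g * a * g⁻¹ ∈ H := by
    intro A hA
    obtain ⟨M, hAM, hM⟩ :=
      (Set.toFinite {A : Subgroup G | Cfsg.IsPiSubgroup π A}).exists_le_maximal hA
    obtain ⟨g, hg⟩ := hD M H hM hH
    exact ⟨g, fun a ha => hg ▸ cj_mem (hAM ha)⟩
  refine ⟨H, ⟨le_top, hH.prop, fun A _ hA => (hdom A hA).imp fun g hg => ⟨mem_top g, hg⟩⟩, ?_⟩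
  by_contra hc
  obtain ⟨p, hp, hpH, hpi⟩ := Nat.Prime.not_coprime_iff_dvd.1 hc
  haveI := Fact.mk hp
  obtain ⟨P⟩ : Nonempty (Sylow p G) := inferInstance
  obtain ⟨g, hg⟩ := hdom P (isPi_of_isPGroup (hH.prop p hp hpH) P.isPGroup')
  have h1 : cj g (P : Subgroup G) ≤ H := cj_le hg
  have h2 : (cj g (P : Subgroup G)).index = (P : Subgroup G).index :=
    index_map_of_bijective (f := (MulAut.conj g).toMonoidHom) (MulEquiv.bijective (MulAut.conj g)) _
  exact P.not_dvd_index (h2 ▸ hpi.trans (index_dvd_of_le h1))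

/-- The `π'`-elements of a `π`-homogeneous `D_π`-group form a subgroup. -/
theorem exists_complement {π : Set ℕ} (hD : Cfsg.IsDPiGroup π G) (hh : Hom π G) :
    ∃ K : Subgroup G, ∀ x : G, x ∈ K ↔ ∀ p : ℕ, p.Prime → p ∣ orderOf x → p ∉ π := by
  letI : Fintype G := Fintype.ofFinite G
  obtain ⟨H, hH, hHall⟩ := exists_dom hD
  obtain ⟨K, hKn, hKH, hKd⟩ := H14.hall_transfer H hHall
    (fun x hx y hy hxy => by
      obtain ⟨g, rfl⟩ := isConj_iff.1 hxy
      exact fusion_elem hh _ x ⊤ H rfl hH hx g (mem_top g) hy)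
    (fun E p hp hE hd => by
      obtain ⟨g, -, hg⟩ := hH.dom E le_top fun r hr h => hH.isPi r hr (h.trans hd)
      exact ⟨g, cj_le hg⟩)
  haveI := hKn
  have hc : IsComplement' K H := by
    refine isComplement'_of_disjoint_and_mul_eq_univ (disjoint_iff.2 hKd) ?_
    rw [← normal_mul, hKH, coe_top]
  have hKc : Nat.card K = H.index := hc.index_eq_card.symm
  have hKi : K.index = Nat.card H := hc.symm.index_eq_card
  have hnot : ∀ p : ℕ, p.Prime → p ∣ H.index → p ∉ π := by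
    intro p hp hd hpπ
    haveI := Fact.mk hp
    obtain ⟨P⟩ : Nonempty (Sylow p G) := inferInstance
    obtain ⟨g, -, hg⟩ := hH.dom P le_top (isPi_of_isPGroup hpπ P.isPGroup')
    have h2 : (cj g (P : Subgroup G)).index = (P : Subgroup G).index :=
      index_map_of_bijective (f := (MulAut.conj g).toMonoidHom) (MulEquiv.bijective (MulAut.conj g)) _
    exact P.not_dvd_index (h2 ▸ hd.trans (index_dvd_of_le (cj_le hg : cj g (P : Subgroup G) ≤ H)))
  refine ⟨K, fun x => ⟨fun hx p hp hd => hnot p hp ?_, fun h => ?_⟩⟩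
  · rw [← hKc]
    exact hd.trans (by rw [← Nat.card_zpowers]; exact card_dvd_of_le (zpowers_le.2 hx))
  · rw [← QuotientGroup.eq_one_iff, ← orderOf_eq_one_iff]
    refine Nat.eq_one_of_dvd_coprimes ?_ (orderOf_map_dvd (QuotientGroup.mk' K) x)
      ((_root_.orderOf_dvd_natCard _).trans (hKi ▸ dvd_rfl : Nat.card (G ⧸ K) ∣ Nat.card H))
    by_contra hcop
    obtain ⟨r, hr, hr1, hr2⟩ := Nat.Prime.not_coprime_iff_dvd.1 hcop
    exact h r hr hr1 (hH.isPi r hr hr2)

end H62.PiHom
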